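import Cfsg.Agent.H175.Ore.HNFus
import Cfsg.Agent.H511.Ore.WRow_m3
import Cfsg.Agent.H775.S4790.Quot
import Cfsg.Agent.H507.Conj.Cc
import Cfsg.Agent.H845.HNNineteen
import Cfsg.Agent.H606.OreM.Ok_m3
import Mathlib.Data.Nat.Prime.Basic
import Mathlib.Data.Nat.GCD.Basic
import Mathlib.Tactic.Ring
import Mathlib.Tactic.Linarith
import Mathlib.Tactic.NormNum.Prime
import Cfsg.Agent.H58.Cop.MSc_m3
import Cfsg.Agent.H65.Ore.Split_m3
import Cfsg.Agent.H134.Sq.Base_m3
import Cfsg.Agent.Prune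
set_option linter.all false

section
prune_inst 0x7ffffffeffabfddfffff7e3fffdcdffe33c7cfffefdff943ffedebbfdfff933f2be5fba58de4f8fede57e27c18b87853fb7eefffe36fdc7ffffdffb41ffbee4ff7ffb70d71d4be3496ee2fff93f1572e6f3ffff7ffffffffffffffffffffffffffffefffffff

-- part: H175/Ore/HNDeg
section
prune_inst 0x100000000000000000002000000000000100002080000000020002000140004001000000100000082a0020000000000000c00000000000000000000000000008000080080000000000000004000000000000000000000000000000000000000000000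
set_option linter.all false
open scoped Cfsg.Agent.FastGrp

-- part: H175/Ore/HNNum
section
/-!
# The numerical part of the degrees at most 770 of `HN` (helper175)
-/

set_option autoImplicit false

namespace Cfsg.Agent.H175.Ore.HNNum

open Cfsg.Agent.H175.Ore.SymTab (rows)

/-- a sum over 14 indices -/
theorem sum14 (f : Fin 14 → ℤ) : ∑ i, f i = f 0 + f 1 + f 2 + f 3 + f 4 + f 5 + f 6 + f 7 + f 8 + f 9 + f 10 + f 11 +
    f 12 + f 13 := by
  simp only [Fin.sum_univ_castSucc, Fin.sum_univ_zero, zero_add]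
  rfl

theorem col0 (n : Fin 14 → ℕ) : ∑ i : Fin 14, (n i : ℤ) * (rows.getD i []).getD ((0 : Fin 6) : ℕ) 0 =
    n 0 + 11 * n 1 + 54 * n 2 + 55 * n 3 + 132 * n 4 + 154 * n 5 + 165 * n 6 + 275 * n 7 + 297 * n 8 + 320 * n 9 +
      330 * n 10 + 462 * n 11 + 462 * n 12 + 616 * n 13 := by
  rw [sum14]
  change (n 0 : ℤ) * 1 + n 1 * 11 + n 2 * 54 + n 3 * 55 + n 4 * 132 + n 5 * 154 + n 6 * 165 + n 7 * 275 + n 8 * 297 +
    n 9 * 320 + n 10 * 330 + n 11 * 462 + n 12 * 462 + n 13 * 616 = _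
  ring

theorem col1 (n : Fin 14 → ℕ) : ∑ i : Fin 14, (n i : ℤ) * (rows.getD i []).getD ((1 : Fin 6) : ℕ) 0 =
    9 * n 1 + 27 * n 2 + 27 * n 3 + 45 * n 5 + 54 * n 6 + 54 * n 7 + 27 * n 8 + 108 * n 9 +
      81 * n 10 - 54 * n 11 + 81 * n 12 + 108 * n 13 := by
  rw [sum14]
  change (n 0 : ℤ) * 0 + n 1 * 9 + n 2 * 27 + n 3 * 27 + n 4 * 0 + n 5 * 45 + n 6 * 54 + n 7 * 54 + n 8 * 27 +
    n 9 * 108 + n 10 * 81 + n 11 * (-54) + n 12 * 81 + n 13 * 108 = _
  ring

theorem col2 (n : Fin 14 → ℕ) : ∑ i : Fin 14, (n i : ℤ) * (rows.getD i []).getD ((2 : Fin 6) : ℕ) 0 =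
    8 * n 1 + 16 * n 2 + 24 * n 3 + 48 * n 5 + 16 * n 6 + 40 * n 7 + 64 * n 8 + 64 * n 9 -
      16 * n 10 - 16 * n 11 - 32 * n 12 + 32 * n 13 := by
  rw [sum14]
  change (n 0 : ℤ) * 0 + n 1 * 8 + n 2 * 16 + n 3 * 24 + n 4 * 0 + n 5 * 48 + n 6 * 16 + n 7 * 40 + n 8 * 64 +
    n 9 * 64 + n 10 * (-16) + n 11 * (-16) + n 12 * (-32) + n 13 * 32 = _
  ring

theorem col3 (n : Fin 14 → ℕ) : ∑ i : Fin 14, (n i : ℤ) * (rows.getD i []).getD ((3 : Fin 6) : ℕ) 0 =
    n 0 - n 2 + n 9 := by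
  rw [sum14]
  change (n 0 : ℤ) * 1 + n 1 * 0 + n 2 * (-1) + n 3 * 0 + n 4 * 0 + n 5 * 0 + n 6 * 0 + n 7 * 0 + n 8 * 0 +
    n 9 * 1 + n 10 * 0 + n 11 * 0 + n 12 * 0 + n 13 * 0 = _
  ring

theorem col4 (n : Fin 14 → ℕ) : ∑ i : Fin 14, (n i : ℤ) * (rows.getD i []).getD ((4 : Fin 6) : ℕ) 0 =
    n 0 + 7 * n 1 + 22 * n 2 + 19 * n 3 + 20 * n 4 + 42 * n 5 + 21 * n 6 + 55 * n 7 + 49 * n 8 + 64 * n 9 -
      6 * n 10 + 14 * n 11 - 42 * n 12 + 56 * n 13 := by
  rw [sum14]
  change (n 0 : ℤ) * 1 + n 1 * 7 + n 2 * 22 + n 3 * 19 + n 4 * 20 + n 5 * 42 + n 6 * 21 + n 7 * 55 + n 8 * 49 +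
    n 9 * 64 + n 10 * (-6) + n 11 * 14 + n 12 * (-42) + n 13 * 56 = _
  ring

theorem col5 (n : Fin 14 → ℕ) : ∑ i : Fin 14, (n i : ℤ) * (rows.getD i []).getD ((5 : Fin 6) : ℕ) 0 =
    n 0 + 3 * n 1 + 6 * n 2 - n 3 + 4 * n 4 + 10 * n 5 - 11 * n 6 + 11 * n 7 + 9 * n 8 -
      6 * n 10 - 2 * n 11 + 14 * n 12 + 8 * n 13 := by
  rw [sum14]
  change (n 0 : ℤ) * 1 + n 1 * 3 + n 2 * 6 + n 3 * (-1) + n 4 * 4 + n 5 * 10 + n 6 * (-11) + n 7 * 11 + n 8 * 9 +
    n 9 * 0 + n 10 * (-6) + n 11 * (-2) + n 12 * 14 + n 13 * 8 = _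
  ring

/-- the solutions -/
theorem solve {d : ℕ} {n0 n1 n2 n3 n4 n5 n6 n7 n8 n9 n10 n11 n12 n13 : ℕ} (h770 : d ≤ 770)
    (f0 : (d : ℤ) = n0 + 11 * n1 + 54 * n2 + 55 * n3 + 132 * n4 + 154 * n5 + 165 * n6 + 275 * n7 + 297 * n8 +
      320 * n9 + 330 * n10 + 462 * n11 + 462 * n12 + 616 * n13)
    (f1 : (0 : ℤ) = 9 * n1 + 27 * n2 + 27 * n3 + 45 * n5 + 54 * n6 + 54 * n7 + 27 * n8 + 108 * n9 +
      81 * n10 - 54 * n11 + 81 * n12 + 108 * n13)
    (f2 : (0 : ℤ) = 8 * n1 + 16 * n2 + 24 * n3 + 48 * n5 + 16 * n6 + 40 * n7 + 64 * n8 + 64 * n9 -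
      16 * n10 - 16 * n11 - 32 * n12 + 32 * n13) :
    (n1 = 0 ∧ n2 = 0 ∧ n3 = 0 ∧ n5 = 0 ∧ n7 = 0 ∧ n8 = 0 ∧ n9 = 0 ∧ n10 = 0 ∧ n12 = 0 ∧ n13 = 0) ∧
      ((n6 = 0 ∧ n11 = 0) ∨ (n6 = 1 ∧ n11 = 1)) := by
  have g0 : d = n0 + 11 * n1 + 54 * n2 + 55 * n3 + 132 * n4 + 154 * n5 + 165 * n6 + 275 * n7 + 297 * n8 +
      320 * n9 + 330 * n10 + 462 * n11 + 462 * n12 + 616 * n13 := by exact_mod_cast f0
  have g1 : 54 * n11 = 9 * n1 + 27 * n2 + 27 * n3 + 45 * n5 + 54 * n6 + 54 * n7 + 27 * n8 + 108 * n9 +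
      81 * n10 + 81 * n12 + 108 * n13 := by
    zify
    linarith only [f1]
  have g2 : 16 * n10 + 16 * n11 + 32 * n12 = 8 * n1 + 16 * n2 + 24 * n3 + 48 * n5 + 16 * n6 + 40 * n7 + 64 * n8 +
      64 * n9 + 32 * n13 := by
    zify
    linarith only [f2]
  clear f0 f1 f2
  have h11 : n11 < 2 := by linarith only [h770, g0]
  rcases (show n11 = 0 ∨ n11 = 1 by clear g0 g1 g2; omega) with h11' | h11'
  · subst h11'
    clear g2 g0 h11
    simp only [mul_zero] at g1
    have h := g1.symm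
    simp only [Nat.add_eq_zero_iff, mul_eq_zero] at h
    simp at h
    (clear * - h; tauto)
  · subst h11'
    have h9 : n9 < 1 := by linarith only [h770, g0]
    have h10 : n10 < 1 := by linarith only [h770, g0]
    have h12 : n12 < 1 := by linarith only [h770, g0]
    have h13 : n13 < 1 := by linarith only [h770, g0]
    rw [Nat.lt_one_iff] at h9 h10 h12 h13
    subst h9 h10 h12 h13
    have h3 : n3 < 1 := by linarith only [g2]
    have h5 : n5 < 1 := by linarith only [g2]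
    have h7 : n7 < 1 := by linarith only [g2]
    have h8 : n8 < 1 := by linarith only [g2]
    rw [Nat.lt_one_iff] at h3 h5 h7 h8
    subst h3 h5 h7 h8
    clear g0 h11
    simp only [mul_zero, add_zero, zero_add, mul_one] at g1 g2
    refine ⟨⟨?_, ?_, rfl, rfl, rfl, rfl, rfl, rfl, rfl, rfl⟩, Or.inr ⟨?_, rfl⟩⟩ <;> omega

/-- the divisors -/
theorem cases_d {d a b : ℕ} (ha : a ≤ 4) (h770 : d ≤ 770) (hd : d = a + 132 * b ∨ d = 627 + a + 132 * b)
    (h1 : d ≠ 1) (h19 : d % 19 = 0 ∨ d % 19 = 1 ∨ d % 19 = 18 ∨ d % 19 = 9 ∨ d % 19 = 10)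
    (h11 : d % 11 = 0 ∨ d % 11 = 1 ∨ d % 11 = 10) (hN : 273030912000000 % d = 0) :
    d = 133 ∨ d = 760 ∨ (d = 132 ∧ a = 0 ∧ b = 1) ∨ (d = 627 ∧ a = 0 ∧ b = 0 ∧ d = 627 + a + 132 * b) := by
  have hb : b ≤ 5 := by (clear * - h770 hd; omega)
  rcases hd with rfl | rfl <;> interval_cases a <;> interval_cases b <;> simp_all
end Cfsg.Agent.H175.Ore.HNNum
end

-- part: H175/Ore/HNDeg
section
/-!
# The degrees at most 770 of the Harada-Norton group (helper175)

* `deg_cases` : a nontrivial irreducible character of `HN` has degree 133, 760, or more than 770.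
-/

set_option autoImplicit false
set_option maxRecDepth 100000

namespace Cfsg.Agent.H175.Ore.HNDeg

open Cfsg Subgroup Cfsg.Agent.Characters.Core
open Cfsg.Agent.CpAutHN.Alt Cfsg.Agent.CpAutHN.Pairs Cfsg.Agent.H175.Ore.HNFus Cfsg.Agent.H175.Ore.HNNum
open Cfsg.Agent.H175.Ore.AltRows (x4 x4_mem t6 t6_mem x11 x11_mem exists_comb vA vP)
open Cfsg.Agent.H175.Ore.SymTab (rows)

universe u

/-- the values of a character of degree at most 770 -/
theorem values {χ : Cfsg.Spor.HN → ℂ} (hχ : IsIrrCharacter Cfsg.Spor.HN χ) {d : ℕ} (hd : χ 1 = d) (h770 : d ≤ 770) :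
    ∃ a b : ℕ, a ≤ 4 ∧ ((d = a + 132 * b ∧ χ (Φ ⟨t2, t2_mem⟩) = ((a + 20 * b : ℤ) : ℂ) ∧
        χ (Φ ⟨s1, s1_mem⟩) = ((a + 4 * b : ℤ) : ℂ)) ∨
      (d = 627 + a + 132 * b ∧ χ (Φ ⟨t2, t2_mem⟩) = ((35 + a + 20 * b : ℤ) : ℂ) ∧
        χ (Φ ⟨s1, s1_mem⟩) = ((a + 4 * b - 13 : ℤ) : ℂ))) := by
  have hfin := Cfsg.Agent.H710.Spor.HN.finite_hn
  have hcl : ∀ {g h : Cfsg.Spor.HN}, IsConj g h → χ g = χ h := by
    intro g h H
    obtain ⟨c, rfl⟩ := isConj_iff.1 H
    exact (isIrr_isClassFunction hχ g c).symm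
  obtain ⟨n, hn⟩ := exists_comb (θ := χ ∘ Φ) (isCharacter_comp Φ (isIrr_isCharacter hχ)) (d := d)
    (by rw [Function.comp_apply, map_one, hd]) h770
  have e0 := hn 0
  have e1 := hn 1
  have e2 := hn 2
  have e3 := hn 3
  have e4 := hn 4
  have e5 := hn 5
  rw [col0] at e0
  rw [col1] at e1
  rw [col2] at e2
  rw [col3] at e3
  rw [col4] at e4
  rw [col5] at e5
  clear hn
  change (χ ∘ Φ) 1 = _ at e0
  change (χ ∘ Φ) ⟨x1, x1_mem⟩ - (χ ∘ Φ) ⟨x4, x4_mem⟩ = _ at e1
  change (χ ∘ Φ) ⟨t2, t2_mem⟩ - (χ ∘ Φ) ⟨t6, t6_mem⟩ = _ at e2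
  change (χ ∘ Φ) ⟨x11, x11_mem⟩ = _ at e3
  change (χ ∘ Φ) ⟨t2, t2_mem⟩ = _ at e4
  change (χ ∘ Φ) ⟨s1, s1_mem⟩ = _ at e5
  rw [Function.comp_apply] at e0 e3 e4 e5
  rw [Function.comp_apply, Function.comp_apply] at e1 e2
  rw [map_one, hd] at e0
  rw [hcl conj_three, sub_self] at e1
  rw [hcl conj_two, sub_self] at e2
  have f0 := (Int.cast_inj (α := ℂ)).1 ((Int.cast_natCast d).trans e0)
  have f1 := (Int.cast_inj (α := ℂ)).1 (Int.cast_zero.trans e1)
  have f2 := (Int.cast_inj (α := ℂ)).1 (Int.cast_zero.trans e2)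
  clear e0 e1 e2
  obtain ⟨⟨h1, h2, h3, h5, h7, h8, h9, h10, h12, h13⟩, h⟩ := solve h770 f0 f1 f2
  have hx : Complex.normSq (χ (Φ ⟨x11, x11_mem⟩)) ≤ 22 := by
    have h1 := Cfsg.Agent.H507.Conj.normSq_le_card hχ (Φ ⟨x11, x11_mem⟩)
    rw [card_cent order_x11] at h1
    exact_mod_cast h1
  rw [h1, h2, h3, h5, h7, h8, h9, h10, h12, h13] at f0 e4
  rw [h1, h2, h3, h5, h7, h8, h10, h12, h13] at e5
  rw [h2, h9] at e3
  have h4 : n 0 ≤ 4 := by
    rw [e3, Complex.normSq_intCast] at hx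
    have h5 : ((n 0 : ℤ) - ((0 : ℕ) : ℤ) + ((0 : ℕ) : ℤ)) * ((n 0 : ℤ) - ((0 : ℕ) : ℤ) + ((0 : ℕ) : ℤ)) ≤ 22 := by
      exact_mod_cast hx
    simp only [Nat.cast_zero, sub_zero, add_zero] at h5
    have h6 : n 0 * n 0 ≤ 22 := by exact_mod_cast h5
    nlinarith only [h5]
  refine ⟨n 0, n 4, h4, ?_⟩
  rcases h with ⟨h6, h11⟩ | ⟨h6, h11⟩
  · left
    rw [h6, h11] at f0 e4 e5
    refine ⟨?_, ?_, ?_⟩
    · have : (d : ℤ) = n 0 + 132 * n 4 := by rw [f0]; push_cast; ring
      exact_mod_cast this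
    · rw [e4]; push_cast; ring
    · rw [e5]; push_cast; ring
  · right
    rw [h6, h11] at f0 e4 e5
    refine ⟨?_, ?_, ?_⟩
    · have : (d : ℤ) = 627 + n 0 + 132 * n 4 := by rw [f0]; push_cast; ring
      exact_mod_cast this
    · rw [e4]; push_cast; ring
    · rw [e5]; push_cast; ring

/-! ### Characters of degree divisible by 11 -/

theorem card_hn : Nat.card Cfsg.Spor.HN = 273030912000000 := Cfsg.Agent.H710.Spor.HN.card_hn

/-- the value of a character of 11-defect zero at an involution of the centralizer of an element of order 11 -/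
theorem eleven (χ : IrrCharacter Cfsg.Spor.HN) (h11 : 11 ∣ charDegree (χ : Cfsg.Spor.HN → ℂ)) :
    ∃ t : Cfsg.Spor.HN, orderOf t = 2 ∧ IsIntegral ℤ ((11 : ℂ)⁻¹ * (χ : Cfsg.Spor.HN → ℂ) t) := by
  have hfin := Cfsg.Agent.H710.Spor.HN.finite_hn
  have : Fact (Nat.Prime 2) := ⟨Nat.prime_two⟩
  have hx := order_x11
  set x : Cfsg.Spor.HN := Φ ⟨x11, x11_mem⟩ with hxdef
  obtain ⟨t, ht⟩ := exists_prime_orderOf_dvd_card' (G := centralizer ({x} : Set Cfsg.Spor.HN)) 2
    (by rw [card_cent hx]; norm_num)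
  have ht' : orderOf (t : Cfsg.Spor.HN) = 2 := by rw [Subgroup.orderOf_coe, ht]
  have hc : Commute (t : Cfsg.Spor.HN) x := mem_centralizer_singleton_iff.1 t.2
  refine ⟨t, ht', ?_⟩
  have hft := Fintype.ofFinite (zpowers x)
  have h1 := Cfsg.Agent.H775.S4790.isIntegral_avg (zpowers x).subtype (y := (t : Cfsg.Spor.HN)) (r := 2) (by norm_num)
    (by rw [← ht', pow_orderOf_eq_one]) (fun q => by
      obtain ⟨k, hk⟩ := mem_zpowers_iff.1 q.2
      change Commute (t : Cfsg.Spor.HN) (q : Cfsg.Spor.HN)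
      rw [← hk]
      exact hc.zpow_right k) (isIrr_isCharacter χ.2)
  rw [Nat.card_zpowers, hx, Finset.sum_eq_single 1] at h1
  · rw [map_one, mul_one] at h1
    exact h1
  · intro q _ hq
    refine Cfsg.Agent.H511.Ore.vanish_of_dvd (p := 11) (n := 1) (by norm_num) (by rw [card_hn]; norm_num)
      (by rw [card_hn]; norm_num) (by rwa [pow_one]) ?_
    obtain ⟨k, hk⟩ := mem_zpowers_iff.1 q.2
    have hcq : Commute (t : Cfsg.Spor.HN) (q : Cfsg.Spor.HN) := by
      rw [← hk]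
      exact hc.zpow_right k
    have hq11 : orderOf (q : Cfsg.Spor.HN) = 11 := by
      have h2 : orderOf (q : Cfsg.Spor.HN) ∣ 11 := by
        have h3 : orderOf q ∣ Nat.card (zpowers x) := _root_.orderOf_dvd_natCard q
        rw [Nat.card_zpowers, hx] at h3
        rwa [Subgroup.orderOf_coe]
      rcases (Nat.dvd_prime (by norm_num)).1 h2 with h3 | h3
      · exfalso
        rw [Subgroup.orderOf_coe, orderOf_eq_one_iff] at h3
        exact hq h3
      · exact h3
    change 11 ∣ orderOf ((t : Cfsg.Spor.HN) * (q : Cfsg.Spor.HN))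
    rw [hcq.orderOf_mul_eq_mul_orderOf_of_coprime (by rw [ht', hq11]; norm_num), ht', hq11]
    norm_num
  · intro h
    exact absurd (Finset.mem_univ _) h

/-- an integer divided by 11 -/
theorem dvd_of_isIntegral {m : ℤ} (h : IsIntegral ℤ ((11 : ℂ)⁻¹ * (m : ℂ))) : (11 : ℤ) ∣ m := by
  have h1 : IsIntegral ℤ ((m / 11 : ℚ)) := by
    have h2 : (algebraMap ℚ ℂ) (m / 11 : ℚ) = (11 : ℂ)⁻¹ * (m : ℂ) := by
      rw [map_div₀, map_intCast, map_ofNat, mul_comm, div_eq_mul_inv]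
    rw [← h2] at h
    exact (isIntegral_algebraMap_iff (algebraMap ℚ ℂ).injective).1 h
  obtain ⟨k, hk⟩ := IsIntegrallyClosed.isIntegral_iff.1 h1
  refine ⟨k, ?_⟩
  have h3 : ((k : ℤ) : ℚ) = (m : ℚ) / 11 := by rw [← hk]; rfl
  have h4 : (m : ℚ) = 11 * k := by rw [h3]; ring
  exact_mod_cast h4

/-- the data for the primes 19 and 11 -/
def cd : List Cfsg.Agent.H651.Two.CD :=
  [⟨19, 1, 9, 2, [(0, 0), (1, 2), (18, -2), (9, -1), (10, 1)], 0, false⟩,
    ⟨11, 2, 10, 1, [(0, 0), (1, 1), (10, -1)], 0, false⟩]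

theorem cd_ok : (cd.all (Cfsg.Agent.H651.Two.CD.ok 273030912000000)) = true := by decide +kernel

theorem cd_has : ∀ d ∈ cd, d.Has Cfsg.Spor.HN := by
  have hfin := Cfsg.Agent.H710.Spor.HN.finite_hn
  intro d hd
  simp only [cd, List.mem_cons, List.not_mem_nil, or_false] at hd
  rcases hd with rfl | rfl
  · refine ⟨by norm_num, ?_⟩
    obtain ⟨x, hx, hc⟩ := Cfsg.Agent.H845.HNNineteen.hn_nineteen
    exact ⟨x, hx, hc⟩
  · exact ⟨by norm_num, Φ ⟨x11, x11_mem⟩, order_x11, card_cent order_x11⟩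

theorem not_comm : ¬ IsMulCommutative Cfsg.Spor.HN := by
  intro h
  have h1 : Nat.card (centralizer ({Φ ⟨x11, x11_mem⟩} : Set Cfsg.Spor.HN)) = Nat.card Cfsg.Spor.HN := by
    have h2 : centralizer ({Φ ⟨x11, x11_mem⟩} : Set Cfsg.Spor.HN) = ⊤ := by
      rw [eq_top_iff]
      intro g _
      rw [mem_centralizer_singleton_iff]
      exact mul_comm' _ _
    rw [h2, card_top]
  rw [card_cent order_x11, card_hn] at h1
  norm_num at h1

/-- **The degrees at most 770 of `HN`.** -/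
theorem deg_cases {χ : IrrCharacter Cfsg.Spor.HN} (h1 : (χ : Cfsg.Spor.HN → ℂ) ≠ 1) :
    charDegree (χ : Cfsg.Spor.HN → ℂ) = 133 ∨ charDegree (χ : Cfsg.Spor.HN → ℂ) = 760 ∨
      770 < charDegree (χ : Cfsg.Spor.HN → ℂ) := by
  have hfin := Cfsg.Agent.H710.Spor.HN.finite_hn
  by_cases h770 : 770 < charDegree (χ : Cfsg.Spor.HN → ℂ)
  · exact Or.inr (Or.inr h770)
  rw [not_lt] at h770
  set d := charDegree (χ : Cfsg.Spor.HN → ℂ) with hd
  have hd1 : (χ : Cfsg.Spor.HN → ℂ) 1 = d := by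
    obtain ⟨k, -, hk⟩ := isIrr_apply_one χ.2
    rw [hd, Blocks.Basic.charDegree_of_eq hk, hk]
  have hdvd := Cfsg.Agent.H511.Ore.charDegree_dvd χ
  rw [card_hn, ← hd] at hdvd
  have hd2 := Cfsg.Agent.H511.Ore.two_le_charDegree not_comm χ h1
  have r19 := Cfsg.Agent.H511.Ore.res_of_has not_comm card_hn (cd_has _ List.mem_cons_self)
    (List.all_eq_true.1 cd_ok _ List.mem_cons_self) χ
  have r11 := Cfsg.Agent.H511.Ore.res_of_has not_comm card_hn (cd_has _ (List.mem_cons_of_mem _ List.mem_cons_self))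
    (List.all_eq_true.1 cd_ok _ (List.mem_cons_of_mem _ List.mem_cons_self)) χ
  rw [← hd] at hd2 r19 r11
  simp only [List.any_cons, List.any_nil, Bool.or_eq_true, Bool.or_false] at r19 r11
  have hb : ∀ {a b : ℕ}, Nat.beq a b = true → a = b := Nat.eq_of_beq_eq_true
  obtain ⟨a, b, ha, h⟩ := values χ.2 hd1 h770
  have hcase := cases_d ha h770 (h.imp (fun h => h.1) fun h => h.1) (by omega)
    (r19.imp hb (Or.imp hb (Or.imp hb (Or.imp hb hb)))) (r11.imp hb (Or.imp hb hb))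
    (Nat.mod_eq_zero_of_dvd hdvd)
  rcases hcase with h2 | h2 | h2 | h2
  · exact Or.inl h2
  · exact Or.inr (Or.inl h2)
  all_goals
    exfalso
    obtain ⟨t, ht, hint⟩ := eleven χ (by rw [← hd, h2.1]; norm_num)
    have hv : ∃ m : ℤ, (χ : Cfsg.Spor.HN → ℂ) t = m ∧ ¬ (11 : ℤ) ∣ m := by
      have hcl : ∀ {g h : Cfsg.Spor.HN}, IsConj g h → (χ : Cfsg.Spor.HN → ℂ) g = (χ : Cfsg.Spor.HN → ℂ) h := by
        intro g h H
        obtain ⟨c, rfl⟩ := isConj_iff.1 H
        exact (isIrr_isClassFunction χ.2 g c).symm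
      rcases inv_cases ht with hc | hc
      · rcases h with ⟨h5, h6, h7⟩ | ⟨h5, h6, h7⟩
        · exact ⟨_, (hcl hc).trans h6, by omega⟩
        · exact ⟨_, (hcl hc).trans h6, by omega⟩
      · rcases h with ⟨h5, h6, h7⟩ | ⟨h5, h6, h7⟩
        · exact ⟨_, (hcl hc).trans h7, by omega⟩
        · exact ⟨_, (hcl hc).trans h7, by omega⟩
    obtain ⟨m, hm, hm'⟩ := hv
    rw [hm] at hint
    exact hm' (dvd_of_isIntegral hint)

/-- **The degrees at most 770 of a group isomorphic to `HN`.** -/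
theorem deg_cases_iso {S : Type u} [Group S] (h : Spor.IsoHN S) {χ : IrrCharacter S} (h1 : (χ : S → ℂ) ≠ 1) :
    charDegree (χ : S → ℂ) = 133 ∨ charDegree (χ : S → ℂ) = 760 ∨ 770 < charDegree (χ : S → ℂ) := by
  obtain ⟨e⟩ := h
  have hirr : IsIrrCharacter Cfsg.Spor.HN ((χ : S → ℂ) ∘ e.symm.toMonoidHom) :=
    isIrr_comp e.symm.toMonoidHom e.symm.surjective χ.2
  have h2 : (((⟨_, hirr⟩ : IrrCharacter Cfsg.Spor.HN) : Cfsg.Spor.HN → ℂ)) ≠ 1 := by
    intro h2
    apply h1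
    funext s
    have h3 := congrFun h2 (e s)
    change (χ : S → ℂ) (e.symm (e s)) = 1 at h3
    rw [e.symm_apply_apply] at h3
    exact h3
  have h3 := deg_cases h2
  have h4 : charDegree (((⟨_, hirr⟩ : IrrCharacter Cfsg.Spor.HN) : Cfsg.Spor.HN → ℂ)) = charDegree (χ : S → ℂ) := by
    obtain ⟨k, -, hk⟩ := isIrr_apply_one χ.2
    rw [Blocks.Basic.charDegree_of_eq hk]
    apply Blocks.Basic.charDegree_of_eq
    change (χ : S → ℂ) (e.symm 1) = k
    rw [map_one, hk]
  rw [h4] at h3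
  exact h3

/-- the divisors which are excluded -/
def ex : List ℕ := [10, 56, 66, 77, 132, 210, 275, 352, 495, 550, 560, 693, 704, 770]

/-- **The degrees prime to 19 of a group isomorphic to `HN`.** -/
theorem degOff_HN {S : Type u} [Group S] [Finite S] (h : Spor.IsoHN S) : Cfsg.Agent.H511.Ore.DegOff S 19 1188 := by
  obtain ⟨e⟩ := h
  have hs : IsSimpleGroup S := by
    have := Cfsg.Agent.H710.Spor.HN.isSimple_hn
    exact e.isSimpleGroup
  have hG : ¬ IsMulCommutative S := by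
    intro hc
    refine not_comm ⟨⟨fun a b => ?_⟩⟩
    obtain ⟨a, rfl⟩ := e.surjective a
    obtain ⟨b, rfl⟩ := e.surjective b
    rw [← map_mul, ← map_mul, mul_comm' a b]
  have hcd : ∀ d ∈ cd, d.Has S := by
    intro d hd
    obtain ⟨hp, x, hx, hc⟩ := cd_has d hd
    refine ⟨hp, e.symm x, by rw [MulEquiv.orderOf_eq, hx], ?_⟩
    rw [← hc]
    refine Nat.card_congr ⟨fun g => ⟨e g, ?_⟩, fun g => ⟨e.symm g, ?_⟩, fun g => ?_, fun g => ?_⟩
    · have := mem_centralizer_singleton_iff.1 g.2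
      rw [mem_centralizer_singleton_iff]
      have h2 := congrArg e this
      rwa [map_mul, map_mul, e.apply_symm_apply] at h2
    · have := mem_centralizer_singleton_iff.1 g.2
      rw [mem_centralizer_singleton_iff, ← map_mul, ← map_mul, this]
    · exact Subtype.ext (e.symm_apply_apply _)
    · exact Subtype.ext (e.apply_symm_apply _)
  refine Cfsg.Agent.H511.Ore.degOff_of_check (m := 1) (ex := ex) hG 273030912000000
    (by rw [Nat.card_congr e.toEquiv, card_hn]) [(2, 14), (3, 6), (5, 6), (7, 1), (11, 1), (19, 1)] (by decide +kernel)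
    (by decide +kernel) cd cd_ok hcd ?_ ?_ (by decide +kernel)
  · intro χ _
    obtain ⟨k, hk, hk'⟩ := isIrr_apply_one χ.2
    rw [Blocks.Basic.charDegree_of_eq hk']
    exact hk
  · intro χ hχ
    by_cases h1 : (χ : S → ℂ) = 1
    · rw [h1] at hχ
      have h2 : charDegree (1 : S → ℂ) = 1 := Blocks.Basic.charDegree_of_eq (by simp)
      rw [h2] at hχ
      revert hχ
      decide
    · rcases deg_cases_iso ⟨e⟩ h1 with h2 | h2 | h2
      · rw [h2] at hχ; revert hχ; decide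
      · rw [h2] at hχ; revert hχ; decide
      · have h3 : ∀ d ∈ ex, d ≤ 770 := by decide
        exact absurd (h3 _ hχ) (not_le.2 h2)

/-- the degrees prime to 11 -/
theorem deg_HN_eleven {S : Type u} [Group S] (h : Spor.IsoHN S) (χ : IrrCharacter S) (h1 : (χ : S → ℂ) ≠ 1) :
    charDegree (χ : S → ℂ) = 133 ∨ 760 ≤ charDegree (χ : S → ℂ) := by
  rcases deg_cases_iso h h1 with h2 | h2 | h2 <;> omega

end Cfsg.Agent.H175.Ore.HNDeg
end

private theorem dce_efb57c343706 : _root_.True := by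
  try have : _root_.True := by simp only [_root_.Cfsg.Agent.H175.Ore.HNDeg.cd.eq_1]
  exact _root_.True.intro
end

-- part: H606/OreM/CertP8
section
set_option linter.all false
open scoped Cfsg.Agent.FastGrp

-- part: H606/OreM/Lst
section
/-!
# Cutting the certificate of the sieve for the Monster into pieces (helper606)
-/

set_option autoImplicit false

namespace Cfsg.Agent.H606.OreM.Num

/-- the primes from 31 on -/
def lstA : List (ℕ × ℕ) := [(31, 1), (29, 1), (23, 1), (19, 1), (17, 1), (13, 3), (11, 2), (7, 6), (5, 9), (3, 20), (2, 46)]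

/-- the primes from 19 on -/
def lstB : List (ℕ × ℕ) := [(19, 1), (17, 1), (13, 3), (11, 2), (7, 6), (5, 9), (3, 20), (2, 46)]

/-- the primes from 29 on -/
def lstD : List (ℕ × ℕ) := [(29, 1), (23, 1), (19, 1), (17, 1), (13, 3), (11, 2), (7, 6), (5, 9), (3, 20), (2, 46)]

/-- the primes from 23 on -/
def lstE : List (ℕ × ℕ) := [(23, 1), (19, 1), (17, 1), (13, 3), (11, 2), (7, 6), (5, 9), (3, 20), (2, 46)]

/-- the test -/
def tst (l : List (ℕ × ℕ)) (x : ℕ) : Bool := chkL 6527402252 l (cert 4962352590 6527402253 tabs) x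

theorem tst_cons {p : ℕ} {l : List (ℕ × ℕ)} {x y : ℕ} (hy : x * p = y) (h0 : tst l x = true) (h1 : tst l y = true) :
    tst ((p, 1) :: l) x = true := by
  subst hy
  show pwL 6527402252 p 1 (tst l) x = true
  rw [pwL_succ, h0, Bool.true_and, pwL_zero, h1, Bool.or_true]

end Cfsg.Agent.H606.OreM.Num
end

-- part: H606/OreM/Split
section
/-!
# Cutting one test of the sieve for the Monster into pieces (memsplit, helper160)
-/

set_option autoImplicit false

namespace Cfsg.Agent.H606.OreM.Num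

theorem pwL_mono {L q : ℕ} {f g : ℕ → Bool} (h : ∀ d, f d = true → g d = true) :
    ∀ {k x : ℕ}, pwL L q k f x = true → pwL L q k g x = true
  | 0, x, h1 => h x h1
  | k + 1, x, h1 => by
    rw [pwL_succ, Bool.and_eq_true] at h1
    rw [pwL_succ, Bool.and_eq_true]
    refine ⟨h x h1.1, ?_⟩
    rcases Bool.or_eq_true_iff.1 h1.2 with h2 | h2
    · rw [h2, Bool.true_or]
    · rw [pwL_mono h h2, Bool.or_true]

theorem chkL_mono {L : ℕ} {f g : ℕ → Bool} (h : ∀ d, f d = true → g d = true) :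
    ∀ {l : List (ℕ × ℕ)} {x : ℕ}, chkL L l f x = true → chkL L l g x = true
  | [], x, h1 => h x h1
  | a :: l, x, h1 => by
    have h2 : pwL L a.1 a.2 (chkL L l f) x = true := h1
    show pwL L a.1 a.2 (chkL L l g) x = true
    exact pwL_mono (fun d hd => chkL_mono h hd) h2

/-- the test with a list of exceptions -/
def exc (l : List ℕ) (f : ℕ → Bool) (d : ℕ) : Bool :=
  Bool.rec (motive := fun _ => Bool) (f d) true (mem l d)

theorem of_exc {l : List ℕ} {f : ℕ → Bool} (h : ∀ d ∈ l, f d = true) (d : ℕ) (hd : exc l f d = true) :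
    f d = true := by
  unfold exc at hd
  cases h1 : mem l d
  · rw [h1] at hd
    exact hd
  · exact h d (mem_iff.1 h1)

theorem allB_half {f : ℕ → Bool} {n k lo lo' : ℕ} (h : lo + 2 ^ k = lo') (h0 : allB f n k lo = true)
    (h1 : allB f n k lo' = true) : allB f n (k + 1) lo = true := by
  subst h
  show (Nat.ble n lo || (allB f n k lo && allB f n k (lo + 2 ^ k))) = true
  rw [h0, h1, Bool.and_self, Bool.or_true]

theorem allB_big {f : ℕ → Bool} {n k lo : ℕ} (h : Nat.ble n lo = true) : allB f n k lo = true := by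
  cases k with
  | zero =>
    show (Nat.ble n lo || f lo) = true
    rw [h, Bool.true_or]
  | succ k =>
    show (Nat.ble n lo || (allB f n k lo && allB f n k (lo + 2 ^ k))) = true
    rw [h, Bool.true_or]

/-- the test at `j` with evaluated data -/
def testJ (Ts : List (ℕ × List ℕ)) (uB d ylo yn uA j : ℕ) : Bool := testX Ts uB d ylo yn (uA * j)

theorem testD_of {A B : ℕ} {T : List (ℕ × List (List ℕ × ℕ))} {d : ℕ} {Ts : List (ℕ × List ℕ)}
    {uA uB ylo yn lo n : ℕ} (hTs : (T.map fun a => (a.1, xres a.1 a.2 d)) = Ts)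
    (huA : d / Nat.gcd d A = uA) (huB : d / Nat.gcd d B = uB) (hylo : 40 * d / 2686976 - 1 = ylo)
    (hyn : (42 * d + 257) / 2686976 + 1 = yn) (hn : 12147 * (42 * d + 257) / 2039414784 / uA + 1 = n)
    (hlo : (47 * (40 * d) / 8060928 - 1) / uA = lo) (hy : Nat.ble yn 1048576 = true)
    (hx : Nat.ble n 2097152 = true)
    (hall : allB (testJ Ts uB d ylo yn uA) n 21 lo = true) : testD A B T d = true := by
  subst huA huB hTs hylo hyn hn hlo
  unfold testD
  cases T.any fun a => (xres a.1 a.2 d).isEmpty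
  · rw [cond_false, hy, hx, Bool.true_and, Bool.true_and]
    exact hall
  · rw [cond_true]

theorem cert_of {dn dx : ℕ} {T : List (ℕ × List (List ℕ × ℕ))} {d : ℕ} (h : testD cA cB T d = true) :
    cert dn dx T d = true := by
  unfold cert
  rw [h, Bool.or_true]
  cases bit 288230377762324482 (d % 59) <;> rfl

end Cfsg.Agent.H606.OreM.Num
end

-- part: H606/OreM/CertP8H1
section
/-! # The certificate of the sieve for the Monster, part 8, heavy degrees (memsplit, helper160) -/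

set_option autoImplicit false
set_option maxRecDepth 100000
set_option Elab.async false

namespace Cfsg.Agent.H606.OreM.Num

private theorem _root_.Cfsg.Agent.KO4432087.e0.{ku} {M : Nat → Sort ku} (φ : ∀ n, M n) {z : M Nat.zero} {s : ∀ n, M n → M (Nat.succ n)} (h0 : φ Nat.zero = z) (hs : ∀ n, φ (Nat.succ n) = s n (φ n)) (n : Nat) : φ n = @Nat.rec M z s n := Nat.rec h0 (fun n ih => (hs n).trans (congrArg (s n) ih)) n
private noncomputable def _root_.Cfsg.Agent.KO4432087.k1 : (by first | exact type_of% @Cfsg.Agent.H606.OreM.Num.allB | exact Unit : Sort _) := by first | (refine @Subtype.val _ (fun g => @Cfsg.Agent.H606.OreM.Num.allB = @g) (@Subtype.mk _ _ (@(fun (x0 : (@Nat → @Bool)) (x1 : @Nat) (x2 : @Nat) (x3 : @Nat) => @Nat.rec.{1} @(fun (x4 : @Nat) => (@Nat → @Bool)) @(fun (x4 : @Nat) => @Bool.rec.{1} @(fun (x5 : @Bool) => @Bool) (@x0 @x4) @Bool.true (@Nat.ble @x1 @x4)) @(fun (x4 : @Nat) (x5 : (@Nat → @Bool)) (x6 : @Nat) => @Bool.rec.{1}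 @(fun (x7 : @Bool) => @Bool) (@Bool.rec.{1} @(fun (x7 : @Bool) => @Bool) @Bool.false (@x5 (@Nat.add @x6 (@Nat.pow (nat_lit 2) @x4))) (@x5 @x6)) @Bool.true (@Nat.ble @x1 @x6)) @x2 @x3)) ?_); funext a0 a1 a2 a3; refine (congrFun (_root_.Cfsg.Agent.KO4432087.e0 (fun a2 a3 => @Cfsg.Agent.H606.OreM.Num.allB a0 a1 a2 a3) ?_ (fun c0 => ?_) a2) a3 :) <;> (rfl')) | exact @Cfsg.Agent.H606.OreM.Num.allB | exact ()
private theorem _root_.Cfsg.Agent.KO4432087.e1 : (by first | exact @Cfsg.Agent.H606.OreM.Num.allB = @_root_.Cfsg.Agent.KO4432087.k1 | exact True : Prop) := by first | (delta _root_.Cfsg.Agent.KO4432087.k1; exact @Subtype.property _ (fun g => @Cfsg.Agent.H606.OreM.Num.allB = @g) _) | rfl | trivial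
private noncomputable def _root_.Cfsg.Agent.KO4432087.k2 : (by first | exact type_of% @Cfsg.Agent.H606.OreM.Num.testY | exact Unit : Sort _) := by first | (refine @Subtype.val _ (fun g => @Cfsg.Agent.H606.OreM.Num.testY = @g) (@Subtype.mk _ _ (@(fun (x0 : @Nat) (x1 : @Nat) (x2 : @Nat) (x3 : @Nat) => @Bool.rec.{1} @(fun (x4 : @Bool) => @Bool) @Bool.true @Bool.false (@Bool.rec.{1} @(fun (x4 : @Bool) => @Bool) @Bool.false (@Bool.rec.{1} @(fun (x4 : @Bool) => @Bool) (@Nat.ble (@Nat.mul (@Nat.mul (nat_lit 3) (nat_lit 16775168)) (@Nat.div (@Nat.sub (@Nat.mul (nat_lit 3) @x2) (@Nat.mul (nat_lit 47) @x3)) (nat_lit 256))) (@Nat.add (@Nat.mul (nat_lit 3) @x1) (@Nat.mul (nat_lit 192489) (@Nat.sub (@Nat.mul (nat_lit 256) (@Nat.div (@Nat.sub (@Nat.mul (nat_lit 3) @x2) (@Nat.mul (nat_lit 47) @x3)) (nat_lit 256))) @x3)))) (@Nat.ble (@Nat.add (@Nat.mul (@Nat.mul (nat_lit 3) (nat_lit 16775168)) (@Nat.div (@Nat.sub (@Nat.mul (nat_lit 3) @x2) (@Nat.mul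 (nat_lit 47) @x3)) (nat_lit 256))) (@Nat.mul (nat_lit 196584) (@Nat.sub @x3 (@Nat.mul (nat_lit 256) (@Nat.div (@Nat.sub (@Nat.mul (nat_lit 3) @x2) (@Nat.mul (nat_lit 47) @x3)) (nat_lit 256)))))) (@Nat.mul (nat_lit 3) @x1)) (@Nat.ble (@Nat.mul (nat_lit 256) (@Nat.div (@Nat.sub (@Nat.mul (nat_lit 3) @x2) (@Nat.mul (nat_lit 47) @x3)) (nat_lit 256))) @x3)) (@Bool.rec.{1} @(fun (x4 : @Bool) => @Bool) @Bool.false (@Nat.ble (@Nat.mul (nat_lit 253) (@Nat.div (@Nat.sub (@Nat.mul (nat_lit 3) @x2) (@Nat.mul (nat_lit 47) @x3)) (nat_lit 256))) @x3) (@Bool.rec.{1} @(fun (x4 : @Bool) => @Bool) @Bool.false (@Nat.beq (@Nat.mod @x3 @x0) (nat_lit 0)) (@Bool.rec.{1} @(fun (x4 : @Bool) => @Bool) @Bool.false (@Nat.beq (@Nat.mod (@Nat.sub (@Nat.mul (nat_lit 3) @x2) (@Nat.mul (nat_lit 47) @x3)) (nat_lit 256)) (nat_lit 0)) (@Nat.ble (@Nat.mul (nat_lit 47) @x3) (@Nat.mul (nat_lit 3) @x2)))))))) ?_); rfl') | exact @Cfsg.Agent.H606.OreM.Num.testY | exact ()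
private theorem _root_.Cfsg.Agent.KO4432087.e2 : (by first | exact @Cfsg.Agent.H606.OreM.Num.testY = @_root_.Cfsg.Agent.KO4432087.k2 | exact True : Prop) := by first | (delta _root_.Cfsg.Agent.KO4432087.k2; exact @Subtype.property _ (fun g => @Cfsg.Agent.H606.OreM.Num.testY = @g) _) | rfl | trivial
private theorem _root_.Cfsg.Agent.KO4432087.e3.{ku, kv} {α : Type kv} {M : List α → Sort ku} (φ : ∀ l, M l) {z : M List.nil} {s : ∀ a l, M l → M (List.cons a l)} (h0 : φ List.nil = z) (hs : ∀ a l, φ (List.cons a l) = s a l (φ l)) (l : List α) : φ l = @List.rec α M z s l := List.rec h0 (fun a l ih => (hs a l).trans (congrArg (s a l) ih)) l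
private noncomputable def _root_.Cfsg.Agent.KO4432087.k4.{ku0} : ((x0 : Sort (ku0+1)) → ((@List.{ku0} @x0) → ((x0 → @Bool) → @Bool))) := @(fun (x0 : Sort (ku0+1)) (x1 : @List.{ku0} @x0) (x2 : (x0 → @Bool)) => @List.rec.{(ku0+1), ku0} @x0 @(fun (x3 : @List.{ku0} @x0) => ((x0 → @Bool) → @Bool)) @(fun (x3 : (x0 → @Bool)) => @Bool.true) @(fun (x3 : x0) (x4 : @List.{ku0} @x0) (x5 : ((x0 → @Bool) → @Bool)) (x6 : (x0 → @Bool)) => @Bool.rec.{1} @(fun (x7 : @Bool) => @Bool) @Bool.false (@x5 @x6) (@x6 @x3)) @x1 @x2)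
private theorem _root_.Cfsg.Agent.KO4432087.e4.{ku0} : @List.all.{ku0} = @_root_.Cfsg.Agent.KO4432087.k4.{ku0} := by delta _root_.Cfsg.Agent.KO4432087.k4; funext a0 a1 a2; refine (congrFun (_root_.Cfsg.Agent.KO4432087.e3 (fun a1 a2 => @List.all.{ku0} a0 a1 a2) ?_ (fun c0 c1 => ?_) a1) a2 :) <;> (rfl')
private noncomputable def _root_.Cfsg.Agent.KO4432087.k5.{ku0} : ((x0 : Sort (ku0+1)) → ((@List.{ku0} @x0) → ((x0 → @Bool) → @Bool))) := @(fun (x0 : Sort (ku0+1)) (x1 : @List.{ku0} @x0) (x2 : (x0 → @Bool)) => @List.rec.{(ku0+1), ku0} @x0 @(fun (x3 : @List.{ku0} @x0) => ((x0 → @Bool) → @Bool)) @(fun (x3 : (x0 → @Bool)) => @Bool.false) @(fun (x3 : x0) (x4 : @List.{ku0} @x0) (x5 : ((x0 → @Bool) → @Bool)) (x6 : (x0 → @Bool)) => @Bool.rec.{1} @(fun (x7 : @Bool) => @Bool) (@x5 @x6) @Bool.true (@x6 @x3)) @x1 @x2)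
private theorem _root_.Cfsg.Agent.KO4432087.e5.{ku0} : @List.any.{ku0} = @_root_.Cfsg.Agent.KO4432087.k5.{ku0} := by delta _root_.Cfsg.Agent.KO4432087.k5; funext a0 a1 a2; refine (congrFun (_root_.Cfsg.Agent.KO4432087.e3 (fun a1 a2 => @List.any.{ku0} a0 a1 a2) ?_ (fun c0 c1 => ?_) a1) a2 :) <;> (rfl')
private noncomputable def _root_.Cfsg.Agent.KO4432087.k6 : (by first | exact type_of% @Cfsg.Agent.H606.OreM.Num.testX | exact Unit : Sort _) := by first | (refine @Subtype.val _ (fun g => @Cfsg.Agent.H606.OreM.Num.testX = @g) (@Subtype.mk _ _ (@(fun (x0 : @List.{0} (@Prod.{0, 0} @Nat (@List.{0} @Nat))) (x1 : @Nat) (x2 : @Nat) (x3 : @Nat) (x4 : @Nat) (x5 : @Nat) => @Bool.rec.{1} @(fun (x6 : @Bool) => @Bool) (@Cfsg.Agent.KO4432087.k1 (@Cfsg.Agent.KO4432087.k2 @x1 @x2 @x5) @x4 (nat_lit 20) @x3) @Bool.true (@Bool.rec.{1} @(fun (x6 : @Bool) => @Bool) @Bool.true @Bool.false (@Cfsg.Agent.KO4432087.k4.{0} (@Prod.{0, 0} @Nat (@List.{0} @Nat)) @x0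 @(fun (x6 : @Prod.{0, 0} @Nat (@List.{0} @Nat)) => @Cfsg.Agent.KO4432087.k5.{0} @Nat (@Prod.snd.{0, 0} @Nat (@List.{0} @Nat) @x6) @(fun (x7 : @Nat) => @Nat.beq (@Nat.mod @x5 (@Prod.fst.{0, 0} @Nat (@List.{0} @Nat) @x6)) @x7)))))) ?_); rewrite [← Cfsg.Agent.KO4432087.e1, ← Cfsg.Agent.KO4432087.e2, ← Cfsg.Agent.KO4432087.e4.{0}, ← Cfsg.Agent.KO4432087.e5.{0}]; (try delta Cfsg.Agent.H606.OreM.Num.testX Cfsg.Agent.H606.OreM.Num.mem); (try generalize @Cfsg.Agent.H606.OreM.Num.allB = g0); (try generalize @Cfsg.Agent.H606.OreM.Num.testY = g1); rfl') | exact @Cfsg.Agent.H606.OreM.Num.testX | exact ()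
private theorem _root_.Cfsg.Agent.KO4432087.e6 : (by first | exact @Cfsg.Agent.H606.OreM.Num.testX = @_root_.Cfsg.Agent.KO4432087.k6 | exact True : Prop) := by first | (delta _root_.Cfsg.Agent.KO4432087.k6; exact @Subtype.property _ (fun g => @Cfsg.Agent.H606.OreM.Num.testX = @g) _) | rfl | trivial
private noncomputable def _root_.Cfsg.Agent.KO4432087.k7 : (by first | exact type_of% @Cfsg.Agent.H606.OreM.Num.testJ | exact Unit : Sort _) := by first | (refine @Subtype.val _ (fun g => @Cfsg.Agent.H606.OreM.Num.testJ = @g) (@Subtype.mk _ _ (@(fun (x0 : @List.{0} (@Prod.{0, 0} @Nat (@List.{0} @Nat))) (x1 : @Nat) (x2 : @Nat) (x3 : @Nat) (x4 : @Nat) (x5 : @Nat) (x6 : @Nat) => @Cfsg.Agent.KO4432087.k6 @x0 @x1 @x2 @x3 @x4 (@Nat.mul @x5 @x6))) ?_); rewrite [← Cfsg.Agent.KO4432087.e6]; (try delta Cfsg.Agent.H606.OreM.Num.testJ); (try generalize @Cfsg.Agent.H606.OreM.Num.testX = g0); rfl') | exact @Cfsg.Agent.H606.OreM.Num.testJ | exact ()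
private theorem _root_.Cfsg.Agent.KO4432087.e7 : (by first | exact @Cfsg.Agent.H606.OreM.Num.testJ = @_root_.Cfsg.Agent.KO4432087.k7 | exact True : Prop) := by first | (delta _root_.Cfsg.Agent.KO4432087.k7; exact @Subtype.property _ (fun g => @Cfsg.Agent.H606.OreM.Num.testJ = @g) _) | rfl | trivial

theorem hv_4359513600_1016741 : allB (testJ [(47, [0, 27]), (31, [23, 0, 15]), (23, [12, 1]), (19, [9]), (17, [9, 7, 11])] 1 4359513600 64897 68144 1) 1090564 13 1016741 = true := by (first | (rewrite [Cfsg.Agent.KO4432087.e1, Cfsg.Agent.KO4432087.e7]; decide +kernel) | decide +kernel)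

theorem hv_4359513600_1024933 : allB (testJ [(47, [0, 27]), (31, [23, 0, 15]), (23, [12, 1]), (19, [9]), (17, [9, 7, 11])] 1 4359513600 64897 68144 1) 1090564 13 1024933 = true := by (first | (rewrite [Cfsg.Agent.KO4432087.e1, Cfsg.Agent.KO4432087.e7]; decide +kernel) | decide +kernel)

theorem hv_4359513600_1033125 : allB (testJ [(47, [0, 27]), (31, [23, 0, 15]), (23, [12, 1]), (19, [9]), (17, [9, 7, 11])] 1 4359513600 64897 68144 1) 1090564 13 1033125 = true := by (first | (rewrite [Cfsg.Agent.KO4432087.e1, Cfsg.Agent.KO4432087.e7]; decide +kernel) | decide +kernel)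

theorem hv_4359513600_1041317 : allB (testJ [(47, [0, 27]), (31, [23, 0, 15]), (23, [12, 1]), (19, [9]), (17, [9, 7, 11])] 1 4359513600 64897 68144 1) 1090564 13 1041317 = true := by (first | (rewrite [Cfsg.Agent.KO4432087.e1, Cfsg.Agent.KO4432087.e7]; decide +kernel) | decide +kernel)

end Cfsg.Agent.H606.OreM.Num
end

-- part: H606/OreM/CertP8H2
section
/-! # The certificate of the sieve for the Monster, part 8, heavy degrees (memsplit, helper160) -/

set_option autoImplicit false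
set_option maxRecDepth 100000
set_option Elab.async false

namespace Cfsg.Agent.H606.OreM.Num

theorem hv_4359513600_1049509 : allB (testJ [(47, [0, 27]), (31, [23, 0, 15]), (23, [12, 1]), (19, [9]), (17, [9, 7, 11])] 1 4359513600 64897 68144 1) 1090564 13 1049509 = true := by (first | (rewrite [Cfsg.Agent.KO4432087.e1, Cfsg.Agent.KO4432087.e7]; decide +kernel) | decide +kernel)

theorem hv_4359513600_1057701 : allB (testJ [(47, [0, 27]), (31, [23, 0, 15]), (23, [12, 1]), (19, [9]), (17, [9, 7, 11])] 1 4359513600 64897 68144 1) 1090564 13 1057701 = true := by (first | (rewrite [Cfsg.Agent.KO4432087.e1, Cfsg.Agent.KO4432087.e7]; decide +kernel) | decide +kernel)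

theorem hv_4359513600_1065893 : allB (testJ [(47, [0, 27]), (31, [23, 0, 15]), (23, [12, 1]), (19, [9]), (17, [9, 7, 11])] 1 4359513600 64897 68144 1) 1090564 13 1065893 = true := by (first | (rewrite [Cfsg.Agent.KO4432087.e1, Cfsg.Agent.KO4432087.e7]; decide +kernel) | decide +kernel)

theorem hv_4359513600_1074085 : allB (testJ [(47, [0, 27]), (31, [23, 0, 15]), (23, [12, 1]), (19, [9]), (17, [9, 7, 11])] 1 4359513600 64897 68144 1) 1090564 13 1074085 = true := by (first | (rewrite [Cfsg.Agent.KO4432087.e1, Cfsg.Agent.KO4432087.e7]; decide +kernel) | decide +kernel)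

end Cfsg.Agent.H606.OreM.Num
end

-- part: H606/OreM/CertP8H3
section
/-! # The certificate of the sieve for the Monster, part 8, heavy degrees (memsplit, helper160) -/

set_option autoImplicit false
set_option maxRecDepth 100000
set_option Elab.async false

namespace Cfsg.Agent.H606.OreM.Num

theorem hv_4359513600_1082277 : allB (testJ [(47, [0, 27]), (31, [23, 0, 15]), (23, [12, 1]), (19, [9]), (17, [9, 7, 11])] 1 4359513600 64897 68144 1) 1090564 13 1082277 = true := by (first | (rewrite [Cfsg.Agent.KO4432087.e1, Cfsg.Agent.KO4432087.e7]; decide +kernel) | decide +kernel)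

theorem hv_4359513600_1090469 : allB (testJ [(47, [0, 27]), (31, [23, 0, 15]), (23, [12, 1]), (19, [9]), (17, [9, 7, 11])] 1 4359513600 64897 68144 1) 1090564 13 1090469 = true := by decide +kernel

theorem hv_1663741296_388023 : allB (testJ [(47, [0, 40]), (31, [16]), (23, [1]), (19, [11]), (17, [16, 0, 15])] 1 1663741296 24766 26006 1) 416197 13 388023 = true := by (first | (rewrite [Cfsg.Agent.KO4432087.e1, Cfsg.Agent.KO4432087.e7]; decide +kernel) | decide +kernel)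

theorem hv_1663741296_396215 : allB (testJ [(47, [0, 40]), (31, [16]), (23, [1]), (19, [11]), (17, [16, 0, 15])] 1 1663741296 24766 26006 1) 416197 13 396215 = true := by (first | (rewrite [Cfsg.Agent.KO4432087.e1, Cfsg.Agent.KO4432087.e7]; decide +kernel) | decide +kernel)

theorem hv_1663741296_404407 : allB (testJ [(47, [0, 40]), (31, [16]), (23, [1]), (19, [11]), (17, [16, 0, 15])] 1 1663741296 24766 26006 1) 416197 13 404407 = true := by (first | (rewrite [Cfsg.Agent.KO4432087.e1, Cfsg.Agent.KO4432087.e7]; decide +kernel) | decide +kernel)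

end Cfsg.Agent.H606.OreM.Num
end

-- part: H606/OreM/CertP8H4
section
/-! # The certificate of the sieve for the Monster, part 8, heavy degrees (memsplit, helper160) -/

set_option autoImplicit false
set_option maxRecDepth 100000
set_option Elab.async false

namespace Cfsg.Agent.H606.OreM.Num

theorem hv_1663741296_412599 : allB (testJ [(47, [0, 40]), (31, [16]), (23, [1]), (19, [11]), (17, [16, 0, 15])] 1 1663741296 24766 26006 1) 416197 13 412599 = true := by (first | (rewrite [Cfsg.Agent.KO4432087.e1, Cfsg.Agent.KO4432087.e7]; decide +kernel) | decide +kernel)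

theorem hv_831870648_194011 : allB (testJ [(47, [0, 20]), (31, [8, 0, 16]), (23, [12, 0, 1]), (19, [15, 1, 10]), (17, [8, 10, 6])] 1 831870648 12382 13003 1) 208099 13 194011 = true := by (first | (rewrite [Cfsg.Agent.KO4432087.e1, Cfsg.Agent.KO4432087.e7]; decide +kernel) | decide +kernel)

theorem hv_831870648_202203 : allB (testJ [(47, [0, 20]), (31, [8, 0, 16]), (23, [12, 0, 1]), (19, [15, 1, 10]), (17, [8, 10, 6])] 1 831870648 12382 13003 1) 208099 13 202203 = true := by (first | (rewrite [Cfsg.Agent.KO4432087.e1, Cfsg.Agent.KO4432087.e7]; decide +kernel) | decide +kernel)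

theorem hv_3798907398_68153 : allB (testJ [(47, [0, 40]), (31, [15]), (23, [22, 21]), (19, [8]), (17, [16, 0, 15])] 13 3798907398 56551 59381 13) 73102 21 68153 = true := by (first | (rewrite [Cfsg.Agent.KO4432087.e1, Cfsg.Agent.KO4432087.e7]; decide +kernel) | decide +kernel)

theorem hv_1248091250_58216 : allB (testJ [(47, [0, 40]), (31, [16]), (23, [11, 0, 22]), (19, [0, 4, 9, 14]), (17, [11, 13, 9])] 1 1248091250 18578 19509 5) 62444 21 58216 = true := by (first | (rewrite [Cfsg.Agent.KO4432087.e1, Cfsg.Agent.KO4432087.e7]; decide +kernel) | decide +kernel)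

theorem hv_1614530841_53792 : allB (testJ [(47, [0, 7]), (31, [8, 0, 16]), (23, [1]), (19, [18]), (17, [10, 11, 9])] 7 1614530841 24033 25237 7) 57699 21 53792 = true := by (first | (rewrite [Cfsg.Agent.KO4432087.e1, Cfsg.Agent.KO4432087.e7]; decide +kernel) | decide +kernel)

end Cfsg.Agent.H606.OreM.Num
end

-- part: H606/OreM/CertP8H5
section
/-! # The certificate of the sieve for the Monster, part 8, heavy degrees (memsplit, helper160) -/

set_option autoImplicit false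
set_option maxRecDepth 100000
set_option Elab.async false

namespace Cfsg.Agent.H606.OreM.Num

theorem hv_1899453699_34076 : allB (testJ [(47, [0, 20]), (31, [23, 0, 15]), (23, [11, 22]), (19, [4, 18, 9]), (17, [8, 10, 6])] 13 1899453699 28275 29691 13) 36551 21 34076 = true := by (first | (rewrite [Cfsg.Agent.KO4432087.e1, Cfsg.Agent.KO4432087.e7]; decide +kernel) | decide +kernel)

theorem hv_624045625_29108 : allB (testJ [(47, [0, 20]), (31, [8, 0, 16]), (23, [0, 11]), (19, [1]), (17, [15, 13, 12, 16])] 1 624045625 9288 9755 5) 31222 21 29108 = true := by (first | (rewrite [Cfsg.Agent.KO4432087.e1, Cfsg.Agent.KO4432087.e7]; decide +kernel) | decide +kernel)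

theorem hv_1557501440_19118 : allB (testJ [(47, [0, 27]), (31, [15]), (23, [22]), (19, [0]), (17, [4, 0, 8, 6, 2])] 1 1557501440 23184 24346 19) 20507 21 19118 = true := by (first | (rewrite [Cfsg.Agent.KO4432087.e1, Cfsg.Agent.KO4432087.e7]; decide +kernel) | decide +kernel)

end Cfsg.Agent.H606.OreM.Num
end

-- part: H606/OreM/CertP8A
section
/-! # The certificate of the sieve for the Monster, part 8A (memsplit, helper160) -/

set_option autoImplicit false
set_option maxRecDepth 100000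
set_option Elab.async false

namespace Cfsg.Agent.H606.OreM.Num

theorem hv_4359513600 : cert 4962352590 6527402253 tabs 4359513600 = true :=
  cert_of (testD_of (Ts := [(47, [0, 27]), (31, [23, 0, 15]), (23, [12, 1]), (19, [9]), (17, [9, 7, 11])]) (uA := 1) (uB := 1) (ylo := 64897) (yn := 68144) (lo := 1016741) (n := 1090564)
    (by decide +kernel) (by norm_num [cA]) (by norm_num [cB]) (by norm_num) (by norm_num) (by norm_num) (by norm_num) rfl rfl
    (allB_half (lo' := 2065317) (by norm_num) (allB_half (lo' := 1541029) (by norm_num) (allB_half (lo' := 1278885) (by norm_num) (allB_half (lo' := 1147813) (by norm_num) (allB_half (lo' := 1082277) (by norm_num) (allB_half (lo' := 1049509) (by norm_num) (allB_half (lo' := 1033125) (by norm_num) (allB_half (lo' := 1024933) (by norm_num) hv_4359513600_1016741 hv_4359513600_1024933) (allB_half (lo' := 1041317) (by norm_num) hv_4359513600_1033125 hv_4359513600_1041317)) (allB_half (lo' :=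 1065893) (by norm_num) (allB_half (lo' := 1057701) (by norm_num) hv_4359513600_1049509 hv_4359513600_1057701) (allB_half (lo' := 1074085) (by norm_num) hv_4359513600_1065893 hv_4359513600_1074085))) (allB_half (lo' := 1115045) (by norm_num) (allB_half (lo' := 1098661) (by norm_num) (allB_half (lo' := 1090469) (by norm_num) hv_4359513600_1082277 hv_4359513600_1090469) (allB_big rfl)) (allB_big rfl))) (allB_big rfl)) (allB_big rfl)) (allB_big rfl)) (allB_big rfl)))

theorem hv_1663741296 : cert 4962352590 6527402253 tabs 1663741296 = true :=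
  cert_of (testD_of (Ts := [(47, [0, 40]), (31, [16]), (23, [1]), (19, [11]), (17, [16, 0, 15])]) (uA := 1) (uB := 1) (ylo := 24766) (yn := 26006) (lo := 388023) (n := 416197)
    (by decide +kernel) (by norm_num [cA]) (by norm_num [cB]) (by norm_num) (by norm_num) (by norm_num) (by norm_num) rfl rfl
    (allB_half (lo' := 1436599) (by norm_num) (allB_half (lo' := 912311) (by norm_num) (allB_half (lo' := 650167) (by norm_num) (allB_half (lo' := 519095) (by norm_num) (allB_half (lo' := 453559) (by norm_num) (allB_half (lo' := 420791) (by norm_num) (allB_half (lo' := 404407) (by norm_num) (allB_half (lo' := 396215) (by norm_num) hv_1663741296_388023 hv_1663741296_396215) (allB_half (lo' := 412599) (by norm_num) hv_1663741296_404407 hv_1663741296_412599)) (allB_big rfl)) (allB_big rfl)) (allB_big rfl)) (allB_big rfl)) (allB_big rfl)) (allB_big rfl)))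

theorem hv_831870648 : cert 4962352590 6527402253 tabs 831870648 = true :=
  cert_of (testD_of (Ts := [(47, [0, 20]), (31, [8, 0, 16]), (23, [12, 0, 1]), (19, [15, 1, 10]), (17, [8, 10, 6])]) (uA := 1) (uB := 1) (ylo := 12382) (yn := 13003) (lo := 194011) (n := 208099)
    (by decide +kernel) (by norm_num [cA]) (by norm_num [cB]) (by norm_num) (by norm_num) (by norm_num) (by norm_num) rfl rfl
    (allB_half (lo' := 1242587) (by norm_num) (allB_half (lo' := 718299) (by norm_num) (allB_half (lo' := 456155) (by norm_num) (allB_half (lo' := 325083) (by norm_num) (allB_half (lo' := 259547) (by norm_num) (allB_half (lo' := 226779) (by norm_num) (allB_half (lo' := 210395) (by norm_num) (allB_half (lo' := 202203) (by norm_num) hv_831870648_194011 hv_831870648_202203) (allB_big rfl)) (allB_big rfl)) (allB_big rfl)) (allB_big rfl)) (allB_big rfl)) (allB_big rfl)) (allB_big rfl)))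

theorem hv_3798907398 : cert 4962352590 6527402253 tabs 3798907398 = true :=
  cert_of (testD_of (Ts := [(47, [0, 40]), (31, [15]), (23, [22, 21]), (19, [8]), (17, [16, 0, 15])]) (uA := 13) (uB := 13) (ylo := 56551) (yn := 59381) (lo := 68153) (n := 73102)
    (by decide +kernel) (by norm_num [cA]) (by norm_num [cB]) (by norm_num) (by norm_num) (by norm_num) (by norm_num) rfl rfl
    hv_3798907398_68153)

theorem hv_1248091250 : cert 4962352590 6527402253 tabs 1248091250 = true :=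
  cert_of (testD_of (Ts := [(47, [0, 40]), (31, [16]), (23, [11, 0, 22]), (19, [0, 4, 9, 14]), (17, [11, 13, 9])]) (uA := 5) (uB := 1) (ylo := 18578) (yn := 19509) (lo := 58216) (n := 62444)
    (by decide +kernel) (by norm_num [cA]) (by norm_num [cB]) (by norm_num) (by norm_num) (by norm_num) (by norm_num) rfl rfl
    hv_1248091250_58216)

theorem hv_1614530841 : cert 4962352590 6527402253 tabs 1614530841 = true :=
  cert_of (testD_of (Ts := [(47, [0, 7]), (31, [8, 0, 16]), (23, [1]), (19, [18]), (17, [10, 11, 9])]) (uA := 7) (uB := 7) (ylo := 24033) (yn := 25237) (lo := 53792) (n := 57699)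
    (by decide +kernel) (by norm_num [cA]) (by norm_num [cB]) (by norm_num) (by norm_num) (by norm_num) (by norm_num) rfl rfl
    hv_1614530841_53792)

theorem hv_1899453699 : cert 4962352590 6527402253 tabs 1899453699 = true :=
  cert_of (testD_of (Ts := [(47, [0, 20]), (31, [23, 0, 15]), (23, [11, 22]), (19, [4, 18, 9]), (17, [8, 10, 6])]) (uA := 13) (uB := 13) (ylo := 28275) (yn := 29691) (lo := 34076) (n := 36551)
    (by decide +kernel) (by norm_num [cA]) (by norm_num [cB]) (by norm_num) (by norm_num) (by norm_num) (by norm_num) rfl rfl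
    hv_1899453699_34076)

theorem hv_624045625 : cert 4962352590 6527402253 tabs 624045625 = true :=
  cert_of (testD_of (Ts := [(47, [0, 20]), (31, [8, 0, 16]), (23, [0, 11]), (19, [1]), (17, [15, 13, 12, 16])]) (uA := 5) (uB := 1) (ylo := 9288) (yn := 9755) (lo := 29108) (n := 31222)
    (by decide +kernel) (by norm_num [cA]) (by norm_num [cB]) (by norm_num) (by norm_num) (by norm_num) (by norm_num) rfl rfl
    hv_624045625_29108)

theorem hv_1557501440 : cert 4962352590 6527402253 tabs 1557501440 = true :=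
  cert_of (testD_of (Ts := [(47, [0, 27]), (31, [15]), (23, [22]), (19, [0]), (17, [4, 0, 8, 6, 2])]) (uA := 19) (uB := 1) (ylo := 23184) (yn := 24346) (lo := 19118) (n := 20507)
    (by decide +kernel) (by norm_num [cA]) (by norm_num [cB]) (by norm_num) (by norm_num) (by norm_num) (by norm_num) rfl rfl
    hv_1557501440_19118)

private noncomputable def _root_.Cfsg.Agent.KO4432087.k8 : (by first | exact type_of% @Cfsg.Agent.H606.OreM.Num.pwL | exact Unit : Sort _) := by first | (refine @Subtype.val _ (fun g => @Cfsg.Agent.H606.OreM.Num.pwL = @g) (@Subtype.mk _ _ (@(fun (x0 : @Nat) (x1 : @Nat) (x2 : @Nat) (x3 : (@Nat → @Bool)) => @Nat.rec.{1} @(fun (x4 : @Nat) => (@Nat → @Bool)) @x3 @(fun (x4 : @Nat) (x5 : (@Nat → @Bool)) (x6 : @Nat) => @Bool.rec.{1} @(fun (x7 : @Bool) => @Bool) @Bool.false (@Bool.rec.{1} @(fun (x7 : @Bool) => @Bool) (@x5 (@Nat.mul @x6 @x1)) @Bool.true (@Nat.ble (@Nat.succ @x0) (@Nat.mul @x6 @x1))) (@x3 @x6)) @x2))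 ?_); rfl') | exact @Cfsg.Agent.H606.OreM.Num.pwL | exact ()
private theorem _root_.Cfsg.Agent.KO4432087.e8 : (by first | exact @Cfsg.Agent.H606.OreM.Num.pwL = @_root_.Cfsg.Agent.KO4432087.k8 | exact True : Prop) := by first | (delta _root_.Cfsg.Agent.KO4432087.k8; exact @Subtype.property _ (fun g => @Cfsg.Agent.H606.OreM.Num.pwL = @g) _) | rfl | trivial
private noncomputable def _root_.Cfsg.Agent.KO4432087.k9 : (by first | exact type_of% @Cfsg.Agent.H606.OreM.Num.chkL | exact Unit : Sort _) := by first | (refine @Subtype.val _ (fun g => @Cfsg.Agent.H606.OreM.Num.chkL = @g) (@Subtype.mk _ _ (@(fun (x0 : @Nat) (x1 : @List.{0} (@Prod.{0, 0} @Nat @Nat)) (x2 : (@Nat → @Bool)) => @List.rec.{1, 0} (@Prod.{0, 0} @Nat @Nat) @(fun (x3 : @List.{0} (@Prod.{0, 0} @Nat @Nat)) => (@Nat → @Bool)) @x2 @(fun (x3 : @Prod.{0, 0} @Nat @Nat) (x4 : @List.{0} (@Prod.{0, 0} @Nat @Nat)) (x5 : (@Nat → @Bool)) => @Cfsg.Agent.KO4432087.k8 @x0 (@Prod.fst.{0, 0}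 @Nat @Nat @x3) (@Prod.snd.{0, 0} @Nat @Nat @x3) @x5) @x1)) ?_); rewrite [← Cfsg.Agent.KO4432087.e8]; (try delta Cfsg.Agent.H606.OreM.Num.chkL); (try generalize @Cfsg.Agent.H606.OreM.Num.pwL = g0); rfl') | exact @Cfsg.Agent.H606.OreM.Num.chkL | exact ()
private theorem _root_.Cfsg.Agent.KO4432087.e9 : (by first | exact @Cfsg.Agent.H606.OreM.Num.chkL = @_root_.Cfsg.Agent.KO4432087.k9 | exact True : Prop) := by first | (delta _root_.Cfsg.Agent.KO4432087.k9; exact @Subtype.property _ (fun g => @Cfsg.Agent.H606.OreM.Num.chkL = @g) _) | rfl | trivial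
private noncomputable def _root_.Cfsg.Agent.KO4432087.k10 : (by first | exact type_of% @Cfsg.Agent.H606.OreM.Num.exc | exact Unit : Sort _) := by first | (refine @Subtype.val _ (fun g => @Cfsg.Agent.H606.OreM.Num.exc = @g) (@Subtype.mk _ _ (@(fun (x0 : @List.{0} @Nat) (x1 : (@Nat → @Bool)) (x2 : @Nat) => @Bool.rec.{1} @(fun (x3 : @Bool) => @Bool) (@x1 @x2) @Bool.true (@Cfsg.Agent.KO4432087.k5.{0} @Nat @x0 @(fun (x3 : @Nat) => @Nat.beq @x2 @x3)))) ?_); rewrite [← Cfsg.Agent.KO4432087.e5.{0}]; rfl') | exact @Cfsg.Agent.H606.OreM.Num.exc | exact ()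
private theorem _root_.Cfsg.Agent.KO4432087.e10 : (by first | exact @Cfsg.Agent.H606.OreM.Num.exc = @_root_.Cfsg.Agent.KO4432087.k10 | exact True : Prop) := by first | (delta _root_.Cfsg.Agent.KO4432087.k10; exact @Subtype.property _ (fun g => @Cfsg.Agent.H606.OreM.Num.exc = @g) _) | rfl | trivial
private noncomputable def _root_.Cfsg.Agent.KO4432087.k11.{ku0, ku1} : ((x0 : Sort (ku0+1)) → ((x1 : Sort (ku1+1)) → ((x0 → x1) → ((@List.{ku0} @x0) → @List.{ku1} @x1)))) := @(fun (x0 : Sort (ku0+1)) (x1 : Sort (ku1+1)) (x2 : (x0 → x1)) (x3 : @List.{ku0} @x0) => @List.rec.{(ku1+1), ku0} @x0 @(fun (x4 : @List.{ku0} @x0) => @List.{ku1} @x1) (@List.nil.{ku1} @x1) @(fun (x4 : x0) (x5 : @List.{ku0} @x0) (x6 : @List.{ku1} @x1) => @List.cons.{ku1} @x1 (@x2 @x4) @x6) @x3)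
private theorem _root_.Cfsg.Agent.KO4432087.e11.{ku0, ku1} : @List.map.{ku0, ku1} = @_root_.Cfsg.Agent.KO4432087.k11.{ku0, ku1} := by delta _root_.Cfsg.Agent.KO4432087.k11; funext a0 a1 a2 a3; refine (_root_.Cfsg.Agent.KO4432087.e3 (fun a3 => @List.map.{ku0, ku1} a0 a1 a2 a3) ?_ (fun c0 c1 => ?_) a3 :) <;> (rfl')
private noncomputable def _root_.Cfsg.Agent.KO4432087.k12.{ku0} : ((x0 : Sort (ku0+1)) → ((x0 → @Bool) → ((@List.{ku0} @x0) → @List.{ku0} @x0))) := @(fun (x0 : Sort (ku0+1)) (x1 : (x0 → @Bool)) (x2 : @List.{ku0} @x0) => @List.rec.{(ku0+1), ku0} @x0 @(fun (x3 : @List.{ku0} @x0) => @List.{ku0} @x0) (@List.nil.{ku0} @x0) @(fun (x3 : x0) (x4 : @List.{ku0} @x0) (x5 : @List.{ku0} @x0) => @Bool.rec.{(ku0+1)} @(fun (x6 : @Bool) => @List.{ku0} @x0) @x5 (@List.cons.{ku0} @x0 @x3 @x5) (@x1 @x3)) @x2)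
private theorem _root_.Cfsg.Agent.KO4432087.e12.{ku0} : @List.filter.{ku0} = @_root_.Cfsg.Agent.KO4432087.k12.{ku0} := by delta _root_.Cfsg.Agent.KO4432087.k12; funext a0 a1 a2; refine (_root_.Cfsg.Agent.KO4432087.e3 (fun a2 => @List.filter.{ku0} a0 a1 a2) ?_ (fun c0 c1 => ?_) a2 :) <;> (rfl')
private noncomputable def _root_.Cfsg.Agent.KO4432087.k13 : (by first | exact type_of% @Cfsg.Agent.H606.OreM.Num.xres | exact Unit : Sort _) := by first | (refine @Subtype.val _ (fun g => @Cfsg.Agent.H606.OreM.Num.xres = @g) (@Subtype.mk _ _ (@(fun (x0 : @Nat) (x1 : @List.{0} (@Prod.{0, 0} (@List.{0} @Nat) @Nat)) (x2 : @Nat) => @Bool.rec.{1} @(fun (x3 : @Bool) => @List.{0} @Nat) (@Cfsg.Agent.KO4432087.k11.{0, 0} (@Prod.{0, 0} (@List.{0} @Nat) @Nat) @Nat @(fun (x3 : @Prod.{0, 0} (@List.{0} @Nat) @Nat) => @Nat.mod (@Nat.mul (@Prod.snd.{0, 0} (@List.{0} @Nat) @Nat @x3) (@Nat.mod @x2 @x0)) @x0) (@Cfsg.Agent.KO4432087.k12.{0} (@Prod.{0, 0} (@List.{0}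 @Nat) @Nat) @(fun (x3 : @Prod.{0, 0} (@List.{0} @Nat) @Nat) => @Cfsg.Agent.KO4432087.k5.{0} @Nat (@Prod.fst.{0, 0} (@List.{0} @Nat) @Nat @x3) @(fun (x4 : @Nat) => @Nat.beq (@Nat.mod @x2 @x0) @x4)) @x1)) (@List.cons.{0} @Nat (nat_lit 0) (@List.nil.{0} @Nat)) (@Nat.beq (@Nat.mod @x2 @x0) (nat_lit 0)))) ?_); rewrite [← Cfsg.Agent.KO4432087.e11.{0, 0}, ← Cfsg.Agent.KO4432087.e12.{0}, ← Cfsg.Agent.KO4432087.e5.{0}]; rfl') | exact @Cfsg.Agent.H606.OreM.Num.xres | exact ()
private theorem _root_.Cfsg.Agent.KO4432087.e13 : (by first | exact @Cfsg.Agent.H606.OreM.Num.xres = @_root_.Cfsg.Agent.KO4432087.k13 | exact True : Prop) := by first | (delta _root_.Cfsg.Agent.KO4432087.k13; exact @Subtype.property _ (fun g => @Cfsg.Agent.H606.OreM.Num.xres = @g) _) | rfl | trivial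
private noncomputable def _root_.Cfsg.Agent.KO4432087.k14 : (by first | exact type_of% @Cfsg.Agent.H606.OreM.Num.testD | exact Unit : Sort _) := by first | (refine @Subtype.val _ (fun g => @Cfsg.Agent.H606.OreM.Num.testD = @g) (@Subtype.mk _ _ (@(fun (x0 : @Nat) (x1 : @Nat) (x2 : @List.{0} (@Prod.{0, 0} @Nat (@List.{0} (@Prod.{0, 0} (@List.{0} @Nat) @Nat)))) (x3 : @Nat) => @Bool.rec.{1} @(fun (x4 : @Bool) => @Bool) (@Bool.rec.{1} @(fun (x4 : @Bool) => @Bool) @Bool.false (@Cfsg.Agent.KO4432087.k1 @(fun (x4 : @Nat) => @Cfsg.Agent.KO4432087.k6 (@Cfsg.Agent.KO4432087.k11.{0, 0} (@Prod.{0, 0} @Nat (@List.{0} (@Prod.{0, 0} (@List.{0} @Nat) @Nat))) (@Prod.{0, 0} @Nat (@List.{0} @Nat)) @(fun (x5 : @Prod.{0, 0} @Nat (@List.{0} (@Prod.{0, 0} (@List.{0} @Nat) @Nat))) => @Prod.mk.{0, 0} @Nat (@List.{0} @Nat) (@Prod.fst.{0, 0} @Nat (@List.{0} (@Prod.{0, 0} (@List.{0} @Nat) @Nat)) @x5) (@Cfsg.Agent.KO4432087.k13 (@Prod.fst.{0, 0} @Nat (@List.{0}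 (@Prod.{0, 0} (@List.{0} @Nat) @Nat)) @x5) (@Prod.snd.{0, 0} @Nat (@List.{0} (@Prod.{0, 0} (@List.{0} @Nat) @Nat)) @x5) @x3)) @x2) (@Nat.div @x3 (@Nat.gcd @x3 @x1)) @x3 (@Nat.sub (@Nat.div (@Nat.mul (nat_lit 40) @x3) (nat_lit 2686976)) (nat_lit 1)) (@Nat.add (@Nat.div (@Nat.add (@Nat.mul (nat_lit 42) @x3) (nat_lit 257)) (nat_lit 2686976)) (nat_lit 1)) (@Nat.mul (@Nat.div @x3 (@Nat.gcd @x3 @x0)) @x4)) (@Nat.add (@Nat.div (@Nat.div (@Nat.mul (nat_lit 12147) (@Nat.add (@Nat.mul (nat_lit 42) @x3) (nat_lit 257))) (nat_lit 2039414784)) (@Nat.div @x3 (@Nat.gcd @x3 @x0))) (nat_lit 1)) (nat_lit 21) (@Nat.div (@Nat.sub (@Nat.div (@Nat.mul (nat_lit 47) (@Nat.mul (nat_lit 40) @x3)) (nat_lit 8060928)) (nat_lit 1)) (@Nat.div @x3 (@Nat.gcd @x3 @x0)))) (@Bool.rec.{1} @(fun (x4 : @Bool) => @Bool) @Bool.false (@Nat.ble (@Nat.add (@Nat.div (@Nat.div (@Nat.mul (nat_lit 12147) (@Nat.add (@Nat.mul (nat_lit 42) @x3) (nat_lit 257))) (nat_lit 2039414784)) (@Nat.div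 @x3 (@Nat.gcd @x3 @x0))) (nat_lit 1)) (nat_lit 2097152)) (@Nat.ble (@Nat.add (@Nat.div (@Nat.add (@Nat.mul (nat_lit 42) @x3) (nat_lit 257)) (nat_lit 2686976)) (nat_lit 1)) (nat_lit 1048576)))) @Bool.true (@Cfsg.Agent.KO4432087.k5.{0} (@Prod.{0, 0} @Nat (@List.{0} (@Prod.{0, 0} (@List.{0} @Nat) @Nat))) @x2 @(fun (x4 : @Prod.{0, 0} @Nat (@List.{0} (@Prod.{0, 0} (@List.{0} @Nat) @Nat))) => @List.rec.{1, 0} @Nat @(fun (x5 : @List.{0} @Nat) => @Bool) @Bool.true @(fun (x5 : @Nat) (x6 : @List.{0} @Nat) (x7 : @Bool) => @Bool.false) (@Cfsg.Agent.KO4432087.k13 (@Prod.fst.{0, 0} @Nat (@List.{0} (@Prod.{0, 0} (@List.{0} @Nat) @Nat)) @x4) (@Prod.snd.{0, 0} @Nat (@List.{0} (@Prod.{0, 0} (@List.{0} @Nat) @Nat)) @x4) @x3))))) ?_); rewrite [← Cfsg.Agent.KO4432087.e1, ← Cfsg.Agent.KO4432087.e6, ← Cfsg.Agent.KO4432087.e11.{0, 0}, ← Cfsg.Agent.KO4432087.e13, ← Cfsg.Agent.KO4432087.e5.{0}]; (try delta Cfsg.Agent.H606.OreM.Num.testD); (try generalize @Cfsg.Agent.H606.OreM.Num.allB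 = g0); (try generalize @Cfsg.Agent.H606.OreM.Num.testX = g1); (try generalize @Cfsg.Agent.H606.OreM.Num.xres = g2); rfl') | exact @Cfsg.Agent.H606.OreM.Num.testD | exact ()
private theorem _root_.Cfsg.Agent.KO4432087.e14 : (by first | exact @Cfsg.Agent.H606.OreM.Num.testD = @_root_.Cfsg.Agent.KO4432087.k14 | exact True : Prop) := by first | (delta _root_.Cfsg.Agent.KO4432087.k14; exact @Subtype.property _ (fun g => @Cfsg.Agent.H606.OreM.Num.testD = @g) _) | rfl | trivial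
private noncomputable def _root_.Cfsg.Agent.KO4432087.k15 : (by first | exact type_of% @Cfsg.Agent.H606.OreM.Num.bit | exact Unit : Sort _) := by first | (refine @Subtype.val _ (fun g => @Cfsg.Agent.H606.OreM.Num.bit = @g) (@Subtype.mk _ _ (@(fun (x0 : @Nat) (x1 : @Nat) => @Nat.beq (@Nat.land (@Nat.shiftRight @x0 @x1) (nat_lit 1)) (nat_lit 1))) ?_); rfl') | exact @Cfsg.Agent.H606.OreM.Num.bit | exact ()
private theorem _root_.Cfsg.Agent.KO4432087.e15 : (by first | exact @Cfsg.Agent.H606.OreM.Num.bit = @_root_.Cfsg.Agent.KO4432087.k15 | exact True : Prop) := by first | (delta _root_.Cfsg.Agent.KO4432087.k15; exact @Subtype.property _ (fun g => @Cfsg.Agent.H606.OreM.Num.bit = @g) _) | rfl | trivial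
private noncomputable def _root_.Cfsg.Agent.KO4432087.k16 : (by first | exact type_of% @Cfsg.Agent.H606.OreM.Num.cert | exact Unit : Sort _) := by first | (refine @Subtype.val _ (fun g => @Cfsg.Agent.H606.OreM.Num.cert = @g) (@Subtype.mk _ _ (@(fun (x0 : @Nat) (x1 : @Nat) (x2 : @List.{0} (@Prod.{0, 0} @Nat (@List.{0} (@Prod.{0, 0} (@List.{0} @Nat) @Nat)))) (x3 : @Nat) => @Bool.rec.{1} @(fun (x4 : @Bool) => @Bool) @Bool.true (@Bool.rec.{1} @(fun (x4 : @Bool) => @Bool) (@Cfsg.Agent.KO4432087.k14 @Cfsg.Agent.H606.OreM.Num.cA @Cfsg.Agent.H606.OreM.Num.cB @x2 @x3) @Bool.true (@Bool.rec.{1} @(fun (x4 : @Bool) => @Bool) (@Nat.ble (@Nat.succ @x3) (nat_lit 196883)) @Bool.true (@Bool.rec.{1} @(fun (x4 : @Bool) => @Bool) (@Bool.rec.{1} @(fun (x4 : @Bool) => @Bool) @Bool.true @Bool.false (@Cfsg.Agent.KO4432087.k5.{0} @Nat (@List.cons.{0} @Nat (nat_lit 0) (@List.cons.{0} @Nat (nat_lit 1) (@List.cons.{0} @Nat (nat_lit 40) (@List.nil.{0} @Nat))))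 @(fun (x4 : @Nat) => @Nat.beq (@Nat.mod @x3 (nat_lit 41)) @x4))) @Bool.true (@Bool.rec.{1} @(fun (x4 : @Bool) => @Bool) (@Bool.rec.{1} @(fun (x4 : @Bool) => @Bool) @Bool.true @Bool.false (@Cfsg.Agent.KO4432087.k5.{0} @Nat (@List.cons.{0} @Nat (nat_lit 0) (@List.cons.{0} @Nat (nat_lit 1) (@List.cons.{0} @Nat (nat_lit 35) (@List.cons.{0} @Nat (nat_lit 36) (@List.cons.{0} @Nat (nat_lit 70) (@List.nil.{0} @Nat)))))) @(fun (x4 : @Nat) => @Nat.beq (@Nat.mod @x3 (nat_lit 71)) @x4))) @Bool.true (@Bool.rec.{1} @(fun (x4 : @Bool) => @Bool) @Bool.true @Bool.false (@Bool.rec.{1} @(fun (x4 : @Bool) => @Bool) (@Bool.rec.{1} @(fun (x4 : @Bool) => @Bool) @Bool.false (@Nat.ble (@Nat.succ @x3) @x1) (@Cfsg.Agent.KO4432087.k15 (nat_lit 1610612736) (@Nat.mod @x3 (nat_lit 59)))) @Bool.true (@Bool.rec.{1} @(fun (x4 : @Bool) => @Bool) @Bool.false (@Nat.ble (@Nat.succ @x3) @x0) (@Cfsg.Agent.KO4432087.k15 (nat_lit 288230376151711746) (@Nat.mod @x3 (nat_lit 59))))))))))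 (@Cfsg.Agent.KO4432087.k15 (nat_lit 288230377762324482) (@Nat.mod @x3 (nat_lit 59))))) ?_); rewrite [← Cfsg.Agent.KO4432087.e14, ← Cfsg.Agent.KO4432087.e5.{0}, ← Cfsg.Agent.KO4432087.e15]; (try delta Cfsg.Agent.H606.OreM.Num.cert Cfsg.Agent.H606.OreM.Num.mem); (try generalize @Cfsg.Agent.H606.OreM.Num.testD = g0); (try generalize @Cfsg.Agent.H606.OreM.Num.cA = g1); (try generalize @Cfsg.Agent.H606.OreM.Num.cB = g2); (try generalize @Cfsg.Agent.H606.OreM.Num.bit = g3); rfl') | exact @Cfsg.Agent.H606.OreM.Num.cert | exact ()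
private theorem _root_.Cfsg.Agent.KO4432087.e16 : (by first | exact @Cfsg.Agent.H606.OreM.Num.cert = @_root_.Cfsg.Agent.KO4432087.k16 | exact True : Prop) := by first | (delta _root_.Cfsg.Agent.KO4432087.k16; exact @Subtype.property _ (fun g => @Cfsg.Agent.H606.OreM.Num.cert = @g) _) | rfl | trivial

theorem cb_2911_light : chkL 6527402252 lstB (exc [4359513600, 1663741296, 831870648, 3798907398, 1248091250, 1614530841, 1899453699, 624045625, 1557501440] (cert 4962352590 6527402253 tabs)) 2911 = true := by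
  (first | (rewrite [Cfsg.Agent.KO4432087.e9, Cfsg.Agent.KO4432087.e10, Cfsg.Agent.KO4432087.e16]; decide +kernel) | decide +kernel)

theorem cb_2911 : tst lstB 2911 = true := by
  refine chkL_mono (of_exc (l := [4359513600, 1663741296, 831870648, 3798907398, 1248091250, 1614530841, 1899453699, 624045625, 1557501440]) ?_) cb_2911_light
  simp only [List.forall_mem_cons]
  exact ⟨hv_4359513600, hv_1663741296, hv_831870648, hv_3798907398, hv_1248091250, hv_1614530841, hv_1899453699, hv_624045625, hv_1557501440, fun _ h => absurd h List.not_mem_nil⟩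

end Cfsg.Agent.H606.OreM.Num
end

-- part: H606/OreM/CertP8B
section
/-! # The certificate of the sieve for the Monster, part 8B (memsplit, helper160) -/

set_option autoImplicit false
set_option maxRecDepth 100000
set_option Elab.async false

namespace Cfsg.Agent.H606.OreM.Num

private noncomputable def _root_.Cfsg.Agent.KO4432087.k17 : (by first | exact type_of% @Cfsg.Agent.H606.OreM.Num.tst | exact Unit : Sort _) := by first | (refine @Subtype.val _ (fun g => @Cfsg.Agent.H606.OreM.Num.tst = @g) (@Subtype.mk _ _ (@(fun (x0 : @List.{0} (@Prod.{0, 0} @Nat @Nat)) (x1 : @Nat) => @Cfsg.Agent.KO4432087.k9 (nat_lit 6527402252) @x0 (@Cfsg.Agent.KO4432087.k16 (nat_lit 4962352590) (nat_lit 6527402253) @Cfsg.Agent.H606.OreM.Num.tabs) @x1)) ?_); rewrite [← Cfsg.Agent.KO4432087.e9, ← Cfsg.Agent.KO4432087.e16]; (try delta Cfsg.Agent.H606.OreM.Num.tst); (try generalize @Cfsg.Agent.H606.OreM.Num.chkL = g0); (try generalize @Cfsg.Agent.H606.OreM.Num.cert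 = g1); (try generalize @Cfsg.Agent.H606.OreM.Num.tabs = g2); rfl') | exact @Cfsg.Agent.H606.OreM.Num.tst | exact ()
private theorem _root_.Cfsg.Agent.KO4432087.e17 : (by first | exact @Cfsg.Agent.H606.OreM.Num.tst = @_root_.Cfsg.Agent.KO4432087.k17 | exact True : Prop) := by first | (delta _root_.Cfsg.Agent.KO4432087.k17; exact @Subtype.property _ (fun g => @Cfsg.Agent.H606.OreM.Num.tst = @g) _) | rfl | trivial

theorem cb_66953 : tst lstB 66953 = true := by (first | (rewrite [Cfsg.Agent.KO4432087.e17]; decide +kernel) | decide +kernel)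

end Cfsg.Agent.H606.OreM.Num
end

-- part: H606/OreM/CertP8
section
/-! # The certificate of the sieve for the Monster, part 8 (helper606) -/

set_option autoImplicit false
set_option maxRecDepth 100000
set_option Elab.async false

namespace Cfsg.Agent.H606.OreM.Num

theorem ce_2911 : tst lstE 2911 = true := tst_cons (p := 23) rfl cb_2911 cb_66953

end Cfsg.Agent.H606.OreM.Num
end

private theorem dce_1152415db049 : _root_.True := by
  try have : _root_.True := by simp only [_root_.Cfsg.Agent.H606.OreM.Num.cA.eq_1]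
  try have : _root_.True := by simp only [_root_.Cfsg.Agent.H606.OreM.Num.cB.eq_1]
  exact _root_.True.intro
end

-- part: H455/OreM/Deg19
section
prune_inst 0x5402200000000000232001883810000000003000120440000000c0800800026000000001a00000000100000000000000000000000000404000001000000820000b01ca491140006802288190c00008000000000000000000000000000010000000
set_option linter.all false
open scoped Cfsg.Agent.FastGrp

-- part: H455/OreM/Enum
section
/-!
# Enumeration of the divisors `< D` of a number, for kernel checks (helper455)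

`go D f L 1 = true` : `f` holds at all divisors `m ≠ 1`, `m < D`, of `prod L`; the primes of `L` are in increasing order
(a branch is left at the first prime with `d p ≥ D`); every product is evaluated before it is used (`force`):
about 0.5 ms for each divisor.
-/

set_option autoImplicit false

namespace Cfsg.Agent.H455.OreM.Enum

/-- evaluation of the argument to a literal -/
def force (n : ℕ) (f : ℕ → Bool) : Bool := Nat.casesOn n (f 0) (fun k => f (k + 1))

theorem force_eq (n : ℕ) (f : ℕ → Bool) : force n f = f n := by cases n <;> rfl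

def up (D : ℕ) (f g : ℕ → Bool) (p : ℕ) : ℕ → ℕ → Bool
  | 0, d => g d
  | a + 1, d => force (d * p) fun d' => bif Nat.ble D d' then true else f d' && up D f g p a d' && g d

def go (D : ℕ) (f : ℕ → Bool) : List (ℕ × ℕ) → ℕ → Bool
  | [], _ => true
  | (p, a) :: L, d => up D f (go D f L) p a d

def prod : List (ℕ × ℕ) → ℕ
  | [] => 1
  | (p, a) :: L => p ^ a * prod L

/-- the primes, in increasing order, greater than `q` -/
def sorted : ℕ → List (ℕ × ℕ) → Bool
  | _, [] => true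
  | q, (p, _) :: L => Nat.ble (q + 1) p && sorted p L

theorem up_spec {D : ℕ} {f g : ℕ → Bool} {p F : ℕ} (hp : 0 < p)
    (hg : ∀ d, g d = true → ∀ y, y ∣ F → y ≠ 1 → d * y < D → f (d * y) = true)
    (hF : ∀ y, y ∣ F → y ≠ 1 → p ≤ y) (hF0 : 0 < F) : ∀ (a d : ℕ), up D f g p a d = true → ∀ i, i ≤ a → ∀ y, y ∣ F →
      p ^ i * y ≠ 1 → d * (p ^ i * y) < D → f (d * (p ^ i * y)) = true := by
  intro a
  induction a with
  | zero =>
    intro d h i hi y hy h1 h2
    obtain rfl : i = 0 := by omega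
    rw [pow_zero, one_mul] at h1 h2 ⊢
    exact hg d h y hy h1 h2
  | succ a ih =>
    intro d h i hi y hy h1 h2
    rw [up, force_eq] at h
    have hy0 : 0 < y := Nat.pos_of_dvd_of_pos hy hF0
    cases hD : Nat.ble D (d * p) with
    | true =>
      exfalso
      have h3 := Nat.le_of_ble_eq_true hD
      have h4 : p ≤ p ^ i * y := by
        rcases i with _ | i
        · rw [pow_zero, one_mul] at h1 ⊢
          exact hF y hy h1
        · rw [pow_succ]
          have h5 : 1 ≤ p ^ i * y := Nat.mul_pos (Nat.pow_pos hp) hy0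
          calc p = 1 * p := (one_mul p).symm
            _ ≤ (p ^ i * y) * p := Nat.mul_le_mul_right p h5
            _ = p ^ i * p * y := by ring
      have h5 : d * p ≤ d * (p ^ i * y) := Nat.mul_le_mul_left d h4
      omega
    | false =>
      rw [hD, cond_false, Bool.and_eq_true, Bool.and_eq_true] at h
      obtain ⟨⟨h3, h4⟩, h5⟩ := h
      rcases i with _ | i
      · rw [pow_zero, one_mul] at h1 h2 ⊢
        exact hg d h5 y hy h1 h2
      · have e : d * (p ^ (i + 1) * y) = (d * p) * (p ^ i * y) := by rw [pow_succ]; ring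
        by_cases h6 : p ^ i * y = 1
        · rw [e, h6, mul_one]; exact h3
        · rw [e] at h2 ⊢
          exact ih (d * p) h4 i (by omega) y hy h6 h2

theorem prod_pos : ∀ {L : List (ℕ × ℕ)}, (∀ pa ∈ L, pa.1.Prime) → 0 < prod L
  | [], _ => Nat.one_pos
  | (p, a) :: L, h => Nat.mul_pos (Nat.pow_pos (h (p, a) List.mem_cons_self).pos)
      (prod_pos fun pa hpa => h pa (List.mem_cons_of_mem _ hpa))

theorem le_of_sorted : ∀ {L : List (ℕ × ℕ)} {q : ℕ}, sorted q L = true → (∀ pa ∈ L, pa.1.Prime) →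
    ∀ y, y ∣ prod L → y ≠ 1 → q ≤ y
  | [], q, _, _, y, hy, h1 => absurd (Nat.dvd_one.1 hy) h1
  | (p, a) :: L, q, h, hL, y, hy, h1 => by
    rw [sorted, Bool.and_eq_true] at h
    have hq := Nat.le_of_ble_eq_true h.1
    have hp := hL (p, a) List.mem_cons_self
    have hL' : ∀ pa ∈ L, pa.1.Prime := fun pa hpa => hL pa (List.mem_cons_of_mem _ hpa)
    rw [prod] at hy
    obtain ⟨x, z, hx, hz, rfl⟩ := (Nat.dvd_mul).1 hy
    obtain ⟨i, -, rfl⟩ := (Nat.dvd_prime_pow hp).1 hx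
    have hz0 : 0 < z := Nat.pos_of_dvd_of_pos hz (prod_pos hL')
    rcases i with _ | i
    · rw [pow_zero, one_mul] at h1 ⊢
      exact (Nat.le_of_succ_le hq).trans (le_of_sorted h.2 hL' z hz h1)
    · have h5 : 1 ≤ p ^ i * z := Nat.mul_pos (Nat.pow_pos hp.pos) hz0
      calc q ≤ p := Nat.le_of_succ_le hq
        _ = 1 * p := (one_mul p).symm
        _ ≤ (p ^ i * z) * p := Nat.mul_le_mul_right p h5
        _ = p ^ (i + 1) * z := by rw [pow_succ]; ring

/-- **The enumeration.** -/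
theorem go_spec {D : ℕ} {f : ℕ → Bool} : ∀ {L : List (ℕ × ℕ)} {q : ℕ}, sorted q L = true → (∀ pa ∈ L, pa.1.Prime) →
    ∀ {d : ℕ}, go D f L d = true → ∀ m, m ∣ prod L → m ≠ 1 → d * m < D → f (d * m) = true
  | [], q, _, _, d, _, m, hm, h1, _ => absurd (Nat.dvd_one.1 hm) h1
  | (p, a) :: L, q, hs, hL, d, h, m, hm, h1, h2 => by
    rw [sorted, Bool.and_eq_true] at hs
    have hp := hL (p, a) List.mem_cons_self
    have hL' : ∀ pa ∈ L, pa.1.Prime := fun pa hpa => hL pa (List.mem_cons_of_mem _ hpa)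
    rw [go] at h
    rw [prod] at hm
    obtain ⟨x, z, hx, hz, rfl⟩ := (Nat.dvd_mul).1 hm
    obtain ⟨i, hi, rfl⟩ := (Nat.dvd_prime_pow hp).1 hx
    exact up_spec hp.pos (fun d' h' y hy hy1 hy2 => go_spec hs.2 hL' h' y hy hy1 hy2)
      (fun y hy hy1 => le_of_sorted hs.2 hL' y hy hy1) (prod_pos hL') a d h i hi z hz h1 h2

/-! ### Residues -/

/-- the residue `d % r` is in the set given by the bits of `mask` -/
def bit (mask r d : ℕ) : Bool := Nat.beq (Nat.mod (Nat.shiftRight mask (Nat.mod d r)) 2) 1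

/-- the mask of a list -/
def maskOK (mask r : ℕ) (wl : List ℕ) : Bool :=
  (List.range r).all fun v => !(wl.contains v) || Nat.beq (Nat.mod (Nat.shiftRight mask v) 2) 1

theorem bit_of {mask r : ℕ} {wl : List ℕ} (hr : 0 < r) (h : maskOK mask r wl = true) {d : ℕ}
    (hd : wl.contains (d % r) = true) : bit mask r d = true := by
  have h1 := List.all_eq_true.1 h (d % r) (List.mem_range.2 (Nat.mod_lt d hr))
  rw [hd] at h1
  exact h1

end Cfsg.Agent.H455.OreM.Enum
end

-- part: H455/OreM/Cert19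
section
/-!
# The divisors of the order of the Monster below 280000000: the certificate for `deg_M19` (helper455)
-/

set_option autoImplicit false

namespace Cfsg.Agent.H455.OreM.Cert19

open Cfsg.Agent.H606.OreM.Num (testD cA cB tabs)
open Cfsg.Agent.H455.OreM.Enum

/-- the primes (without 19, 41) -/
def L : List (ℕ × ℕ) := [(2, 46), (3, 20), (5, 9), (7, 6), (11, 2), (13, 3), (17, 1), (23, 1), (29, 1), (31, 1),
  (47, 1), (59, 1), (71, 1)]

theorem L_prime : ∀ pa ∈ L, pa.1.Prime := by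
  intro pa hpa
  simp only [L, List.mem_cons, List.not_mem_nil, or_false] at hpa
  rcases hpa with rfl | rfl | rfl | rfl | rfl | rfl | rfl | rfl | rfl | rfl | rfl | rfl | rfl <;> norm_num

theorem L_prod : prod L * (19 * 41) = 808017424794512875886459904961710757005754368000000000 := by
  norm_num [prod, L]

/-- the test -/
def tst (d : ℕ) : Bool :=
  bif bit 1099511627778 41 d then
  bif bit 294930 19 d then
  bif Nat.ble d 196882 then true else
  bif bit 1180591620820490518531 71 d then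
  bif bit 288230377762324483 59 d then testD cA cB tabs d
  else true else true else true else true

/-- the odd primes of `L` -/
def Lo : List (ℕ × ℕ) := [(3, 20), (5, 9), (7, 6), (11, 2), (13, 3), (17, 1), (23, 1), (29, 1), (31, 1),
  (47, 1), (59, 1), (71, 1)]

theorem up_of {D : ℕ} {f g : ℕ → Bool} {p : ℕ} : ∀ (a d : ℕ), (∀ i ≤ a, d * p ^ i < D → g (d * p ^ i) = true) →
    (∀ i, 1 ≤ i → i ≤ a → d * p ^ i < D → f (d * p ^ i) = true) → d < D → up D f g p a d = true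
  | 0, d, h1, _, hd => by
    have := h1 0 le_rfl (by rwa [pow_zero, mul_one])
    rwa [pow_zero, mul_one] at this
  | a + 1, d, h1, h2, hd => by
    rw [up, force_eq]
    cases hD : Nat.ble D (d * p) with
    | true => rfl
    | false =>
      have h3 : d * p < D := by
        by_contra hcon
        rw [Nat.ble_eq_true_of_le (not_lt.1 hcon)] at hD
        exact absurd hD (by decide)
      have e : ∀ i, d * p * p ^ i = d * p ^ (i + 1) := fun i => by rw [pow_succ]; ring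
      have h4 := h1 0 (Nat.zero_le _) (by rwa [pow_zero, mul_one])
      rw [pow_zero, mul_one] at h4
      have h5 := h2 1 le_rfl (by omega) (by rwa [pow_one])
      rw [pow_one] at h5
      have h6 := up_of (g := g) (f := f) a (d * p) (fun i hi h => by
        rw [e] at h ⊢
        exact h1 (i + 1) (by omega) h) (fun i hi hi' h => by
        rw [e] at h ⊢
        exact h2 (i + 1) (by omega) (by omega) h) h3
      rw [cond_false, h5, h6, h4]
      rfl

/-- the test for the divisors with 2-part `d` -/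
def gg (d : ℕ) : Bool := tst d && go 280000000 tst Lo d

private theorem _root_.Cfsg.Agent.KOadaaf30.e0.{ku, kv} {α : Type kv} {M : List α → Sort ku} (φ : ∀ l, M l) {z : M List.nil} {s : ∀ a l, M l → M (List.cons a l)} (h0 : φ List.nil = z) (hs : ∀ a l, φ (List.cons a l) = s a l (φ l)) (l : List α) : φ l = @List.rec α M z s l := List.rec h0 (fun a l ih => (hs a l).trans (congrArg (s a l) ih)) l
private theorem _root_.Cfsg.Agent.KOadaaf30.e1.{ku} {M : Nat → Sort ku} (φ : ∀ n, M n) {z : M Nat.zero} {s : ∀ n, M n → M (Nat.succ n)} (h0 : φ Nat.zero = z) (hs : ∀ n, φ (Nat.succ n) = s n (φ n)) (n : Nat) : φ n = @Nat.rec M z s n := Nat.rec h0 (fun n ih => (hs n).trans (congrArg (s n) ih)) n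
private noncomputable def _root_.Cfsg.Agent.KOadaaf30.k2 : (by first | exact type_of% @Cfsg.Agent.H455.OreM.Enum.force | exact Unit : Sort _) := by first | (refine @Subtype.val _ (fun g => @Cfsg.Agent.H455.OreM.Enum.force = @g) (@Subtype.mk _ _ (@(fun (x0 : @Nat) (x1 : (@Nat → @Bool)) => @Nat.rec.{1} @(fun (x2 : @Nat) => @Bool) (@x1 (nat_lit 0)) @(fun (x2 : @Nat) (x3 : @Bool) => @x1 (@Nat.add @x2 (nat_lit 1))) @x0)) ?_); rfl') | exact @Cfsg.Agent.H455.OreM.Enum.force | exact ()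
private theorem _root_.Cfsg.Agent.KOadaaf30.e2 : (by first | exact @Cfsg.Agent.H455.OreM.Enum.force = @_root_.Cfsg.Agent.KOadaaf30.k2 | exact True : Prop) := by first | (delta _root_.Cfsg.Agent.KOadaaf30.k2; exact @Subtype.property _ (fun g => @Cfsg.Agent.H455.OreM.Enum.force = @g) _) | rfl | trivial
private noncomputable def _root_.Cfsg.Agent.KOadaaf30.k3 : (by first | exact type_of% @Cfsg.Agent.H455.OreM.Enum.up | exact Unit : Sort _) := by first | (refine @Subtype.val _ (fun g => @Cfsg.Agent.H455.OreM.Enum.up = @g) (@Subtype.mk _ _ (@(fun (x0 : @Nat) (x1 : (@Nat → @Bool)) (x2 : (@Nat → @Bool)) (x3 : @Nat) (x4 : @Nat) (x5 : @Nat) => @Nat.rec.{1} @(fun (x6 : @Nat) => (@Nat → @Bool)) @(fun (x6 : @Nat) => @x2 @x6) @(fun (x6 : @Nat) (x7 : (@Nat → @Bool)) (x8 : @Nat) => @Cfsg.Agent.KOadaaf30.k2 (@Nat.mul @x8 @x3) @(fun (x9 : @Nat) => @Bool.rec.{1} @(fun (x10 : @Bool) => @Bool) (@Bool.rec.{1} @(fun (x10 : @Bool) => @Bool) @Bool.false (@x2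 @x8) (@Bool.rec.{1} @(fun (x10 : @Bool) => @Bool) @Bool.false (@x7 @x9) (@x1 @x9))) @Bool.true (@Nat.ble @x0 @x9))) @x4 @x5)) ?_); rewrite [← Cfsg.Agent.KOadaaf30.e2]; funext a0 a1 a2 a3 a4 a5; refine (congrFun (_root_.Cfsg.Agent.KOadaaf30.e1 (fun a4 a5 => @Cfsg.Agent.H455.OreM.Enum.up a0 a1 a2 a3 a4 a5) ?_ (fun c0 => ?_) a4) a5 :) <;> ((try delta Cfsg.Agent.H455.OreM.Enum.up Cfsg.Agent.H455.OreM.Enum.up._f); (try generalize @Cfsg.Agent.H455.OreM.Enum.force = g0); rfl')) | exact @Cfsg.Agent.H455.OreM.Enum.up | exact ()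
private theorem _root_.Cfsg.Agent.KOadaaf30.e3 : (by first | exact @Cfsg.Agent.H455.OreM.Enum.up = @_root_.Cfsg.Agent.KOadaaf30.k3 | exact True : Prop) := by first | (delta _root_.Cfsg.Agent.KOadaaf30.k3; exact @Subtype.property _ (fun g => @Cfsg.Agent.H455.OreM.Enum.up = @g) _) | rfl | trivial
private noncomputable def _root_.Cfsg.Agent.KOadaaf30.k4 : (by first | exact type_of% @Cfsg.Agent.H455.OreM.Enum.go | exact Unit : Sort _) := by first | (refine @Subtype.val _ (fun g => @Cfsg.Agent.H455.OreM.Enum.go = @g) (@Subtype.mk _ _ (@(fun (x0 : @Nat) (x1 : (@Nat → @Bool)) (x2 : @List.{0} (@Prod.{0, 0} @Nat @Nat)) (x3 : @Nat) => @List.rec.{1, 0} (@Prod.{0, 0} @Nat @Nat) @(fun (x4 : @List.{0} (@Prod.{0, 0} @Nat @Nat)) => (@Nat → @Bool)) @(fun (x4 : @Nat) => @Bool.true) @(fun (x4 : @Prod.{0, 0} @Nat @Nat) (x5 : @List.{0} (@Prod.{0, 0} @Nat @Nat)) (x6 : (@Nat → @Bool)) (x7 : @Nat) => @Prod.rec.{1, 0, 0} @Nat @Nat @(fun (x8 : @Prod.{0, 0} @Nat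 @Nat) => @Bool) @(fun (x8 : @Nat) (x9 : @Nat) => @Cfsg.Agent.KOadaaf30.k3 @x0 @x1 @(fun (x10 : @Nat) => @x6 @x10) @x8 @x9 @x7) @x4) @x2 @x3)) ?_); rewrite [← Cfsg.Agent.KOadaaf30.e3]; funext a0 a1 a2 a3; refine (congrFun (_root_.Cfsg.Agent.KOadaaf30.e0 (fun a2 a3 => @Cfsg.Agent.H455.OreM.Enum.go a0 a1 a2 a3) ?_ (fun c0 c1 => ?_) a2) a3 :) <;> ((try delta Cfsg.Agent.H455.OreM.Enum.go Cfsg.Agent.H455.OreM.Enum.go._f); (try generalize @Cfsg.Agent.H455.OreM.Enum.up = g0); rfl')) | exact @Cfsg.Agent.H455.OreM.Enum.go | exact ()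
private theorem _root_.Cfsg.Agent.KOadaaf30.e4 : (by first | exact @Cfsg.Agent.H455.OreM.Enum.go = @_root_.Cfsg.Agent.KOadaaf30.k4 | exact True : Prop) := by first | (delta _root_.Cfsg.Agent.KOadaaf30.k4; exact @Subtype.property _ (fun g => @Cfsg.Agent.H455.OreM.Enum.go = @g) _) | rfl | trivial
private noncomputable def _root_.Cfsg.Agent.KOadaaf30.k5 : (by first | exact type_of% @Cfsg.Agent.H606.OreM.Num.allB | exact Unit : Sort _) := by first | (refine @Subtype.val _ (fun g => @Cfsg.Agent.H606.OreM.Num.allB = @g) (@Subtype.mk _ _ (@(fun (x0 : (@Nat → @Bool)) (x1 : @Nat) (x2 : @Nat) (x3 : @Nat) => @Nat.rec.{1} @(fun (x4 : @Nat) => (@Nat → @Bool)) @(fun (x4 : @Nat) => @Bool.rec.{1} @(fun (x5 : @Bool) => @Bool) (@x0 @x4) @Bool.true (@Nat.ble @x1 @x4)) @(fun (x4 : @Nat) (x5 : (@Nat → @Bool)) (x6 : @Nat) => @Bool.rec.{1} @(fun (x7 : @Bool) => @Bool) (@Bool.rec.{1} @(fun (x7 : @Bool) => @Bool) @Bool.false (@x5 (@Nat.add @x6 (@Nat.pow (nat_lit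 2) @x4))) (@x5 @x6)) @Bool.true (@Nat.ble @x1 @x6)) @x2 @x3)) ?_); funext a0 a1 a2 a3; refine (congrFun (_root_.Cfsg.Agent.KOadaaf30.e1 (fun a2 a3 => @Cfsg.Agent.H606.OreM.Num.allB a0 a1 a2 a3) ?_ (fun c0 => ?_) a2) a3 :) <;> (rfl')) | exact @Cfsg.Agent.H606.OreM.Num.allB | exact ()
private theorem _root_.Cfsg.Agent.KOadaaf30.e5 : (by first | exact @Cfsg.Agent.H606.OreM.Num.allB = @_root_.Cfsg.Agent.KOadaaf30.k5 | exact True : Prop) := by first | (delta _root_.Cfsg.Agent.KOadaaf30.k5; exact @Subtype.property _ (fun g => @Cfsg.Agent.H606.OreM.Num.allB = @g) _) | rfl | trivial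
private noncomputable def _root_.Cfsg.Agent.KOadaaf30.k6 : (by first | exact type_of% @Cfsg.Agent.H606.OreM.Num.testY | exact Unit : Sort _) := by first | (refine @Subtype.val _ (fun g => @Cfsg.Agent.H606.OreM.Num.testY = @g) (@Subtype.mk _ _ (@(fun (x0 : @Nat) (x1 : @Nat) (x2 : @Nat) (x3 : @Nat) => @Bool.rec.{1} @(fun (x4 : @Bool) => @Bool) @Bool.true @Bool.false (@Bool.rec.{1} @(fun (x4 : @Bool) => @Bool) @Bool.false (@Bool.rec.{1} @(fun (x4 : @Bool) => @Bool) (@Nat.ble (@Nat.mul (@Nat.mul (nat_lit 3) (nat_lit 16775168)) (@Nat.div (@Nat.sub (@Nat.mul (nat_lit 3) @x2) (@Nat.mul (nat_lit 47) @x3)) (nat_lit 256))) (@Nat.add (@Nat.mul (nat_lit 3) @x1) (@Nat.mul (nat_lit 192489) (@Nat.sub (@Nat.mul (nat_lit 256) (@Nat.div (@Nat.sub (@Nat.mul (nat_lit 3) @x2) (@Nat.mul (nat_lit 47) @x3)) (nat_lit 256))) @x3)))) (@Nat.ble (@Nat.add (@Nat.mul (@Nat.mul (nat_lit 3) (nat_lit 16775168)) (@Nat.div (@Nat.sub (@Nat.mul (nat_lit 3) @x2) (@Nat.mul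 (nat_lit 47) @x3)) (nat_lit 256))) (@Nat.mul (nat_lit 196584) (@Nat.sub @x3 (@Nat.mul (nat_lit 256) (@Nat.div (@Nat.sub (@Nat.mul (nat_lit 3) @x2) (@Nat.mul (nat_lit 47) @x3)) (nat_lit 256)))))) (@Nat.mul (nat_lit 3) @x1)) (@Nat.ble (@Nat.mul (nat_lit 256) (@Nat.div (@Nat.sub (@Nat.mul (nat_lit 3) @x2) (@Nat.mul (nat_lit 47) @x3)) (nat_lit 256))) @x3)) (@Bool.rec.{1} @(fun (x4 : @Bool) => @Bool) @Bool.false (@Nat.ble (@Nat.mul (nat_lit 253) (@Nat.div (@Nat.sub (@Nat.mul (nat_lit 3) @x2) (@Nat.mul (nat_lit 47) @x3)) (nat_lit 256))) @x3) (@Bool.rec.{1} @(fun (x4 : @Bool) => @Bool) @Bool.false (@Nat.beq (@Nat.mod @x3 @x0) (nat_lit 0)) (@Bool.rec.{1} @(fun (x4 : @Bool) => @Bool) @Bool.false (@Nat.beq (@Nat.mod (@Nat.sub (@Nat.mul (nat_lit 3) @x2) (@Nat.mul (nat_lit 47) @x3)) (nat_lit 256)) (nat_lit 0)) (@Nat.ble (@Nat.mul (nat_lit 47) @x3) (@Nat.mul (nat_lit 3) @x2)))))))) ?_); rfl') | exact @Cfsg.Agent.H606.OreM.Num.testY | exact ()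
private theorem _root_.Cfsg.Agent.KOadaaf30.e6 : (by first | exact @Cfsg.Agent.H606.OreM.Num.testY = @_root_.Cfsg.Agent.KOadaaf30.k6 | exact True : Prop) := by first | (delta _root_.Cfsg.Agent.KOadaaf30.k6; exact @Subtype.property _ (fun g => @Cfsg.Agent.H606.OreM.Num.testY = @g) _) | rfl | trivial
private noncomputable def _root_.Cfsg.Agent.KOadaaf30.k7.{ku0} : ((x0 : Sort (ku0+1)) → ((@List.{ku0} @x0) → ((x0 → @Bool) → @Bool))) := @(fun (x0 : Sort (ku0+1)) (x1 : @List.{ku0} @x0) (x2 : (x0 → @Bool)) => @List.rec.{(ku0+1), ku0} @x0 @(fun (x3 : @List.{ku0} @x0) => ((x0 → @Bool) → @Bool)) @(fun (x3 : (x0 → @Bool)) => @Bool.true) @(fun (x3 : x0) (x4 : @List.{ku0} @x0) (x5 : ((x0 → @Bool) → @Bool)) (x6 : (x0 → @Bool)) => @Bool.rec.{1} @(fun (x7 : @Bool) => @Bool) @Bool.false (@x5 @x6) (@x6 @x3)) @x1 @x2)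
private theorem _root_.Cfsg.Agent.KOadaaf30.e7.{ku0} : @List.all.{ku0} = @_root_.Cfsg.Agent.KOadaaf30.k7.{ku0} := by delta _root_.Cfsg.Agent.KOadaaf30.k7; funext a0 a1 a2; refine (congrFun (_root_.Cfsg.Agent.KOadaaf30.e0 (fun a1 a2 => @List.all.{ku0} a0 a1 a2) ?_ (fun c0 c1 => ?_) a1) a2 :) <;> (rfl')
private noncomputable def _root_.Cfsg.Agent.KOadaaf30.k8.{ku0} : ((x0 : Sort (ku0+1)) → ((@List.{ku0} @x0) → ((x0 → @Bool) → @Bool))) := @(fun (x0 : Sort (ku0+1)) (x1 : @List.{ku0} @x0) (x2 : (x0 → @Bool)) => @List.rec.{(ku0+1), ku0} @x0 @(fun (x3 : @List.{ku0} @x0) => ((x0 → @Bool) → @Bool)) @(fun (x3 : (x0 → @Bool)) => @Bool.false) @(fun (x3 : x0) (x4 : @List.{ku0} @x0) (x5 : ((x0 → @Bool) → @Bool)) (x6 : (x0 → @Bool)) => @Bool.rec.{1} @(fun (x7 : @Bool) => @Bool) (@x5 @x6) @Bool.true (@x6 @x3)) @x1 @x2)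
private theorem _root_.Cfsg.Agent.KOadaaf30.e8.{ku0} : @List.any.{ku0} = @_root_.Cfsg.Agent.KOadaaf30.k8.{ku0} := by delta _root_.Cfsg.Agent.KOadaaf30.k8; funext a0 a1 a2; refine (congrFun (_root_.Cfsg.Agent.KOadaaf30.e0 (fun a1 a2 => @List.any.{ku0} a0 a1 a2) ?_ (fun c0 c1 => ?_) a1) a2 :) <;> (rfl')
private noncomputable def _root_.Cfsg.Agent.KOadaaf30.k9 : (by first | exact type_of% @Cfsg.Agent.H606.OreM.Num.testX | exact Unit : Sort _) := by first | (refine @Subtype.val _ (fun g => @Cfsg.Agent.H606.OreM.Num.testX = @g) (@Subtype.mk _ _ (@(fun (x0 : @List.{0} (@Prod.{0, 0} @Nat (@List.{0} @Nat))) (x1 : @Nat) (x2 : @Nat) (x3 : @Nat) (x4 : @Nat) (x5 : @Nat) => @Bool.rec.{1} @(fun (x6 : @Bool) => @Bool) (@Cfsg.Agent.KOadaaf30.k5 (@Cfsg.Agent.KOadaaf30.k6 @x1 @x2 @x5) @x4 (nat_lit 20) @x3) @Bool.true (@Bool.rec.{1} @(fun (x6 : @Bool) => @Bool) @Bool.true @Bool.false (@Cfsg.Agent.KOadaaf30.k7.{0} (@Prod.{0, 0} @Nat (@List.{0} @Nat)) @x0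 @(fun (x6 : @Prod.{0, 0} @Nat (@List.{0} @Nat)) => @Cfsg.Agent.KOadaaf30.k8.{0} @Nat (@Prod.snd.{0, 0} @Nat (@List.{0} @Nat) @x6) @(fun (x7 : @Nat) => @Nat.beq (@Nat.mod @x5 (@Prod.fst.{0, 0} @Nat (@List.{0} @Nat) @x6)) @x7)))))) ?_); rewrite [← Cfsg.Agent.KOadaaf30.e5, ← Cfsg.Agent.KOadaaf30.e6, ← Cfsg.Agent.KOadaaf30.e7.{0}, ← Cfsg.Agent.KOadaaf30.e8.{0}]; (try delta Cfsg.Agent.H606.OreM.Num.testX Cfsg.Agent.H606.OreM.Num.mem); (try generalize @Cfsg.Agent.H606.OreM.Num.allB = g0); (try generalize @Cfsg.Agent.H606.OreM.Num.testY = g1); rfl') | exact @Cfsg.Agent.H606.OreM.Num.testX | exact ()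
private theorem _root_.Cfsg.Agent.KOadaaf30.e9 : (by first | exact @Cfsg.Agent.H606.OreM.Num.testX = @_root_.Cfsg.Agent.KOadaaf30.k9 | exact True : Prop) := by first | (delta _root_.Cfsg.Agent.KOadaaf30.k9; exact @Subtype.property _ (fun g => @Cfsg.Agent.H606.OreM.Num.testX = @g) _) | rfl | trivial
private noncomputable def _root_.Cfsg.Agent.KOadaaf30.k10.{ku0, ku1} : ((x0 : Sort (ku0+1)) → ((x1 : Sort (ku1+1)) → ((x0 → x1) → ((@List.{ku0} @x0) → @List.{ku1} @x1)))) := @(fun (x0 : Sort (ku0+1)) (x1 : Sort (ku1+1)) (x2 : (x0 → x1)) (x3 : @List.{ku0} @x0) => @List.rec.{(ku1+1), ku0} @x0 @(fun (x4 : @List.{ku0} @x0) => @List.{ku1} @x1) (@List.nil.{ku1} @x1) @(fun (x4 : x0) (x5 : @List.{ku0} @x0) (x6 : @List.{ku1} @x1) => @List.cons.{ku1} @x1 (@x2 @x4) @x6) @x3)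
private theorem _root_.Cfsg.Agent.KOadaaf30.e10.{ku0, ku1} : @List.map.{ku0, ku1} = @_root_.Cfsg.Agent.KOadaaf30.k10.{ku0, ku1} := by delta _root_.Cfsg.Agent.KOadaaf30.k10; funext a0 a1 a2 a3; refine (_root_.Cfsg.Agent.KOadaaf30.e0 (fun a3 => @List.map.{ku0, ku1} a0 a1 a2 a3) ?_ (fun c0 c1 => ?_) a3 :) <;> (rfl')
private noncomputable def _root_.Cfsg.Agent.KOadaaf30.k11.{ku0} : ((x0 : Sort (ku0+1)) → ((x0 → @Bool) → ((@List.{ku0} @x0) → @List.{ku0} @x0))) := @(fun (x0 : Sort (ku0+1)) (x1 : (x0 → @Bool)) (x2 : @List.{ku0} @x0) => @List.rec.{(ku0+1), ku0} @x0 @(fun (x3 : @List.{ku0} @x0) => @List.{ku0} @x0) (@List.nil.{ku0} @x0) @(fun (x3 : x0) (x4 : @List.{ku0} @x0) (x5 : @List.{ku0} @x0) => @Bool.rec.{(ku0+1)} @(fun (x6 : @Bool) => @List.{ku0} @x0) @x5 (@List.cons.{ku0} @x0 @x3 @x5) (@x1 @x3)) @x2)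
private theorem _root_.Cfsg.Agent.KOadaaf30.e11.{ku0} : @List.filter.{ku0} = @_root_.Cfsg.Agent.KOadaaf30.k11.{ku0} := by delta _root_.Cfsg.Agent.KOadaaf30.k11; funext a0 a1 a2; refine (_root_.Cfsg.Agent.KOadaaf30.e0 (fun a2 => @List.filter.{ku0} a0 a1 a2) ?_ (fun c0 c1 => ?_) a2 :) <;> (rfl')
private noncomputable def _root_.Cfsg.Agent.KOadaaf30.k12 : (by first | exact type_of% @Cfsg.Agent.H606.OreM.Num.xres | exact Unit : Sort _) := by first | (refine @Subtype.val _ (fun g => @Cfsg.Agent.H606.OreM.Num.xres = @g) (@Subtype.mk _ _ (@(fun (x0 : @Nat) (x1 : @List.{0} (@Prod.{0, 0} (@List.{0} @Nat) @Nat)) (x2 : @Nat) => @Bool.rec.{1} @(fun (x3 : @Bool) => @List.{0} @Nat) (@Cfsg.Agent.KOadaaf30.k10.{0, 0} (@Prod.{0, 0} (@List.{0} @Nat) @Nat) @Nat @(fun (x3 : @Prod.{0, 0} (@List.{0} @Nat) @Nat) => @Nat.mod (@Nat.mul (@Prod.snd.{0, 0} (@List.{0} @Nat) @Nat @x3) (@Nat.mod @x2 @x0)) @x0) (@Cfsg.Agent.KOadaaf30.k11.{0} (@Prod.{0, 0} (@List.{0}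 @Nat) @Nat) @(fun (x3 : @Prod.{0, 0} (@List.{0} @Nat) @Nat) => @Cfsg.Agent.KOadaaf30.k8.{0} @Nat (@Prod.fst.{0, 0} (@List.{0} @Nat) @Nat @x3) @(fun (x4 : @Nat) => @Nat.beq (@Nat.mod @x2 @x0) @x4)) @x1)) (@List.cons.{0} @Nat (nat_lit 0) (@List.nil.{0} @Nat)) (@Nat.beq (@Nat.mod @x2 @x0) (nat_lit 0)))) ?_); rewrite [← Cfsg.Agent.KOadaaf30.e10.{0, 0}, ← Cfsg.Agent.KOadaaf30.e11.{0}, ← Cfsg.Agent.KOadaaf30.e8.{0}]; rfl') | exact @Cfsg.Agent.H606.OreM.Num.xres | exact ()
private theorem _root_.Cfsg.Agent.KOadaaf30.e12 : (by first | exact @Cfsg.Agent.H606.OreM.Num.xres = @_root_.Cfsg.Agent.KOadaaf30.k12 | exact True : Prop) := by first | (delta _root_.Cfsg.Agent.KOadaaf30.k12; exact @Subtype.property _ (fun g => @Cfsg.Agent.H606.OreM.Num.xres = @g) _) | rfl | trivial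
private noncomputable def _root_.Cfsg.Agent.KOadaaf30.k13 : (by first | exact type_of% @Cfsg.Agent.H606.OreM.Num.testD | exact Unit : Sort _) := by first | (refine @Subtype.val _ (fun g => @Cfsg.Agent.H606.OreM.Num.testD = @g) (@Subtype.mk _ _ (@(fun (x0 : @Nat) (x1 : @Nat) (x2 : @List.{0} (@Prod.{0, 0} @Nat (@List.{0} (@Prod.{0, 0} (@List.{0} @Nat) @Nat)))) (x3 : @Nat) => @Bool.rec.{1} @(fun (x4 : @Bool) => @Bool) (@Bool.rec.{1} @(fun (x4 : @Bool) => @Bool) @Bool.false (@Cfsg.Agent.KOadaaf30.k5 @(fun (x4 : @Nat) => @Cfsg.Agent.KOadaaf30.k9 (@Cfsg.Agent.KOadaaf30.k10.{0, 0} (@Prod.{0, 0} @Nat (@List.{0} (@Prod.{0, 0} (@List.{0} @Nat) @Nat))) (@Prod.{0, 0} @Nat (@List.{0} @Nat)) @(fun (x5 : @Prod.{0, 0} @Nat (@List.{0} (@Prod.{0, 0} (@List.{0} @Nat) @Nat))) => @Prod.mk.{0, 0} @Nat (@List.{0} @Nat) (@Prod.fst.{0, 0} @Nat (@List.{0} (@Prod.{0, 0} (@List.{0} @Nat) @Nat)) @x5) (@Cfsg.Agent.KOadaaf30.k12 (@Prod.fst.{0, 0} @Nat (@List.{0}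 (@Prod.{0, 0} (@List.{0} @Nat) @Nat)) @x5) (@Prod.snd.{0, 0} @Nat (@List.{0} (@Prod.{0, 0} (@List.{0} @Nat) @Nat)) @x5) @x3)) @x2) (@Nat.div @x3 (@Nat.gcd @x3 @x1)) @x3 (@Nat.sub (@Nat.div (@Nat.mul (nat_lit 40) @x3) (nat_lit 2686976)) (nat_lit 1)) (@Nat.add (@Nat.div (@Nat.add (@Nat.mul (nat_lit 42) @x3) (nat_lit 257)) (nat_lit 2686976)) (nat_lit 1)) (@Nat.mul (@Nat.div @x3 (@Nat.gcd @x3 @x0)) @x4)) (@Nat.add (@Nat.div (@Nat.div (@Nat.mul (nat_lit 12147) (@Nat.add (@Nat.mul (nat_lit 42) @x3) (nat_lit 257))) (nat_lit 2039414784)) (@Nat.div @x3 (@Nat.gcd @x3 @x0))) (nat_lit 1)) (nat_lit 21) (@Nat.div (@Nat.sub (@Nat.div (@Nat.mul (nat_lit 47) (@Nat.mul (nat_lit 40) @x3)) (nat_lit 8060928)) (nat_lit 1)) (@Nat.div @x3 (@Nat.gcd @x3 @x0)))) (@Bool.rec.{1} @(fun (x4 : @Bool) => @Bool) @Bool.false (@Nat.ble (@Nat.add (@Nat.div (@Nat.div (@Nat.mul (nat_lit 12147) (@Nat.add (@Nat.mul (nat_lit 42) @x3) (nat_lit 257))) (nat_lit 2039414784)) (@Nat.div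 @x3 (@Nat.gcd @x3 @x0))) (nat_lit 1)) (nat_lit 2097152)) (@Nat.ble (@Nat.add (@Nat.div (@Nat.add (@Nat.mul (nat_lit 42) @x3) (nat_lit 257)) (nat_lit 2686976)) (nat_lit 1)) (nat_lit 1048576)))) @Bool.true (@Cfsg.Agent.KOadaaf30.k8.{0} (@Prod.{0, 0} @Nat (@List.{0} (@Prod.{0, 0} (@List.{0} @Nat) @Nat))) @x2 @(fun (x4 : @Prod.{0, 0} @Nat (@List.{0} (@Prod.{0, 0} (@List.{0} @Nat) @Nat))) => @List.rec.{1, 0} @Nat @(fun (x5 : @List.{0} @Nat) => @Bool) @Bool.true @(fun (x5 : @Nat) (x6 : @List.{0} @Nat) (x7 : @Bool) => @Bool.false) (@Cfsg.Agent.KOadaaf30.k12 (@Prod.fst.{0, 0} @Nat (@List.{0} (@Prod.{0, 0} (@List.{0} @Nat) @Nat)) @x4) (@Prod.snd.{0, 0} @Nat (@List.{0} (@Prod.{0, 0} (@List.{0} @Nat) @Nat)) @x4) @x3))))) ?_); rewrite [← Cfsg.Agent.KOadaaf30.e5, ← Cfsg.Agent.KOadaaf30.e9, ← Cfsg.Agent.KOadaaf30.e10.{0, 0}, ← Cfsg.Agent.KOadaaf30.e12, ← Cfsg.Agent.KOadaaf30.e8.{0}]; (try delta Cfsg.Agent.H606.OreM.Num.testD); (try generalize @Cfsg.Agent.H606.OreM.Num.allB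 = g0); (try generalize @Cfsg.Agent.H606.OreM.Num.testX = g1); (try generalize @Cfsg.Agent.H606.OreM.Num.xres = g2); rfl') | exact @Cfsg.Agent.H606.OreM.Num.testD | exact ()
private theorem _root_.Cfsg.Agent.KOadaaf30.e13 : (by first | exact @Cfsg.Agent.H606.OreM.Num.testD = @_root_.Cfsg.Agent.KOadaaf30.k13 | exact True : Prop) := by first | (delta _root_.Cfsg.Agent.KOadaaf30.k13; exact @Subtype.property _ (fun g => @Cfsg.Agent.H606.OreM.Num.testD = @g) _) | rfl | trivial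
private noncomputable def _root_.Cfsg.Agent.KOadaaf30.k14 : (by first | exact type_of% @Cfsg.Agent.H455.OreM.Enum.bit | exact Unit : Sort _) := by first | (refine @Subtype.val _ (fun g => @Cfsg.Agent.H455.OreM.Enum.bit = @g) (@Subtype.mk _ _ (@(fun (x0 : @Nat) (x1 : @Nat) (x2 : @Nat) => @Nat.beq (@Nat.mod (@Nat.shiftRight @x0 (@Nat.mod @x2 @x1)) (nat_lit 2)) (nat_lit 1))) ?_); rfl') | exact @Cfsg.Agent.H455.OreM.Enum.bit | exact ()
private theorem _root_.Cfsg.Agent.KOadaaf30.e14 : (by first | exact @Cfsg.Agent.H455.OreM.Enum.bit = @_root_.Cfsg.Agent.KOadaaf30.k14 | exact True : Prop) := by first | (delta _root_.Cfsg.Agent.KOadaaf30.k14; exact @Subtype.property _ (fun g => @Cfsg.Agent.H455.OreM.Enum.bit = @g) _) | rfl | trivial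
private noncomputable def _root_.Cfsg.Agent.KOadaaf30.k15 : (by first | exact type_of% @Cfsg.Agent.H455.OreM.Cert19.tst | exact Unit : Sort _) := by first | (refine @Subtype.val _ (fun g => @Cfsg.Agent.H455.OreM.Cert19.tst = @g) (@Subtype.mk _ _ (@(fun (x0 : @Nat) => @Bool.rec.{1} @(fun (x1 : @Bool) => @Bool) @Bool.true (@Bool.rec.{1} @(fun (x1 : @Bool) => @Bool) @Bool.true (@Bool.rec.{1} @(fun (x1 : @Bool) => @Bool) (@Bool.rec.{1} @(fun (x1 : @Bool) => @Bool) @Bool.true (@Bool.rec.{1} @(fun (x1 : @Bool) => @Bool) @Bool.true (@Cfsg.Agent.KOadaaf30.k13 @Cfsg.Agent.H606.OreM.Num.cA @Cfsg.Agent.H606.OreM.Num.cB @Cfsg.Agent.H606.OreM.Num.tabs @x0) (@Cfsg.Agent.KOadaaf30.k14 (nat_lit 288230377762324483) (nat_lit 59) @x0)) (@Cfsg.Agent.KOadaaf30.k14 (nat_lit 1180591620820490518531) (nat_lit 71) @x0)) @Bool.true (@Nat.ble @x0 (nat_lit 196882))) (@Cfsg.Agent.KOadaaf30.k14 (nat_lit 294930) (nat_lit 19) @x0)) (@Cfsg.Agent.KOadaaf30.k14 (nat_lit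 1099511627778) (nat_lit 41) @x0))) ?_); rewrite [← Cfsg.Agent.KOadaaf30.e13, ← Cfsg.Agent.KOadaaf30.e14]; (try delta Cfsg.Agent.H455.OreM.Cert19.tst); (try generalize @Cfsg.Agent.H606.OreM.Num.testD = g0); (try generalize @Cfsg.Agent.H606.OreM.Num.cA = g1); (try generalize @Cfsg.Agent.H606.OreM.Num.cB = g2); (try generalize @Cfsg.Agent.H606.OreM.Num.tabs = g3); (try generalize @Cfsg.Agent.H455.OreM.Enum.bit = g4); rfl') | exact @Cfsg.Agent.H455.OreM.Cert19.tst | exact ()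
private theorem _root_.Cfsg.Agent.KOadaaf30.e15 : (by first | exact @Cfsg.Agent.H455.OreM.Cert19.tst = @_root_.Cfsg.Agent.KOadaaf30.k15 | exact True : Prop) := by first | (delta _root_.Cfsg.Agent.KOadaaf30.k15; exact @Subtype.property _ (fun g => @Cfsg.Agent.H455.OreM.Cert19.tst = @g) _) | rfl | trivial

theorem check0 : go 280000000 tst Lo 1 = true := by (first | (rewrite [Cfsg.Agent.KOadaaf30.e4, Cfsg.Agent.KOadaaf30.e15]; decide +kernel) | decide +kernel)

private noncomputable def _root_.Cfsg.Agent.KOadaaf30.k16 : (by first | exact type_of% @Cfsg.Agent.H455.OreM.Cert19.gg | exact Unit : Sort _) := by first | (refine @Subtype.val _ (fun g => @Cfsg.Agent.H455.OreM.Cert19.gg = @g) (@Subtype.mk _ _ (@(fun (x0 : @Nat) => @Bool.rec.{1} @(fun (x1 : @Bool) => @Bool) @Bool.false (@Cfsg.Agent.KOadaaf30.k4 (nat_lit 280000000) @Cfsg.Agent.KOadaaf30.k15 @Cfsg.Agent.H455.OreM.Cert19.Lo @x0) (@Cfsg.Agent.KOadaaf30.k15 @x0))) ?_); rewrite [← Cfsg.Agent.KOadaaf30.e4,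 ← Cfsg.Agent.KOadaaf30.e15]; (try delta Cfsg.Agent.H455.OreM.Cert19.gg); (try generalize @Cfsg.Agent.H455.OreM.Enum.go = g0); (try generalize @Cfsg.Agent.H455.OreM.Cert19.tst = g1); (try generalize @Cfsg.Agent.H455.OreM.Cert19.Lo = g2); rfl') | exact @Cfsg.Agent.H455.OreM.Cert19.gg | exact ()
private theorem _root_.Cfsg.Agent.KOadaaf30.e16 : (by first | exact @Cfsg.Agent.H455.OreM.Cert19.gg = @_root_.Cfsg.Agent.KOadaaf30.k16 | exact True : Prop) := by first | (delta _root_.Cfsg.Agent.KOadaaf30.k16; exact @Subtype.property _ (fun g => @Cfsg.Agent.H455.OreM.Cert19.gg = @g) _) | rfl | trivial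

theorem check1 : gg 2 = true := by (first | (rewrite [Cfsg.Agent.KOadaaf30.e16]; decide +kernel) | decide +kernel)

theorem check2 : gg 4 = true := by (first | (rewrite [Cfsg.Agent.KOadaaf30.e16]; decide +kernel) | decide +kernel)

private noncomputable def _root_.Cfsg.Agent.KOadaaf30.k17 : (@Bool → (@Bool → @Bool)) := @(fun (x0 : @Bool) (x1 : @Bool) => @Bool.rec.{1} @(fun (x2 : @Bool) => @Bool) @Bool.false @x1 @x0)
private theorem _root_.Cfsg.Agent.KOadaaf30.e17 : @Bool.and = @_root_.Cfsg.Agent.KOadaaf30.k17 := by delta _root_.Cfsg.Agent.KOadaaf30.k17; rfl'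

theorem check3 : (gg 8 && gg 16) = true := by (first | (rewrite [Cfsg.Agent.KOadaaf30.e17, Cfsg.Agent.KOadaaf30.e16]; decide +kernel) | decide +kernel)

theorem check5 : (gg 32 && gg 64 && gg 128) = true := by (first | (rewrite [Cfsg.Agent.KOadaaf30.e17, Cfsg.Agent.KOadaaf30.e16]; decide +kernel) | decide +kernel)

theorem check8 : (gg 256 && gg 512 && gg 1024 && gg 2048) = true := by (first | (rewrite [Cfsg.Agent.KOadaaf30.e17, Cfsg.Agent.KOadaaf30.e16]; decide +kernel) | decide +kernel)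

theorem check12 : (gg 4096 && gg 8192 && gg 16384 && gg 32768 && gg 65536 && gg 131072 && gg 262144 && gg 524288 &&
    gg 1048576 && gg 2097152 && gg 4194304 && gg 8388608 && gg 16777216 && gg 33554432 && gg 67108864 && gg 134217728 &&
    gg 268435456) = true := by (first | (rewrite [Cfsg.Agent.KOadaaf30.e17, Cfsg.Agent.KOadaaf30.e16]; decide +kernel) | decide +kernel)

theorem gg_all : ∀ i, 1 ≤ i → 2 ^ i < 280000000 → gg (2 ^ i) = true := by
  intro i hi h
  have h29 : i < 29 := by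
    by_contra hcon
    have : 2 ^ 29 ≤ 2 ^ i := Nat.pow_le_pow_right (by norm_num) (not_lt.1 hcon)
    omega
  have c3 := check3
  have c5 := check5
  have c8 := check8
  have c12 := check12
  simp only [Bool.and_eq_true] at c3 c5 c8 c12
  clear h
  interval_cases i
  · exact check1
  · exact check2
  · exact c3.1
  · exact c3.2
  · exact c5.1.1
  · exact c5.1.2
  · exact c5.2
  · exact c8.1.1.1
  · exact c8.1.1.2
  · exact c8.1.2
  · exact c8.2
  · exact c12.1.1.1.1.1.1.1.1.1.1.1.1.1.1.1.1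
  · exact c12.1.1.1.1.1.1.1.1.1.1.1.1.1.1.1.2
  · exact c12.1.1.1.1.1.1.1.1.1.1.1.1.1.1.2
  · exact c12.1.1.1.1.1.1.1.1.1.1.1.1.1.2
  · exact c12.1.1.1.1.1.1.1.1.1.1.1.1.2
  · exact c12.1.1.1.1.1.1.1.1.1.1.1.2
  · exact c12.1.1.1.1.1.1.1.1.1.1.2
  · exact c12.1.1.1.1.1.1.1.1.1.2
  · exact c12.1.1.1.1.1.1.1.1.2
  · exact c12.1.1.1.1.1.1.1.2
  · exact c12.1.1.1.1.1.1.2
  · exact c12.1.1.1.1.1.2
  · exact c12.1.1.1.1.2
  · exact c12.1.1.1.2
  · exact c12.1.1.2
  · exact c12.1.2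
  · exact c12.2

theorem check : go 280000000 tst L 1 = true := by
  show up 280000000 tst (go 280000000 tst Lo) 2 46 1 = true
  apply up_of
  · intro i _ h
    rw [one_mul] at h ⊢
    rcases Nat.eq_zero_or_pos i with rfl | hi
    · exact check0
    · have := gg_all i hi h
      rw [gg, Bool.and_eq_true] at this
      exact this.2
  · intro i hi _ h
    rw [one_mul] at h ⊢
    have := gg_all i hi h
    rw [gg, Bool.and_eq_true] at this
    exact this.1
  · norm_num

theorem main {d : ℕ} (hd : d ∣ 808017424794512875886459904961710757005754368000000000) (h1 : 196883 ≤ d) (h2 : d < 280000000)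
    (h41 : [1, 40].contains (d % 41) = true) (h19 : [1, 4, 15, 18].contains (d % 19) = true)
    (h71 : [0, 1, 70, 35, 36].contains (d % 71) = true) (h59 : [0, 1, 58, 29, 30].contains (d % 59) = true) :
    testD cA cB tabs d = true := by
  have p41 : Nat.Prime 41 := by norm_num
  have p19 : Nat.Prime 19 := by norm_num
  have c41 : Nat.Coprime d 41 := by
    rw [Nat.coprime_comm, p41.coprime_iff_not_dvd]
    intro h
    rw [Nat.mod_eq_zero_of_dvd h] at h41
    exact absurd h41 (by decide)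
  have c19 : Nat.Coprime d 19 := by
    rw [Nat.coprime_comm, p19.coprime_iff_not_dvd]
    intro h
    rw [Nat.mod_eq_zero_of_dvd h] at h19
    exact absurd h19 (by decide)
  have hd' : d ∣ prod L := by
    rw [← L_prod] at hd
    exact (Nat.Coprime.mul_right c19 c41).dvd_of_dvd_mul_right hd
  have h := go_spec (q := 0) (by decide) L_prime check d hd' (by omega) (by rwa [one_mul])
  have h3 : Nat.ble d 196882 = false := by
    rw [Bool.eq_false_iff]; intro h; have := Nat.le_of_ble_eq_true h; omega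
  rw [one_mul, tst, h3, bit_of (wl := [1, 40]) (by norm_num) (by decide +kernel) h41,
    bit_of (wl := [1, 4, 15, 18]) (by norm_num) (by decide +kernel) h19,
    bit_of (wl := [0, 1, 70, 35, 36]) (by norm_num) (by decide +kernel) h71,
    bit_of (wl := [0, 1, 58, 29, 30]) (by norm_num) (by decide +kernel) h59] at h
  exact h

end Cfsg.Agent.H455.OreM.Cert19
end

-- part: H455/OreM/Deg19
section
/-!
# The Monster: the degrees with `χ(1) ≡ ± 1 (41)`, `χ(1) ≡ ± 1, ± 4 (19)` are at least 280000000 (helper455, for `four_M`)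

`Loc` : the orders of the centralizers used; `main` : the bound.
-/

set_option autoImplicit false
set_option maxRecDepth 100000

open Cfsg Subgroup

namespace Cfsg.Agent.H455.OreM.Deg19

open Cfsg.Agent.BpSpor.MBigModel
open Cfsg.Agent.LThreeB.Row (TA)
open Cfsg.Agent.Characters.Core
open Cfsg.Agent.H606.OreM Cfsg.Agent.H606.OreM.Num

/-- a column: the orders of `C(x)` and of `C(x) ∩ C(t)`, `t ∈ 2A` -/
structure Col (r k c : ℕ) : Prop where
  hc : ∀ x : MG, orderOf x = r → Nat.card (centralizer ({x} : Set MG)) = r * k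
  ht : ∀ x t : MG, orderOf x = r → TA t → t * x = x * t →
    Nat.card (centralizer ({x} : Set MG) ⊓ centralizer ({t} : Set MG) : Subgroup MG) = r * c

/-- the local facts -/
structure Loc : Prop where
  c41 : ∀ x : MG, orderOf x = 41 → Nat.card (centralizer ({x} : Set MG)) = 41
  c59 : ∀ x : MG, orderOf x = 59 → Nat.card (centralizer ({x} : Set MG)) = 59
  c71 : ∀ x : MG, orderOf x = 71 → Nat.card (centralizer ({x} : Set MG)) = 71
  l47 : Col 47 2 2
  l31 : Col 31 6 2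
  l23 : Col 23 24 4
  l19 : Col 19 60 4
  l17 : Col 17 168 8

theorem exists_order {r : ℕ} (hr : r.Prime) (hd : r ∣ 808017424794512875886459904961710757005754368000000000) :
    ∃ x : MG, orderOf x = r := by
  have hF : Fact r.Prime := ⟨hr⟩
  exact exists_prime_orderOf_dvd_card' (G := MG) r (by rw [card_M]; exact hd)

theorem exists_ta : ∃ t : MG, TA t := by
  obtain ⟨y, -, -, h⟩ := exists_two
  exact ⟨y, h⟩

theorem tabs_ne : ∀ x ∈ tabs, ∀ a ∈ x.2, 0 ∉ a.1 := by decide +kernel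

theorem col47 : colOK 47 2 2 23 2 1 tab47 = true := by decide +kernel

theorem col31 : colOK 31 6 2 15 2 3 tab31 = true := by decide +kernel

theorem col23 : colOK 23 24 4 11 2 6 tab23 = true := by decide +kernel

theorem col19 : colOK 19 60 4 18 1 15 tab19 = true := by decide +kernel

theorem col17 : colOK 17 168 8 16 1 21 tab17 = true := by decide +kernel

theorem Col.okX {r k c e f s : ℕ} (h : Col r k c) (hr : r.Prime)
    (hd : r ∣ 808017424794512875886459904961710757005754368000000000) {T : List (List ℕ × ℕ)}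
    (hcol : colOK r k c e f s T = true) (χ : IrrCharacter MG) {t : MG} (ht : TA t) {X : ℕ}
    (hX : (χ : MG → ℂ) t = (((charDegree (χ : MG → ℂ) : ℤ) - 4096 * X : ℤ) : ℂ)) :
    OkX r T (charDegree (χ : MG → ℂ)) X :=
  Cfsg.Agent.H606.OreM.okX hr hcol (exists_order hr hd) h.hc h.ht χ ht hX

/-- the numbers of a character -/
theorem exists_cand (L : Loc) (χ : IrrCharacter MG) :
    ∃ b c e : ℕ, Cand cA cB tabs (charDegree (χ : MG → ℂ)) b c e := by
  obtain ⟨t, ht⟩ := exists_ta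
  obtain ⟨a, b, c, e, h1, h2, h3⟩ := values χ ht
  set d := charDegree (χ : MG → ℂ) with hd
  have hd0 : 0 < d := by
    obtain ⟨n, hn0, hn⟩ := isIrr_apply_one χ.2
    rw [hd]
    unfold charDegree
    rw [hn]
    simpa using hn0
  have hX : (χ : MG → ℂ) t = (((d : ℤ) - 4096 * ((47 * b + 4096 * c + 4049 * e : ℕ) : ℤ) : ℤ) : ℂ) := by
    rw [h2, h1]
    congr 1
    push_cast
    ring
  have hY : (χ : MG → ℂ) zz = (((d : ℤ) - 65536 * ((3 * b + 256 * c + 253 * e : ℕ) : ℤ) : ℤ) : ℂ) := by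
    rw [h3, h1]
    congr 1
    push_cast
    ring
  have hZ := zbound L.c41 χ hY
  rw [← hd] at hZ
  obtain ⟨wA, -, hwA⟩ := omega_int χ t hX
  obtain ⟨wB, -, hwB⟩ := omega_int χ zz hY
  rw [index_A ht, ← hd] at hwA
  rw [index_B, ← hd] at hwB
  have hA : ((d : ℕ) : ℤ) ∣ ((cA * (47 * b + 4096 * c + 4049 * e) : ℕ) : ℤ) := by
    refine ⟨nA - wA, ?_⟩
    unfold cA
    unfold nA at hwA ⊢
    push_cast at hwA ⊢
    linear_combination hwA
  have hB : ((d : ℕ) : ℤ) ∣ ((cB * (3 * b + 256 * c + 253 * e) : ℕ) : ℤ) := by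
    refine ⟨nB - wB, ?_⟩
    unfold cB
    unfold nB at hwB ⊢
    push_cast at hwB ⊢
    linear_combination hwB
  refine ⟨b, c, e, ⟨hd0, by omega, by exact_mod_cast hA, by exact_mod_cast hB, ?_, ?_, ?_⟩⟩
  · intro x hx
    simp only [tabs, List.mem_cons, List.not_mem_nil, or_false] at hx
    rcases hx with rfl | rfl | rfl | rfl | rfl
    · exact L.l47.okX (by norm_num) (by norm_num) col47 χ ht hX
    · exact L.l31.okX (by norm_num) (by norm_num) col31 χ ht hX
    · exact L.l23.okX (by norm_num) (by norm_num) col23 χ ht hX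
    · exact L.l19.okX (by norm_num) (by norm_num) col19 χ ht hX
    · exact L.l17.okX (by norm_num) (by norm_num) col17 χ ht hX
  · have h4 := neg_abs_le ((d : ℤ) - 65536 * ((3 * b + 256 * c + 253 * e : ℕ) : ℤ))
    have h5 : 2686976 * ((3 * b + 256 * c + 253 * e : ℕ) : ℤ) ≤ 42 * d + 257 := by linarith
    exact_mod_cast h5
  · have h4 := le_abs_self ((d : ℤ) - 65536 * ((3 * b + 256 * c + 253 * e : ℕ) : ℤ))
    have h5 : 40 * (d : ℤ) ≤ 2686976 * ((3 * b + 256 * c + 253 * e : ℕ) : ℤ) + 257 := by linarith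
    exact_mod_cast h5

/-- the test fails at a degree -/
theorem testD_deg (L : Loc) (χ : IrrCharacter MG) : testD cA cB tabs (charDegree (χ : MG → ℂ)) = false := by
  obtain ⟨b, c, e, h⟩ := exists_cand L χ
  exact testD_false tabs_ne h

/-- the residues modulo 71 -/
theorem res71 (L : Loc) (χ : IrrCharacter MG) : [0, 1, 70, 35, 36].contains (charDegree (χ : MG → ℂ) % 71) = true := by
  obtain ⟨x, hx⟩ := exists_order (r := 71) (by norm_num) (by norm_num)
  have h := res_self (r := 71) (e := 35) (f := 2) (by norm_num) (by decide +kernel) hx (L.c71 x hx) χ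
  rcases h with h | h | h | h | h <;> rw [h] <;> rfl

/-- the residues modulo 59 -/
theorem res59 (L : Loc) (χ : IrrCharacter MG) : [0, 1, 58, 29, 30].contains (charDegree (χ : MG → ℂ) % 59) = true := by
  obtain ⟨x, hx⟩ := exists_order (r := 59) (by norm_num) (by norm_num)
  have h := res_self (r := 59) (e := 29) (f := 2) (by norm_num) (by decide +kernel) hx (L.c59 x hx) χ
  rcases h with h | h | h | h | h <;> rw [h] <;> rfl

/-- **The degrees with the residues `± 1` modulo 41, `± 1, ± 4` modulo 19.** -/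
theorem main (L : Loc) (χ : IrrCharacter MG) (hχ : (χ : MG → ℂ) ≠ 1) (h41 : charDegree (χ : MG → ℂ) % 41 ∈ [1, 40])
    (h19 : charDegree (χ : MG → ℂ) % 19 ∈ [1, 4, 15, 18]) : 280000000 ≤ charDegree (χ : MG → ℂ) := by
  by_contra hlt
  push Not at hlt
  have hd : charDegree (χ : MG → ℂ) ∣ 808017424794512875886459904961710757005754368000000000 := by
    rw [← card_M]
    exact Blocks.Knorr.charDegree_dvd χ.2
  have h := Cert19.main hd (min_deg χ hχ) hlt (List.contains_iff_mem.2 h41) (List.contains_iff_mem.2 h19)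
    (res71 L χ) (res59 L χ)
  rw [testD_deg L χ] at h
  exact absurd h (by decide)

end Cfsg.Agent.H455.OreM.Deg19
end

private theorem dce_3b3f4279a7b6 : _root_.True := by
  try have : _root_.True := by simp only [_root_.Cfsg.Agent.H455.OreM.Enum.go.eq_1]
  try have : _root_.True := by simp only [_root_.Cfsg.Agent.H455.OreM.Enum.sorted.eq_1]
  try have : _root_.True := by simp only [_root_.Cfsg.Agent.H455.OreM.Enum.go.eq_2]
  try have : _root_.True := by simp only [_root_.Cfsg.Agent.H455.OreM.Enum.sorted.eq_2]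
  try have : _root_.True := by simp only [_root_.Cfsg.Agent.H455.OreM.Cert19.L.eq_1]
  try have : _root_.True := by simp only [_root_.Cfsg.Agent.H455.OreM.Enum.up.eq_def]
  try have : _root_.True := by simp only [_root_.Cfsg.Agent.H455.OreM.Enum.sorted.eq_def]
  try have : _root_.True := by simp only [_root_.Cfsg.Agent.H455.OreM.Enum.go.eq_def]
  try have : _root_.True := by simp only [_root_.Cfsg.Agent.H455.OreM.Enum.prod.eq_2]
  try have : _root_.True := by simp only [_root_.Cfsg.Agent.H455.OreM.Cert19.gg.eq_1]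
  try have : _root_.True := by simp only [_root_.Cfsg.Agent.H606.OreM.Num.tabs.eq_1]
  try have : _root_.True := by simp only [_root_.Cfsg.Agent.H455.OreM.Enum.prod.eq_def]
  try have : _root_.True := by simp only [_root_.Cfsg.Agent.H455.OreM.Enum.prod.eq_1]
  try have : _root_.True := by simp only [_root_.Cfsg.Agent.H455.OreM.Enum.up.eq_2]
  try have : _root_.True := by simp only [_root_.Cfsg.Agent.H455.OreM.Enum.up.eq_1]
  try have : _root_.True := by simp only [_root_.Cfsg.Agent.H455.OreM.Cert19.tst.eq_1]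
  exact _root_.True.intro
end

-- part: H606/OreM/Sieve
section
set_option linter.all false
open scoped Cfsg.Agent.FastGrp

-- part: H606/OreM/CertP1
section
/-! # The certificate of the sieve for the Monster, part 1 (helper606) -/

set_option autoImplicit false
set_option maxRecDepth 100000
set_option Elab.async false

namespace Cfsg.Agent.H606.OreM.Num

/-! ### all powers of two at once (helper11) -/

/-- tables of exponents -/
private noncomputable def t59 : ℕ := 0xc00000040000c00000000300000018000001800000000000300000000c00000060018000000c0000000c000000c00000060000000003000000003000000180018000000c018000000c000060000003000000c0000006000006000001000000180000c0000006000000000180000000000600000000000300000000c00000060c0000006000000c000000618000000c000018000000c0000000180000000c00000060000018000000c000300000018060000003000000030000000c00000060030000001800000060000003018000000c000000600000030000000600000000003000000000003000006000000300020000003000000000300000000018000000c03000000180030000001800000c000000600006000000300000018000018000000c0000000060000000300000018000060000003000000060000000000c00000000600000030000006000000000018000000800000000000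
/-- tables of exponents -/
private noncomputable def t71 : ℕ := 0x3000000004003000000000000000c000000060000000018000000030000000030000000030000000000300000000018000000030180000000300000018000000000000600018000000030000000c000000000006000000000180000000000000c000000180000000318000000030003000000006000000000c0000000060000000000000c000000000030000000000018001800000003000000006000000000180000010000000060000000180000000c0000000180000c0000000300000000600000000c0000001800000003003000000006000000600000600000000c000006000000001800000003000000c00000200000000c0000000c000000000000c00000c00000001800000000030000000000180000000000180000000030000000000000180001800000003030000000060000c000000018000001800000000c000000000000c000000000060000003000000006000000000300000000030000000c0000000180030000000060001800000000000600000000000001800003000000006000030000000000000018000000180000000000600000000ffffffffffff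
/-- tables of exponents -/
private noncomputable def t41 : ℕ := 0x1004010040101004010040000000000000002008020080080200802008000000000000000000000000010040100402008020080200802008020080000000000000000000000000000000000000000000000000000000000200802008020000000000000200802008020000000000000100401004010200802008020000000000004010040100400000000000040100401004000000000000000000000000000000000000000000000000000000000000100401004011004010040100020080200800000000000000000000000004010040100400401004010000000000000002008020080008020080200ffffffffffff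

private noncomputable def _root_.Cfsg.Agent.KO61dfabc.k0 : type_of% @Decidable.decide := @(fun x0 x1 => @Decidable.rec.{1} _ @(fun x2 => @Bool) @(fun x2 => @Bool.false) @(fun x2 => @Bool.true) @x1)
private theorem _root_.Cfsg.Agent.KO61dfabc.e0 : @Decidable.decide = @_root_.Cfsg.Agent.KO61dfabc.k0 := by delta _root_.Cfsg.Agent.KO61dfabc.k0; rfl'
private noncomputable def _root_.Cfsg.Agent.KO61dfabc.k1l (n : Nat) (P : ∀ k, k < n → Prop) (H : ∀ k h, Decidable (P k h)) (m : Nat) : m ≤ n → Bool := @Nat.rec (fun m => m ≤ n → Bool) (fun _ => true) (fun k ih h => @Decidable.rec (P k h) (fun _ => Bool) (fun _ => false) (fun _ => ih (Nat.le_of_succ_le h)) (H k h)) m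
private theorem _root_.Cfsg.Agent.KO61dfabc.k1ls (n : Nat) (P : ∀ k, k < n → Prop) (H : ∀ k h, Decidable (P k h)) (m : Nat) : ∀ h : m ≤ n, _root_.Cfsg.Agent.KO61dfabc.k1l n P H m h = true ↔ ∀ k (g : k < m), P k (Nat.lt_of_lt_of_le g h) := by induction m with | zero => exact fun _ => ⟨fun _ _ g => absurd g (Nat.not_lt_zero _), fun _ => rfl⟩ | succ m ih => intro h; show @Decidable.rec (P m h) (fun _ => Bool) (fun _ => false) (fun _ => _root_.Cfsg.Agent.KO61dfabc.k1l n P H m (Nat.le_of_succ_le h)) (H m h) = true ↔ _; cases H m h with | isFalse q => exact ⟨fun g => absurd g Bool.false_ne_true, fun g => absurd (g m (Nat.lt_succ_self m)) q⟩ | isTrue q => exact ⟨fun g k hk => (Nat.lt_succ_iff_lt_or_eq.1 hk).elim ((ih _).1 g k) fun e => by subst e; exact q, fun g => (ih _).2 fun k hk => g k (Nat.lt_succ_of_lt hk)⟩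
private noncomputable def _root_.Cfsg.Agent.KO61dfabc.k1 (n : Nat) (P : ∀ k, k < n → Prop) (H : ∀ k h, Decidable (P k h)) : Decidable (∀ k h, P k h) := @Bool.rec (fun b => _root_.Cfsg.Agent.KO61dfabc.k1l n P H n (Nat.le_refl n) = b → Decidable (∀ k h, P k h)) (fun g => isFalse fun q => Bool.false_ne_true (g.symm.trans ((_root_.Cfsg.Agent.KO61dfabc.k1ls n P H n _).2 fun k h => q k h))) (fun g => isTrue fun k h => (_root_.Cfsg.Agent.KO61dfabc.k1ls n P H n _).1 g k h) (_root_.Cfsg.Agent.KO61dfabc.k1l n P H n (Nat.le_refl n)) rfl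
private theorem _root_.Cfsg.Agent.KO61dfabc.e1 : @Nat.decidableBallLT = @_root_.Cfsg.Agent.KO61dfabc.k1 := funext fun _ => funext fun _ => funext fun _ => Subsingleton.elim _ _
private noncomputable def _root_.Cfsg.Agent.KO61dfabc.k2 : type_of% @forall_prop_decidable := @(fun x0 x1 x2 x3 => @Decidable.rec.{1} _ @(fun x4 => @Decidable ((x5 : @x0) → @x1 @x5)) @(fun x4 => @Decidable.isTrue _ (@forall_prop_decidable._proof_2 _ @x1 @x4)) @(fun x4 => @Decidable.rec.{1} _ @(fun x5 => @Decidable ((x6 : @x0) → @x1 @x6)) @(fun x5 => @Decidable.isFalse _ (@decidable_of_decidable_of_iff._proof_1 _ _ (@forall_prop_decidable._proof_1 _ @x1 @x4) @x5)) @(fun x5 => @Decidable.isTrue _ (@Iff.mp _ _ (@forall_prop_decidable._proof_1 _ @x1 @x4) @x5)) (@x3 @x4)) @x2)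
private theorem _root_.Cfsg.Agent.KO61dfabc.e2 : @forall_prop_decidable = @_root_.Cfsg.Agent.KO61dfabc.k2 := by delta _root_.Cfsg.Agent.KO61dfabc.k2; rfl'
private noncomputable def _root_.Cfsg.Agent.KO61dfabc.k3 : type_of% @Bool.decEq := @(fun x0 x1 => @Bool.rec.{1} @(fun x2 => @Decidable (@Eq.{1} _ @x2 @x1)) (@Bool.rec.{1} @(fun x2 => @Decidable (@Eq.{1} _ @Bool.false @x2)) (@Decidable.isTrue _ (@rfl.{1} _ _)) (@Decidable.isFalse _ @(fun x2 => @Bool.noConfusion.{0} _ _ _ @x2)) @x1) (@Bool.rec.{1} @(fun x2 => @Decidable (@Eq.{1} _ @Bool.true @x2)) (@Decidable.isFalse _ @(fun x2 => @Bool.noConfusion.{0} _ _ _ @x2)) (@Decidable.isTrue _ (@rfl.{1} _ _)) @x1) @x0)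
private theorem _root_.Cfsg.Agent.KO61dfabc.e3 : @Bool.decEq = @_root_.Cfsg.Agent.KO61dfabc.k3 := by delta _root_.Cfsg.Agent.KO61dfabc.k3; rfl'
private noncomputable def _root_.Cfsg.Agent.KO61dfabc.k4 : type_of% @instDecidableEqBool := @Cfsg.Agent.KO61dfabc.k3
private theorem _root_.Cfsg.Agent.KO61dfabc.e4 : @instDecidableEqBool = @_root_.Cfsg.Agent.KO61dfabc.k4 := by delta _root_.Cfsg.Agent.KO61dfabc.k4; rewrite [← Cfsg.Agent.KO61dfabc.e3]; rfl'
private noncomputable def _root_.Cfsg.Agent.KO61dfabc.k5 : (by first | exact type_of% @Cfsg.Agent.H606.OreM.Num.bit | exact Unit : Sort _) := by first | (refine @Subtype.val _ (fun g => @Cfsg.Agent.H606.OreM.Num.bit = @g) (@Subtype.mk _ _ (@(fun x0 x1 => @Nat.beq (@Nat.land (@Nat.shiftRight @x0 @x1) (nat_lit 1)) (nat_lit 1))) ?_); rfl') | exact @Cfsg.Agent.H606.OreM.Num.bit | exact ()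
private theorem _root_.Cfsg.Agent.KO61dfabc.e5 : (by first | exact @Cfsg.Agent.H606.OreM.Num.bit = @_root_.Cfsg.Agent.KO61dfabc.k5 | exact True : Prop) := by first | (delta _root_.Cfsg.Agent.KO61dfabc.k5; exact @Subtype.property _ (fun g => @Cfsg.Agent.H606.OreM.Num.bit = @g) _) | rfl | trivial
private noncomputable def _root_.Cfsg.Agent.KO61dfabc.oEq.{ku} (α : Sort ku) (a b : Nat) (f t : α) : α := @Decidable.rec (a = b) (fun _ => α) (fun _ => f) (fun _ => t) (Nat.decEq a b)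
private noncomputable def _root_.Cfsg.Agent.KO61dfabc.k6.{ku} (α : Sort ku) (a b : Nat) (f t : α) : α := @Bool.rec (fun _ => α) f t (Nat.beq a b)
private theorem _root_.Cfsg.Agent.KO61dfabc.e6.{ku} : @_root_.Cfsg.Agent.KO61dfabc.oEq.{ku} = @_root_.Cfsg.Agent.KO61dfabc.k6.{ku} := funext fun α => funext fun a => funext fun b => funext fun f => funext fun t => by delta _root_.Cfsg.Agent.KO61dfabc.oEq _root_.Cfsg.Agent.KO61dfabc.k6; cases h : Nat.beq a b <;> cases Nat.decEq a b <;> rename_i g <;> first | rfl | exact absurd g (Nat.ne_of_beq_eq_false h) | exact absurd (Nat.eq_of_beq_eq_true h) g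
private noncomputable def _root_.Cfsg.Agent.KO61dfabc.k7 : type_of% @Nat.testBit := @(fun x0 x1 => @Bool.rec.{1} @(fun x2 => @Bool) @Bool.true @Bool.false (@Cfsg.Agent.KO61dfabc.k6.{1} @Bool (@Nat.land (nat_lit 1) (@Nat.shiftRight @x0 @x1)) (nat_lit 0) @Bool.false @Bool.true))
private theorem _root_.Cfsg.Agent.KO61dfabc.e7 : @Nat.testBit = @_root_.Cfsg.Agent.KO61dfabc.k7 := by delta _root_.Cfsg.Agent.KO61dfabc.k7; rewrite [← Cfsg.Agent.KO61dfabc.e6.{1}]; rfl'

private theorem h59 : ∀ r < 59, ∀ k < 47, bit 288230377762324482 (r * 2 ^ k % 59) = true → (t59 >>> (47 * r)).testBit k = true := by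
  (first | (refine of_decide_eq_true ?_; rewrite [Cfsg.Agent.KO61dfabc.e0, Cfsg.Agent.KO61dfabc.e1, Cfsg.Agent.KO61dfabc.e2, Cfsg.Agent.KO61dfabc.e4, Cfsg.Agent.KO61dfabc.e5, Cfsg.Agent.KO61dfabc.e7]; decide +kernel) | decide +kernel)
private theorem _root_.Cfsg.Agent.KO61dfabc.e8.{ku, kv} {α : Type kv} {M : List α → Sort ku} (φ : ∀ l, M l) {z : M List.nil} {s : ∀ a l, M l → M (List.cons a l)} (h0 : φ List.nil = z) (hs : ∀ a l, φ (List.cons a l) = s a l (φ l)) (l : List α) : φ l = @List.rec α M z s l := List.rec h0 (fun a l ih => (hs a l).trans (congrArg (s a l) ih)) l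
private noncomputable def _root_.Cfsg.Agent.KO61dfabc.k9.{ku0} : type_of% @List.any.{ku0} := @(fun x0 x1 x2 => @List.rec.{(ku0+1), ku0} @x0 @(fun x3 => (@x0 → @Bool) → @Bool) @(fun x3 => @Bool.false) @(fun x3 x4 x5 x6 => @Bool.rec.{1} @(fun x7 => @Bool) (@x5 @x6) @Bool.true (@x6 @x3)) @x1 @x2)
private theorem _root_.Cfsg.Agent.KO61dfabc.e9.{ku0} : @List.any.{ku0} = @_root_.Cfsg.Agent.KO61dfabc.k9.{ku0} := by delta _root_.Cfsg.Agent.KO61dfabc.k9; funext a0 a1 a2; refine (congrFun (_root_.Cfsg.Agent.KO61dfabc.e8 (fun a1 a2 => @List.any.{ku0} a0 a1 a2) ?_ (fun c0 c1 => ?_) a1) a2 :) <;> (rfl')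
private noncomputable def _root_.Cfsg.Agent.KO61dfabc.k10 : (by first | exact type_of% @Cfsg.Agent.H606.OreM.Num.mem | exact Unit : Sort _) := by first | (refine @Subtype.val _ (fun g => @Cfsg.Agent.H606.OreM.Num.mem = @g) (@Subtype.mk _ _ (@(fun x0 x1 => @Cfsg.Agent.KO61dfabc.k9.{0} _ @x0 @(fun x2 => @Nat.beq @x1 @x2))) ?_); rewrite [← Cfsg.Agent.KO61dfabc.e9.{0}]; rfl') | exact @Cfsg.Agent.H606.OreM.Num.mem | exact ()
private theorem _root_.Cfsg.Agent.KO61dfabc.e10 : (by first | exact @Cfsg.Agent.H606.OreM.Num.mem = @_root_.Cfsg.Agent.KO61dfabc.k10 | exact True : Prop) := by first | (delta _root_.Cfsg.Agent.KO61dfabc.k10; exact @Subtype.property _ (fun g => @Cfsg.Agent.H606.OreM.Num.mem = @g) _) | rfl | trivial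

private theorem h71 : ∀ r < 71, ∀ k < 47, mem [0, 1, 35, 36, 70] (r * 2 ^ k % 71) = true → (t71 >>> (47 * r)).testBit k = true := by
  (first | (refine of_decide_eq_true ?_; rewrite [Cfsg.Agent.KO61dfabc.e0, Cfsg.Agent.KO61dfabc.e1, Cfsg.Agent.KO61dfabc.e2, Cfsg.Agent.KO61dfabc.e4, Cfsg.Agent.KO61dfabc.e10, Cfsg.Agent.KO61dfabc.e7]; decide +kernel) | decide +kernel)
private theorem h41 : ∀ r < 41, ∀ k < 47, mem [0, 1, 40] (r * 2 ^ k % 41) = true → (t41 >>> (47 * r)).testBit k = true := by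
  (first | (refine of_decide_eq_true ?_; rewrite [Cfsg.Agent.KO61dfabc.e0, Cfsg.Agent.KO61dfabc.e1, Cfsg.Agent.KO61dfabc.e2, Cfsg.Agent.KO61dfabc.e4, Cfsg.Agent.KO61dfabc.e10, Cfsg.Agent.KO61dfabc.e7]; decide +kernel) | decide +kernel)

/-- the exponents which survive -/
private noncomputable def msk2 (x : ℕ) : ℕ :=
  Nat.land (Nat.land (Nat.shiftRight t59 (Nat.mul 47 (Nat.mod x 59))) (Nat.shiftRight t71 (Nat.mul 47 (Nat.mod x 71))))
    (Nat.shiftRight t41 (Nat.mul 47 (Nat.mod x 41)))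

private theorem cert_of_msk {dn dx : ℕ} {T : List (ℕ × List (List ℕ × ℕ))} {x k : ℕ} (hk : k < 47)
    (h : (msk2 x).testBit k = false) : cert dn dx T (x * 2 ^ k) = true := by
  have h' : (((t59 >>> (47 * (x % 59))) &&& (t71 >>> (47 * (x % 71)))) &&& (t41 >>> (47 * (x % 41)))).testBit k = false := h
  have a1 := h59 (x % 59) (Nat.mod_lt _ (by decide)) k hk
  have a2 := h71 (x % 71) (Nat.mod_lt _ (by decide)) k hk
  have a3 := h41 (x % 41) (Nat.mod_lt _ (by decide)) k hk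
  rw [Nat.mod_mul_mod] at a1 a2 a3
  rw [Nat.testBit_and, Nat.testBit_and] at h'
  delta cert
  cases b1 : bit 288230377762324482 (x * 2 ^ k % 59) with
  | false => rfl
  | true =>
    cases b2 : mem [0, 1, 35, 36, 70] (x * 2 ^ k % 71) with
    | false => simp only [Bool.not_false, Bool.or_true, Bool.true_or]
    | true =>
      cases b3 : mem [0, 1, 40] (x * 2 ^ k % 41) with
      | false => simp only [Bool.not_false, Bool.or_true, Bool.true_or]
      | true =>
        rw [a1 b1, a2 b2, a3 b3] at h'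
        exact Bool.noConfusion h'

private theorem pwL_intro {L q : ℕ} {f : ℕ → Bool} : ∀ {k x : ℕ}, f x = true →
    (∀ i ≤ k, x * q ^ i ≤ L → f (x * q ^ i) = true) → pwL L q k f x = true
  | 0, _, h, _ => h
  | k + 1, x, h, h1 => by
    rw [pwL_succ, h, Bool.true_and, Bool.or_eq_true, Nat.blt_eq]
    by_cases h2 : L < x * q
    · exact Or.inl h2
    have e : ∀ i, x * q * q ^ i = x * q ^ (i + 1) := fun i => by rw [pow_succ', mul_assoc]
    refine Or.inr (pwL_intro ?_ fun i hi h3 => ?_)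
    · have h3 := h1 1 (by omega)
      rw [pow_one] at h3
      exact h3 (not_lt.1 h2)
    · rw [e] at h3 ⊢
      exact h1 (i + 1) (by omega) h3

/-- the last level -/
private noncomputable def two (L : ℕ) (f : ℕ → Bool) (x : ℕ) : Bool :=
  Bool.rec (pwL L 2 46 f x) true (Nat.ble (Nat.add (Nat.div L x) 2) (Nat.gcd (msk2 x) 140737488355328))

private theorem two_eq {L : ℕ} {f : ℕ → Bool} (hf : ∀ x k, k < 47 → (msk2 x).testBit k = false → f (x * 2 ^ k) = true) :
    pwL L 2 46 f = two L f := by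
  funext x
  change _ = (Bool.rec (pwL L 2 46 f x) true (Nat.ble (L / x + 2) (Nat.gcd (msk2 x) (2 ^ 47))) : Bool)
  cases h : Nat.ble (L / x + 2) (Nat.gcd (msk2 x) (2 ^ 47)) with
  | false => rfl
  | true =>
    have h1 := Nat.le_of_ble_eq_true h
    obtain ⟨a, -, ha⟩ := (Nat.dvd_prime_pow Nat.prime_two).1 (Nat.gcd_dvd_right (msk2 x) (2 ^ 47))
    obtain ⟨c, hc⟩ := Nat.gcd_dvd_left (msk2 x) (2 ^ 47)
    rw [ha] at h1 hc
    have key : ∀ k, k < 47 → 2 ^ k ≤ L / x + 1 → f (x * 2 ^ k) = true := fun k hk h2 => hf x k hk (by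
      have h3 : k < a := (Nat.pow_lt_pow_iff_right (by decide)).1 (lt_of_le_of_lt h2 h1)
      rw [hc, Nat.testBit_two_pow_mul, decide_eq_false (not_le.2 h3), Bool.false_and])
    have h0 := key 0 (by decide) (Nat.le_add_left _ _)
    rw [pow_zero, mul_one] at h0
    refine pwL_intro h0 fun i hi h2 => ?_
    rcases Nat.eq_zero_or_pos x with rfl | hx
    · rw [zero_mul]
      exact h0
    · exact key i (by omega) (((Nat.le_div_iff_mul_le hx).2 (mul_comm x _ ▸ h2)).trans (Nat.le_succ _))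

private theorem tst_two (l : List (ℕ × ℕ)) (x : ℕ) : tst (l ++ [(2, 46)]) x =
    chkL 6527402252 l (two 6527402252 (cert 4962352590 6527402253 tabs)) x := by
  rw [← two_eq fun _ _ => cert_of_msk]
  induction l generalizing x with
  | nil => rfl
  | cons a l ih => exact congrArg (fun g => pwL 6527402252 a.1 a.2 g x) (funext ih)

theorem cb_1 : tst lstB 1 = true :=
  (tst_two [(19, 1), (17, 1), (13, 3), (11, 2), (7, 6), (5, 9), (3, 20)] 1).trans (by decide +kernel)

theorem cb_23 : tst lstB 23 = true :=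
  (tst_two [(19, 1), (17, 1), (13, 3), (11, 2), (7, 6), (5, 9), (3, 20)] 23).trans (by decide +kernel)

end Cfsg.Agent.H606.OreM.Num
end

-- part: H606/OreM/CertP2
section
/-! # The certificate of the sieve for the Monster, part 2 (helper606) -/

set_option autoImplicit false
set_option maxRecDepth 100000
set_option Elab.async false

namespace Cfsg.Agent.H606.OreM.Num

theorem cb_29 : tst lstB 29 = true :=
  (tst_two [(19, 1), (17, 1), (13, 3), (11, 2), (7, 6), (5, 9), (3, 20)] 29).trans (by decide +kernel)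

theorem cb_667 : tst lstB 667 = true :=
  (tst_two [(19, 1), (17, 1), (13, 3), (11, 2), (7, 6), (5, 9), (3, 20)] 667).trans (by decide +kernel)

private noncomputable def _root_.Cfsg.Agent.KO61dfabc.k11 : (by first | exact type_of% @Cfsg.Agent.H606.OreM.Num.pwL | exact Unit : Sort _) := by first | (refine @Subtype.val _ (fun g => @Cfsg.Agent.H606.OreM.Num.pwL = @g) (@Subtype.mk _ _ (@(fun x0 x1 x2 x3 => @Nat.rec.{1} @(fun x4 => ℕ → @Bool) @x3 @(fun x4 x5 x6 => @Bool.rec.{1} @(fun x7 => @Bool) @Bool.false (@Bool.rec.{1} @(fun x7 => @Bool) (@x5 (@Nat.mul @x6 @x1)) @Bool.true (@Nat.ble (@Nat.succ @x0) (@Nat.mul @x6 @x1))) (@x3 @x6)) @x2)) ?_); rfl') | exact @Cfsg.Agent.H606.OreM.Num.pwL | exact ()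
private theorem _root_.Cfsg.Agent.KO61dfabc.e11 : (by first | exact @Cfsg.Agent.H606.OreM.Num.pwL = @_root_.Cfsg.Agent.KO61dfabc.k11 | exact True : Prop) := by first | (delta _root_.Cfsg.Agent.KO61dfabc.k11; exact @Subtype.property _ (fun g => @Cfsg.Agent.H606.OreM.Num.pwL = @g) _) | rfl | trivial
private noncomputable def _root_.Cfsg.Agent.KO61dfabc.k12 : (by first | exact type_of% @Cfsg.Agent.H606.OreM.Num.chkL | exact Unit : Sort _) := by first | (refine @Subtype.val _ (fun g => @Cfsg.Agent.H606.OreM.Num.chkL = @g) (@Subtype.mk _ _ (@(fun x0 x1 x2 => @List.rec.{1, 0} (ℕ × ℕ) @(fun x3 => ℕ → @Bool) @x2 @(fun x3 x4 x5 => @Cfsg.Agent.KO61dfabc.k11 @x0 (@Prod.fst.{0, 0} _ _ @x3) (@Prod.snd.{0, 0} _ _ @x3) @x5) @x1)) ?_); rewrite [← Cfsg.Agent.KO61dfabc.e11]; (try delta Cfsg.Agent.H606.OreM.Num.chkL); (try generalize @Cfsg.Agent.H606.OreM.Num.pwL = g0); rfl') | exact @Cfsg.Agent.H606.OreM.Num.chkL | exact ()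
private theorem _root_.Cfsg.Agent.KO61dfabc.e12 : (by first | exact @Cfsg.Agent.H606.OreM.Num.chkL = @_root_.Cfsg.Agent.KO61dfabc.k12 | exact True : Prop) := by first | (delta _root_.Cfsg.Agent.KO61dfabc.k12; exact @Subtype.property _ (fun g => @Cfsg.Agent.H606.OreM.Num.chkL = @g) _) | rfl | trivial
private noncomputable def _root_.Cfsg.Agent.KO61dfabc.k13 : (by first | exact type_of% @Cfsg.Agent.H606.OreM.Num.msk2 | exact Unit : Sort _) := by first | (refine @Subtype.val _ (fun g => @Cfsg.Agent.H606.OreM.Num.msk2 = @g) (@Subtype.mk _ _ (@(fun x0 => @Nat.land (@Nat.land (@Nat.shiftRight @Cfsg.Agent.H606.OreM.Num.t59 (@Nat.mul (nat_lit 47) (@Nat.mod @x0 (nat_lit 59)))) (@Nat.shiftRight @Cfsg.Agent.H606.OreM.Num.t71 (@Nat.mul (nat_lit 47) (@Nat.mod @x0 (nat_lit 71))))) (@Nat.shiftRight @Cfsg.Agent.H606.OreM.Num.t41 (@Nat.mul (nat_lit 47) (@Nat.mod @x0 (nat_lit 41)))))) ?_); (try delta Cfsg.Agent.H606.OreM.Num.msk2); (try generalize @Cfsg.Agent.H606.OreM.Num.t59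 = g0); (try generalize @Cfsg.Agent.H606.OreM.Num.t71 = g1); (try generalize @Cfsg.Agent.H606.OreM.Num.t41 = g2); rfl') | exact @Cfsg.Agent.H606.OreM.Num.msk2 | exact ()
private theorem _root_.Cfsg.Agent.KO61dfabc.e13 : (by first | exact @Cfsg.Agent.H606.OreM.Num.msk2 = @_root_.Cfsg.Agent.KO61dfabc.k13 | exact True : Prop) := by first | (delta _root_.Cfsg.Agent.KO61dfabc.k13; exact @Subtype.property _ (fun g => @Cfsg.Agent.H606.OreM.Num.msk2 = @g) _) | rfl | trivial
private noncomputable def _root_.Cfsg.Agent.KO61dfabc.k14 : (by first | exact type_of% @Cfsg.Agent.H606.OreM.Num.two | exact Unit : Sort _) := by first | (refine @Subtype.val _ (fun g => @Cfsg.Agent.H606.OreM.Num.two = @g) (@Subtype.mk _ _ (@(fun x0 x1 x2 => @Bool.rec.{1} @(fun x3 => @Bool) (@Cfsg.Agent.KO61dfabc.k11 @x0 (nat_lit 2) (nat_lit 46) @x1 @x2) @Bool.true (@Nat.ble (@Nat.add (@Nat.div @x0 @x2) (nat_lit 2)) (@Nat.gcd (@Cfsg.Agent.KO61dfabc.k13 @x2) (nat_lit 140737488355328)))))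 ?_); rewrite [← Cfsg.Agent.KO61dfabc.e13, ← Cfsg.Agent.KO61dfabc.e11]; (try delta Cfsg.Agent.H606.OreM.Num.two); (try generalize @Cfsg.Agent.H606.OreM.Num.pwL = g0); (try generalize @Cfsg.Agent.H606.OreM.Num.msk2 = g1); rfl') | exact @Cfsg.Agent.H606.OreM.Num.two | exact ()
private theorem _root_.Cfsg.Agent.KO61dfabc.e14 : (by first | exact @Cfsg.Agent.H606.OreM.Num.two = @_root_.Cfsg.Agent.KO61dfabc.k14 | exact True : Prop) := by first | (delta _root_.Cfsg.Agent.KO61dfabc.k14; exact @Subtype.property _ (fun g => @Cfsg.Agent.H606.OreM.Num.two = @g) _) | rfl | trivial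
private theorem _root_.Cfsg.Agent.KO61dfabc.e15.{ku} {M : Nat → Sort ku} (φ : ∀ n, M n) {z : M Nat.zero} {s : ∀ n, M n → M (Nat.succ n)} (h0 : φ Nat.zero = z) (hs : ∀ n, φ (Nat.succ n) = s n (φ n)) (n : Nat) : φ n = @Nat.rec M z s n := Nat.rec h0 (fun n ih => (hs n).trans (congrArg (s n) ih)) n
private noncomputable def _root_.Cfsg.Agent.KO61dfabc.k16 : (by first | exact type_of% @Cfsg.Agent.H606.OreM.Num.allB | exact Unit : Sort _) := by first | (refine @Subtype.val _ (fun g => @Cfsg.Agent.H606.OreM.Num.allB = @g) (@Subtype.mk _ _ (@(fun x0 x1 x2 x3 => @Nat.rec.{1} @(fun x4 => ℕ → @Bool) @(fun x4 => @Bool.rec.{1} @(fun x5 => @Bool) (@x0 @x4) @Bool.true (@Nat.ble @x1 @x4)) @(fun x4 x5 x6 => @Bool.rec.{1} @(fun x7 => @Bool) (@Bool.rec.{1} @(fun x7 => @Bool) @Bool.false (@x5 (@Nat.add @x6 (@Nat.pow (nat_lit 2) @x4))) (@x5 @x6)) @Bool.true (@Nat.ble @x1 @x6)) @x2 @x3)) ?_); funext a0 a1 a2 a3; refine (congrFun (_root_.Cfsg.Agent.KO61dfabc.e15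 (fun a2 a3 => @Cfsg.Agent.H606.OreM.Num.allB a0 a1 a2 a3) ?_ (fun c0 => ?_) a2) a3 :) <;> (rfl')) | exact @Cfsg.Agent.H606.OreM.Num.allB | exact ()
private theorem _root_.Cfsg.Agent.KO61dfabc.e16 : (by first | exact @Cfsg.Agent.H606.OreM.Num.allB = @_root_.Cfsg.Agent.KO61dfabc.k16 | exact True : Prop) := by first | (delta _root_.Cfsg.Agent.KO61dfabc.k16; exact @Subtype.property _ (fun g => @Cfsg.Agent.H606.OreM.Num.allB = @g) _) | rfl | trivial
private noncomputable def _root_.Cfsg.Agent.KO61dfabc.k17 : (by first | exact type_of% @Cfsg.Agent.H606.OreM.Num.testY | exact Unit : Sort _) := by first | (refine @Subtype.val _ (fun g => @Cfsg.Agent.H606.OreM.Num.testY = @g) (@Subtype.mk _ _ (@(fun x0 x1 x2 x3 => @Bool.rec.{1} @(fun x4 => @Bool) @Bool.true @Bool.false (@Bool.rec.{1} @(fun x4 => @Bool) @Bool.false (@Bool.rec.{1} @(fun x4 => @Bool) (@Nat.ble (@Nat.mul (@Nat.mul (nat_lit 3) (nat_lit 16775168)) (@Nat.div (@Nat.sub (@Nat.mul (nat_lit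 3) @x2) (@Nat.mul (nat_lit 47) @x3)) (nat_lit 256))) (@Nat.add (@Nat.mul (nat_lit 3) @x1) (@Nat.mul (nat_lit 192489) (@Nat.sub (@Nat.mul (nat_lit 256) (@Nat.div (@Nat.sub (@Nat.mul (nat_lit 3) @x2) (@Nat.mul (nat_lit 47) @x3)) (nat_lit 256))) @x3)))) (@Nat.ble (@Nat.add (@Nat.mul (@Nat.mul (nat_lit 3) (nat_lit 16775168)) (@Nat.div (@Nat.sub (@Nat.mul (nat_lit 3) @x2) (@Nat.mul (nat_lit 47) @x3)) (nat_lit 256))) (@Nat.mul (nat_lit 196584) (@Nat.sub @x3 (@Nat.mul (nat_lit 256) (@Nat.div (@Nat.sub (@Nat.mul (nat_lit 3) @x2) (@Nat.mul (nat_lit 47) @x3)) (nat_lit 256)))))) (@Nat.mul (nat_lit 3) @x1)) (@Nat.ble (@Nat.mul (nat_lit 256) (@Nat.div (@Nat.sub (@Nat.mul (nat_lit 3) @x2) (@Nat.mul (nat_lit 47) @x3)) (nat_lit 256))) @x3)) (@Bool.rec.{1} @(fun x4 => @Bool) @Bool.false (@Nat.ble (@Nat.mul (nat_lit 253) (@Nat.div (@Nat.sub (@Nat.mul (nat_lit 3) @x2) (@Nat.mul (nat_lit 47) @x3)) (nat_lit 256))) @x3) (@Bool.rec.{1} @(fun x4 => @Bool)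 @Bool.false (@Nat.beq (@Nat.mod @x3 @x0) (nat_lit 0)) (@Bool.rec.{1} @(fun x4 => @Bool) @Bool.false (@Nat.beq (@Nat.mod (@Nat.sub (@Nat.mul (nat_lit 3) @x2) (@Nat.mul (nat_lit 47) @x3)) (nat_lit 256)) (nat_lit 0)) (@Nat.ble (@Nat.mul (nat_lit 47) @x3) (@Nat.mul (nat_lit 3) @x2)))))))) ?_); rfl') | exact @Cfsg.Agent.H606.OreM.Num.testY | exact ()
private theorem _root_.Cfsg.Agent.KO61dfabc.e17 : (by first | exact @Cfsg.Agent.H606.OreM.Num.testY = @_root_.Cfsg.Agent.KO61dfabc.k17 | exact True : Prop) := by first | (delta _root_.Cfsg.Agent.KO61dfabc.k17; exact @Subtype.property _ (fun g => @Cfsg.Agent.H606.OreM.Num.testY = @g) _) | rfl | trivial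
private noncomputable def _root_.Cfsg.Agent.KO61dfabc.k18.{ku0} : type_of% @List.all.{ku0} := @(fun x0 x1 x2 => @List.rec.{(ku0+1), ku0} @x0 @(fun x3 => (@x0 → @Bool) → @Bool) @(fun x3 => @Bool.true) @(fun x3 x4 x5 x6 => @Bool.rec.{1} @(fun x7 => @Bool) @Bool.false (@x5 @x6) (@x6 @x3)) @x1 @x2)
private theorem _root_.Cfsg.Agent.KO61dfabc.e18.{ku0} : @List.all.{ku0} = @_root_.Cfsg.Agent.KO61dfabc.k18.{ku0} := by delta _root_.Cfsg.Agent.KO61dfabc.k18; funext a0 a1 a2; refine (congrFun (_root_.Cfsg.Agent.KO61dfabc.e8 (fun a1 a2 => @List.all.{ku0} a0 a1 a2) ?_ (fun c0 c1 => ?_) a1) a2 :) <;> (rfl')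
private noncomputable def _root_.Cfsg.Agent.KO61dfabc.k19 : (by first | exact type_of% @Cfsg.Agent.H606.OreM.Num.testX | exact Unit : Sort _) := by first | (refine @Subtype.val _ (fun g => @Cfsg.Agent.H606.OreM.Num.testX = @g) (@Subtype.mk _ _ (@(fun x0 x1 x2 x3 x4 x5 => @Bool.rec.{1} @(fun x6 => @Bool) (@Cfsg.Agent.KO61dfabc.k16 (@Cfsg.Agent.KO61dfabc.k17 @x1 @x2 @x5) @x4 (nat_lit 20) @x3) @Bool.true (@Bool.rec.{1} @(fun x6 => @Bool) @Bool.true @Bool.false (@Cfsg.Agent.KO61dfabc.k18.{0} _ @x0 @(fun x6 => @Cfsg.Agent.KO61dfabc.k9.{0} _ (@Prod.snd.{0, 0} _ _ @x6) @(fun x7 => @Nat.beq (@Nat.mod @x5 (@Prod.fst.{0, 0} _ _ @x6)) @x7)))))) ?_); rewrite [← Cfsg.Agent.KO61dfabc.e9.{0}, ← Cfsg.Agent.KO61dfabc.e18.{0}, ← Cfsg.Agent.KO61dfabc.e17, ← Cfsg.Agent.KO61dfabc.e16]; (try delta Cfsg.Agent.H606.OreM.Num.testX Cfsg.Agent.H606.OreM.Num.mem); (try generalize @Cfsg.Agent.H606.OreM.Num.allB = g0); (try generalize @Cfsg.Agent.H606.OreM.Num.testY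 = g1); rfl') | exact @Cfsg.Agent.H606.OreM.Num.testX | exact ()
private theorem _root_.Cfsg.Agent.KO61dfabc.e19 : (by first | exact @Cfsg.Agent.H606.OreM.Num.testX = @_root_.Cfsg.Agent.KO61dfabc.k19 | exact True : Prop) := by first | (delta _root_.Cfsg.Agent.KO61dfabc.k19; exact @Subtype.property _ (fun g => @Cfsg.Agent.H606.OreM.Num.testX = @g) _) | rfl | trivial
private noncomputable def _root_.Cfsg.Agent.KO61dfabc.k20.{ku0, ku1} : type_of% @List.map.{ku0, ku1} := @(fun x0 x1 x2 x3 => @List.rec.{(ku1+1), ku0} @x0 @(fun x4 => @List.{ku1} @x1) [] @(fun x4 x5 x6 => (@x2 @x4) :: @x6) @x3)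
private theorem _root_.Cfsg.Agent.KO61dfabc.e20.{ku0, ku1} : @List.map.{ku0, ku1} = @_root_.Cfsg.Agent.KO61dfabc.k20.{ku0, ku1} := by delta _root_.Cfsg.Agent.KO61dfabc.k20; funext a0 a1 a2 a3; refine (_root_.Cfsg.Agent.KO61dfabc.e8 (fun a3 => @List.map.{ku0, ku1} a0 a1 a2 a3) ?_ (fun c0 c1 => ?_) a3 :) <;> (rfl')
private noncomputable def _root_.Cfsg.Agent.KO61dfabc.k21.{ku0} : type_of% @List.filter.{ku0} := @(fun x0 x1 x2 => @List.rec.{(ku0+1), ku0} @x0 @(fun x3 => @List.{ku0} @x0) [] @(fun x3 x4 x5 => @Bool.rec.{(ku0+1)} @(fun x6 => @List.{ku0} @x0) @x5 (@x3 :: @x5) (@x1 @x3)) @x2)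
private theorem _root_.Cfsg.Agent.KO61dfabc.e21.{ku0} : @List.filter.{ku0} = @_root_.Cfsg.Agent.KO61dfabc.k21.{ku0} := by delta _root_.Cfsg.Agent.KO61dfabc.k21; funext a0 a1 a2; refine (_root_.Cfsg.Agent.KO61dfabc.e8 (fun a2 => @List.filter.{ku0} a0 a1 a2) ?_ (fun c0 c1 => ?_) a2 :) <;> (rfl')
private noncomputable def _root_.Cfsg.Agent.KO61dfabc.k22 : (by first | exact type_of% @Cfsg.Agent.H606.OreM.Num.xres | exact Unit : Sort _) := by first | (refine @Subtype.val _ (fun g => @Cfsg.Agent.H606.OreM.Num.xres = @g) (@Subtype.mk _ _ (@(fun x0 x1 x2 => @Bool.rec.{1} @(fun x3 => @List.{0} ℕ) (@Cfsg.Agent.KO61dfabc.k20.{0, 0} _ _ @(fun x3 => @Nat.mod (@Nat.mul (@Prod.snd.{0, 0} _ _ @x3) (@Nat.mod @x2 @x0)) @x0) (@Cfsg.Agent.KO61dfabc.k21.{0} _ @(fun x3 => @Cfsg.Agent.KO61dfabc.k9.{0} _ (@Prod.fst.{0, 0} _ _ @x3) @(fun x4 => @Nat.beq (@Nat.mod @x2 @x0) @x4)) @x1)) ((nat_lit 0) :: []) (@Nat.beq (@Nat.mod @x2 @x0) (nat_lit 0)))) ?_); rewrite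 [← Cfsg.Agent.KO61dfabc.e9.{0}, ← Cfsg.Agent.KO61dfabc.e21.{0}, ← Cfsg.Agent.KO61dfabc.e20.{0, 0}]; rfl') | exact @Cfsg.Agent.H606.OreM.Num.xres | exact ()
private theorem _root_.Cfsg.Agent.KO61dfabc.e22 : (by first | exact @Cfsg.Agent.H606.OreM.Num.xres = @_root_.Cfsg.Agent.KO61dfabc.k22 | exact True : Prop) := by first | (delta _root_.Cfsg.Agent.KO61dfabc.k22; exact @Subtype.property _ (fun g => @Cfsg.Agent.H606.OreM.Num.xres = @g) _) | rfl | trivial
private noncomputable def _root_.Cfsg.Agent.KO61dfabc.k23 : (by first | exact type_of% @Cfsg.Agent.H606.OreM.Num.testD | exact Unit : Sort _) := by first | (refine @Subtype.val _ (fun g => @Cfsg.Agent.H606.OreM.Num.testD = @g) (@Subtype.mk _ _ (@(fun x0 x1 x2 x3 => @Bool.rec.{1} @(fun x4 => @Bool) (@Bool.rec.{1} @(fun x4 => @Bool) @Bool.false (@Cfsg.Agent.KO61dfabc.k16 @(fun x4 => @Cfsg.Agent.KO61dfabc.k19 (@Cfsg.Agent.KO61dfabc.k20.{0, 0} _ _ @(fun x5 => (@Prod.fst.{0, 0} _ _ @x5, @Cfsg.Agent.KO61dfabc.k22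 (@Prod.fst.{0, 0} _ _ @x5) (@Prod.snd.{0, 0} _ _ @x5) @x3)) @x2) (@Nat.div @x3 (@Nat.gcd @x3 @x1)) @x3 (@Nat.sub (@Nat.div (@Nat.mul (nat_lit 40) @x3) (nat_lit 2686976)) (nat_lit 1)) (@Nat.add (@Nat.div (@Nat.add (@Nat.mul (nat_lit 42) @x3) (nat_lit 257)) (nat_lit 2686976)) (nat_lit 1)) (@Nat.mul (@Nat.div @x3 (@Nat.gcd @x3 @x0)) @x4)) (@Nat.add (@Nat.div (@Nat.div (@Nat.mul (nat_lit 12147) (@Nat.add (@Nat.mul (nat_lit 42) @x3) (nat_lit 257))) (nat_lit 2039414784)) (@Nat.div @x3 (@Nat.gcd @x3 @x0))) (nat_lit 1)) (nat_lit 21) (@Nat.div (@Nat.sub (@Nat.div (@Nat.mul (nat_lit 47) (@Nat.mul (nat_lit 40) @x3)) (nat_lit 8060928)) (nat_lit 1)) (@Nat.div @x3 (@Nat.gcd @x3 @x0)))) (@Bool.rec.{1} @(fun x4 => @Bool) @Bool.false (@Nat.ble (@Nat.add (@Nat.div (@Nat.div (@Nat.mul (nat_lit 12147) (@Nat.add (@Nat.mul (nat_lit 42) @x3) (nat_lit 257))) (nat_lit 2039414784)) (@Nat.div @x3 (@Nat.gcd @x3 @x0))) (nat_lit 1)) (nat_lit 2097152)) (@Nat.ble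 (@Nat.add (@Nat.div (@Nat.add (@Nat.mul (nat_lit 42) @x3) (nat_lit 257)) (nat_lit 2686976)) (nat_lit 1)) (nat_lit 1048576)))) @Bool.true (@Cfsg.Agent.KO61dfabc.k9.{0} _ @x2 @(fun x4 => @List.rec.{1, 0} ℕ @(fun x5 => @Bool) @Bool.true @(fun x5 x6 x7 => @Bool.false) (@Cfsg.Agent.KO61dfabc.k22 (@Prod.fst.{0, 0} _ _ @x4) (@Prod.snd.{0, 0} _ _ @x4) @x3))))) ?_); rewrite [← Cfsg.Agent.KO61dfabc.e9.{0}, ← Cfsg.Agent.KO61dfabc.e22, ← Cfsg.Agent.KO61dfabc.e20.{0, 0}, ← Cfsg.Agent.KO61dfabc.e19, ← Cfsg.Agent.KO61dfabc.e16]; (try delta Cfsg.Agent.H606.OreM.Num.testD); (try generalize @Cfsg.Agent.H606.OreM.Num.allB = g0); (try generalize @Cfsg.Agent.H606.OreM.Num.testX = g1); (try generalize @Cfsg.Agent.H606.OreM.Num.xres = g2); rfl') | exact @Cfsg.Agent.H606.OreM.Num.testD | exact ()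
private theorem _root_.Cfsg.Agent.KO61dfabc.e23 : (by first | exact @Cfsg.Agent.H606.OreM.Num.testD = @_root_.Cfsg.Agent.KO61dfabc.k23 | exact True : Prop) := by first | (delta _root_.Cfsg.Agent.KO61dfabc.k23; exact @Subtype.property _ (fun g => @Cfsg.Agent.H606.OreM.Num.testD = @g) _) | rfl | trivial
private noncomputable def _root_.Cfsg.Agent.KO61dfabc.k24 : (by first | exact type_of% @Cfsg.Agent.H606.OreM.Num.cert | exact Unit : Sort _) := by first | (refine @Subtype.val _ (fun g => @Cfsg.Agent.H606.OreM.Num.cert = @g) (@Subtype.mk _ _ (@(fun x0 x1 x2 x3 => @Bool.rec.{1} @(fun x4 => @Bool) @Bool.true (@Bool.rec.{1} @(fun x4 => @Bool) (@Cfsg.Agent.KO61dfabc.k23 @Cfsg.Agent.H606.OreM.Num.cA @Cfsg.Agent.H606.OreM.Num.cB @x2 @x3) @Bool.true (@Bool.rec.{1} @(fun x4 => @Bool) (@Nat.ble (@Nat.succ @x3) (nat_lit 196883)) @Bool.true (@Bool.rec.{1} @(fun x4 => @Bool) (@Bool.rec.{1} @(fun x4 => @Bool) @Bool.true @Bool.false (@Cfsg.Agent.KO61dfabc.k9.{0}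 _ ((nat_lit 0) :: ((nat_lit 1) :: ((nat_lit 40) :: []))) @(fun x4 => @Nat.beq (@Nat.mod @x3 (nat_lit 41)) @x4))) @Bool.true (@Bool.rec.{1} @(fun x4 => @Bool) (@Bool.rec.{1} @(fun x4 => @Bool) @Bool.true @Bool.false (@Cfsg.Agent.KO61dfabc.k9.{0} _ ((nat_lit 0) :: ((nat_lit 1) :: ((nat_lit 35) :: ((nat_lit 36) :: ((nat_lit 70) :: []))))) @(fun x4 => @Nat.beq (@Nat.mod @x3 (nat_lit 71)) @x4))) @Bool.true (@Bool.rec.{1} @(fun x4 => @Bool) @Bool.true @Bool.false (@Bool.rec.{1} @(fun x4 => @Bool) (@Bool.rec.{1} @(fun x4 => @Bool) @Bool.false (@Nat.ble (@Nat.succ @x3) @x1) (@Cfsg.Agent.KO61dfabc.k5 (nat_lit 1610612736) (@Nat.mod @x3 (nat_lit 59)))) @Bool.true (@Bool.rec.{1} @(fun x4 => @Bool) @Bool.false (@Nat.ble (@Nat.succ @x3) @x0) (@Cfsg.Agent.KO61dfabc.k5 (nat_lit 288230376151711746) (@Nat.mod @x3 (nat_lit 59)))))))))) (@Cfsg.Agent.KO61dfabc.k5 (nat_lit 288230377762324482) (@Nat.mod @x3 (nat_lit 59))))) ?_); rewrite [← Cfsg.Agent.KO61dfabc.e5,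 ← Cfsg.Agent.KO61dfabc.e9.{0}, ← Cfsg.Agent.KO61dfabc.e23]; (try delta Cfsg.Agent.H606.OreM.Num.cert Cfsg.Agent.H606.OreM.Num.mem); (try generalize @Cfsg.Agent.H606.OreM.Num.testD = g0); (try generalize @Cfsg.Agent.H606.OreM.Num.cA = g1); (try generalize @Cfsg.Agent.H606.OreM.Num.cB = g2); (try generalize @Cfsg.Agent.H606.OreM.Num.bit = g3); rfl') | exact @Cfsg.Agent.H606.OreM.Num.cert | exact ()
private theorem _root_.Cfsg.Agent.KO61dfabc.e24 : (by first | exact @Cfsg.Agent.H606.OreM.Num.cert = @_root_.Cfsg.Agent.KO61dfabc.k24 | exact True : Prop) := by first | (delta _root_.Cfsg.Agent.KO61dfabc.k24; exact @Subtype.property _ (fun g => @Cfsg.Agent.H606.OreM.Num.cert = @g) _) | rfl | trivial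

theorem cb_31 : tst lstB 31 = true :=
  (tst_two [(19, 1), (17, 1), (13, 3), (11, 2), (7, 6), (5, 9), (3, 20)] 31).trans (by (first | (rewrite [Cfsg.Agent.KO61dfabc.e12, Cfsg.Agent.KO61dfabc.e14, Cfsg.Agent.KO61dfabc.e24]; decide +kernel) | decide +kernel))

end Cfsg.Agent.H606.OreM.Num
end

-- part: H606/OreM/CertP3
section
/-! # The certificate of the sieve for the Monster, part 3 (helper606) -/

set_option autoImplicit false
set_option maxRecDepth 100000
set_option Elab.async false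

namespace Cfsg.Agent.H606.OreM.Num

theorem cb_713 : tst lstB 713 = true :=
  (tst_two [(19, 1), (17, 1), (13, 3), (11, 2), (7, 6), (5, 9), (3, 20)] 713).trans (by decide +kernel)

theorem cb_899 : tst lstB 899 = true :=
  (tst_two [(19, 1), (17, 1), (13, 3), (11, 2), (7, 6), (5, 9), (3, 20)] 899).trans (by decide +kernel)

theorem cb_20677 : tst lstB 20677 = true :=
  (tst_two [(19, 1), (17, 1), (13, 3), (11, 2), (7, 6), (5, 9), (3, 20)] 20677).trans (by decide +kernel)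

end Cfsg.Agent.H606.OreM.Num
end

-- part: H606/OreM/CertP4
section
/-! # The certificate of the sieve for the Monster, part 4 (helper606) -/

set_option autoImplicit false
set_option maxRecDepth 100000
set_option Elab.async false

namespace Cfsg.Agent.H606.OreM.Num

theorem ca_41 : tst lstA 41 = true :=
  (tst_two [(31, 1), (29, 1), (23, 1), (19, 1), (17, 1), (13, 3), (11, 2), (7, 6), (5, 9), (3, 20)] 41).trans (by (first | (rewrite [Cfsg.Agent.KO61dfabc.e12, Cfsg.Agent.KO61dfabc.e14, Cfsg.Agent.KO61dfabc.e24]; decide +kernel) | decide +kernel))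

end Cfsg.Agent.H606.OreM.Num
end

-- part: H606/OreM/CertP5
section
/-! # The certificate of the sieve for the Monster, part 5 (helper606) -/

set_option autoImplicit false
set_option maxRecDepth 100000
set_option Elab.async false

namespace Cfsg.Agent.H606.OreM.Num

theorem ca_47 : tst lstA 47 = true :=
  (tst_two [(31, 1), (29, 1), (23, 1), (19, 1), (17, 1), (13, 3), (11, 2), (7, 6), (5, 9), (3, 20)] 47).trans (by (first | (rewrite [Cfsg.Agent.KO61dfabc.e12, Cfsg.Agent.KO61dfabc.e14, Cfsg.Agent.KO61dfabc.e24]; decide +kernel) | decide +kernel))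

end Cfsg.Agent.H606.OreM.Num
end

-- part: H606/OreM/CertP6
section
/-! # The certificate of the sieve for the Monster, part 6 (helper606) -/

set_option autoImplicit false
set_option maxRecDepth 100000
set_option Elab.async false

namespace Cfsg.Agent.H606.OreM.Num

theorem ca_71 : tst lstA 71 = true :=
  (tst_two [(31, 1), (29, 1), (23, 1), (19, 1), (17, 1), (13, 3), (11, 2), (7, 6), (5, 9), (3, 20)] 71).trans (by (first | (rewrite [Cfsg.Agent.KO61dfabc.e12, Cfsg.Agent.KO61dfabc.e14, Cfsg.Agent.KO61dfabc.e24]; decide +kernel) | decide +kernel))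

end Cfsg.Agent.H606.OreM.Num
end

-- part: H606/OreM/CertP7
section
/-! # The certificate of the sieve for the Monster, part 7 (helper606) -/

set_option autoImplicit false
set_option maxRecDepth 100000
set_option Elab.async false

namespace Cfsg.Agent.H606.OreM.Num

theorem ca_1927 : tst lstA 1927 = true :=
  (tst_two [(31, 1), (29, 1), (23, 1), (19, 1), (17, 1), (13, 3), (11, 2), (7, 6), (5, 9), (3, 20)] 1927).trans (by (first | (rewrite [Cfsg.Agent.KO61dfabc.e12, Cfsg.Agent.KO61dfabc.e14, Cfsg.Agent.KO61dfabc.e24]; decide +kernel) | decide +kernel))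

theorem ca_3337 : tst lstA 3337 = true :=
  (tst_two [(31, 1), (29, 1), (23, 1), (19, 1), (17, 1), (13, 3), (11, 2), (7, 6), (5, 9), (3, 20)] 3337).trans (by (first | (rewrite [Cfsg.Agent.KO61dfabc.e12, Cfsg.Agent.KO61dfabc.e14, Cfsg.Agent.KO61dfabc.e24]; decide +kernel) | decide +kernel))

theorem ca_136817 : tst lstA 136817 = true :=
  (tst_two [(31, 1), (29, 1), (23, 1), (19, 1), (17, 1), (13, 3), (11, 2), (7, 6), (5, 9), (3, 20)] 136817).trans (by (first | (rewrite [Cfsg.Agent.KO61dfabc.e12, Cfsg.Agent.KO61dfabc.e14, Cfsg.Agent.KO61dfabc.e24]; decide +kernel) | decide +kernel))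

end Cfsg.Agent.H606.OreM.Num
end

-- part: H606/OreM/CertP9
section
/-! # The certificate of the sieve for the Monster, part 9 (helper606) -/

set_option autoImplicit false
set_option maxRecDepth 100000
set_option Elab.async false

namespace Cfsg.Agent.H606.OreM.Num

theorem ce_84419 : tst lstE 84419 = true :=
  (tst_two [(23, 1), (19, 1), (17, 1), (13, 3), (11, 2), (7, 6), (5, 9), (3, 20)] 84419).trans (by decide +kernel)

end Cfsg.Agent.H606.OreM.Num
end

-- part: H606/OreM/CertP10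
section
/-! # The certificate of the sieve for the Monster, part 10 (helper606) -/

set_option autoImplicit false
set_option maxRecDepth 100000
set_option Elab.async false

namespace Cfsg.Agent.H606.OreM.Num

theorem cd_90241 : tst lstD 90241 = true :=
  (tst_two [(29, 1), (23, 1), (19, 1), (17, 1), (13, 3), (11, 2), (7, 6), (5, 9), (3, 20)] 90241).trans (by (first | (rewrite [Cfsg.Agent.KO61dfabc.e12, Cfsg.Agent.KO61dfabc.e14, Cfsg.Agent.KO61dfabc.e24]; decide +kernel) | decide +kernel))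

end Cfsg.Agent.H606.OreM.Num
end

-- part: H606/OreM/Cert
section
/-! # The certificate of the sieve for the Monster (helper606) -/

set_option autoImplicit false
set_option maxRecDepth 100000

namespace Cfsg.Agent.H606.OreM.Num

theorem ca_1 : tst lstA 1 = true :=
  tst_cons (p := 31) rfl
    (tst_cons (p := 29) rfl
      (tst_cons (p := 23) rfl cb_1 cb_23)
      (tst_cons (p := 23) rfl cb_29 cb_667))
    (tst_cons (p := 29) rfl
      (tst_cons (p := 23) rfl cb_31 cb_713)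
      (tst_cons (p := 23) rfl cb_899 cb_20677))

theorem ca_2911 : tst lstA 2911 = true :=
  tst_cons (p := 31) rfl
    (tst_cons (p := 29) rfl ce_2911 ce_84419) cd_90241

theorem cert_all : chkL 6527402252 lst (cert 4962352590 6527402253 tabs) 1 = true :=
  tst_cons (p := 71) rfl
    (tst_cons (p := 47) rfl
      (tst_cons (p := 41) rfl ca_1 ca_41)
      (tst_cons (p := 41) rfl ca_47 ca_1927))
    (tst_cons (p := 47) rfl
      (tst_cons (p := 41) rfl ca_71 ca_2911)
      (tst_cons (p := 41) rfl ca_3337 ca_136817))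

end Cfsg.Agent.H606.OreM.Num
end

-- part: H606/OreM/Sieve
section
/-!
# The Monster: degrees prime to 59 and the sieve for commutators (helper606)

`degN` : the degrees `≡ ± 1 (59)` are at least `4962352590`; `degX` : the degrees `≡ ± 29 (59)` are at least
`6527402253`; `deg_ge` : all the degrees prime to 59; `sieve` : `|C(g)| ≤ KM → g` is a commutator.
The hypothesis `Loc` : `Cfsg.Agent.H455.OreM.Deg19.loc`.
-/

set_option autoImplicit false
set_option maxRecDepth 100000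

open Cfsg Subgroup

namespace Cfsg.Agent.H606.OreM

open Cfsg.Agent.BpSpor.MBigModel
open Cfsg.Agent.Characters.Core
open Cfsg.Agent.H606.OreM.Num
open Cfsg.Agent.H455.OreM.Deg19 (Loc)

theorem lst_prime : ∀ a ∈ lst, a.1.Prime := by
  intro a ha
  simp only [lst, List.mem_cons, List.not_mem_nil, or_false] at ha
  rcases ha with rfl | rfl | rfl | rfl | rfl | rfl | rfl | rfl | rfl | rfl | rfl | rfl | rfl | rfl <;>
    norm_num

theorem lst_prod : 59 * (lst.map fun a => a.1 ^ a.2).prod = 808017424794512875886459904961710757005754368000000000 := by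
  decide +kernel

theorem cert_false {dn dx d : ℕ} {T : List (ℕ × List (List ℕ × ℕ))}
    (h59 : ((d % 59 = 1 ∨ d % 59 = 58) ∧ d < dn) ∨ ((d % 59 = 29 ∨ d % 59 = 30) ∧ d < dx))
    (h71 : mem [0, 1, 35, 36, 70] (d % 71) = true) (h41 : mem [0, 1, 40] (d % 41) = true) (hmin : 196883 ≤ d)
    (ht : testD cA cB T d = false) : cert dn dx T d = false := by
  have hb : bit 288230377762324482 (d % 59) = true := by
    rcases h59 with ⟨h | h, -⟩ | ⟨h | h, -⟩ <;> rw [h] <;> decide +kernel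
  have h1 : ((bit 288230376151711746 (d % 59) && Nat.blt d dn) || (bit 1610612736 (d % 59) && Nat.blt d dx)) = true := by
    rw [Bool.or_eq_true, Bool.and_eq_true, Bool.and_eq_true, Nat.blt_eq, Nat.blt_eq]
    rcases h59 with ⟨h, h2⟩ | ⟨h, h2⟩
    · refine Or.inl ⟨?_, h2⟩
      rcases h with h | h <;> rw [h] <;> decide +kernel
    · refine Or.inr ⟨?_, h2⟩
      rcases h with h | h <;> rw [h] <;> decide +kernel
  have h2 : Nat.blt d 196883 = false := by
    rw [Bool.eq_false_iff]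
    intro h
    rw [Nat.blt_eq] at h
    omega
  unfold cert
  rw [hb]
  show (!((bit 288230376151711746 (d % 59) && Nat.blt d dn) || (bit 1610612736 (d % 59) && Nat.blt d dx)) ||
      !(mem [0, 1, 35, 36, 70] (d % 71)) || !(mem [0, 1, 40] (d % 41)) || Nat.blt d 196883 || testD cA cB T d) = false
  rw [h1, h71, h41, h2, ht]
  rfl

/-- the residues modulo 71 -/
theorem mem71 (L : Loc) (χ : IrrCharacter MG) : mem [0, 1, 35, 36, 70] (charDegree (χ : MG → ℂ) % 71) = true := by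
  obtain ⟨x, hx⟩ := Cfsg.Agent.H455.OreM.Deg19.exists_order (r := 71) (by norm_num) (by norm_num)
  have h := res_self (r := 71) (e := 35) (f := 2) (by norm_num) (by decide +kernel) hx (L.c71 x hx) χ
  rcases h with h | h | h | h | h <;> rw [h] <;> rfl

/-- the residues modulo 41 -/
theorem mem41 (L : Loc) (χ : IrrCharacter MG) : mem [0, 1, 40] (charDegree (χ : MG → ℂ) % 41) = true := by
  obtain ⟨x, hx⟩ := Cfsg.Agent.H455.OreM.Deg19.exists_order (r := 41) (by norm_num) (by norm_num)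
  have h := res_self (r := 41) (e := 40) (f := 1) (by norm_num) (by decide +kernel) hx (L.c41 x hx) χ
  rcases h with h | h | h | h | h <;> rw [h] <;> rfl

theorem charDegree_pos (χ : IrrCharacter MG) : 0 < charDegree (χ : MG → ℂ) := by
  obtain ⟨n, hn0, hn⟩ := isIrr_apply_one χ.2
  unfold charDegree
  rw [hn]
  simpa using hn0

/-- the core: no small degrees -/
theorem no_small (L : Loc) (χ : IrrCharacter MG) (hχ : (χ : MG → ℂ) ≠ 1)
    (h59 : ((charDegree (χ : MG → ℂ) % 59 = 1 ∨ charDegree (χ : MG → ℂ) % 59 = 58) ∧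
        charDegree (χ : MG → ℂ) < 4962352590) ∨
      ((charDegree (χ : MG → ℂ) % 59 = 29 ∨ charDegree (χ : MG → ℂ) % 59 = 30) ∧
        charDegree (χ : MG → ℂ) < 6527402253)) : False := by
  have hpos := charDegree_pos χ
  have hmin := min_deg χ hχ
  have hdvd : charDegree (χ : MG → ℂ) ∣ 59 * (lst.map fun a => a.1 ^ a.2).prod := by
    rw [lst_prod, ← card_M]
    exact Blocks.Knorr.charDegree_dvd χ.2
  have ht := Cfsg.Agent.H455.OreM.Deg19.testD_deg L χ
  have m71 := mem71 L χ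
  have m41 := mem41 L χ
  generalize charDegree (χ : MG → ℂ) = d at *
  have hcop : Nat.Coprime d 59 := by
    refine (Nat.Coprime.symm ((Nat.Prime.coprime_iff_not_dvd (by norm_num)).2 ?_))
    intro h
    have := Nat.mod_eq_zero_of_dvd h
    omega
  have hd := hcop.dvd_of_dvd_mul_left hdvd
  have h := chkL_spec (x := 1) cert_all lst_prime d hd hpos (by omega)
  rw [one_mul, cert_false h59 m71 m41 hmin ht] at h
  exact absurd h (by decide)

/-- **The degrees `≡ ± 1` modulo 59.** -/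
theorem degN (L : Loc) (χ : IrrCharacter MG) (hχ : (χ : MG → ℂ) ≠ 1)
    (h : charDegree (χ : MG → ℂ) % 59 = 1 ∨ charDegree (χ : MG → ℂ) % 59 = 58) :
    4962352590 ≤ charDegree (χ : MG → ℂ) := by
  by_contra hlt
  push Not at hlt
  exact no_small L χ hχ (Or.inl ⟨h, hlt⟩)

/-- **The degrees `≡ ± 29` modulo 59.** -/
theorem degX (L : Loc) (χ : IrrCharacter MG) (hχ : (χ : MG → ℂ) ≠ 1)
    (h : charDegree (χ : MG → ℂ) % 59 = 29 ∨ charDegree (χ : MG → ℂ) % 59 = 30) :
    6527402253 ≤ charDegree (χ : MG → ℂ) := by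
  by_contra hlt
  push Not at hlt
  exact no_small L χ hχ (Or.inr ⟨h, hlt⟩)

/-- the residues modulo 59 -/
theorem mod59 (L : Loc) (χ : IrrCharacter MG) : charDegree (χ : MG → ℂ) % 59 = 0 ∨
    (charDegree (χ : MG → ℂ) % 59 = 1 ∨ charDegree (χ : MG → ℂ) % 59 = 58) ∨
    (charDegree (χ : MG → ℂ) % 59 = 29 ∨ charDegree (χ : MG → ℂ) % 59 = 30) := by
  obtain ⟨x, hx⟩ := Cfsg.Agent.H455.OreM.Deg19.exists_order (r := 59) (by norm_num) (by norm_num)
  have h := res_self (r := 59) (e := 29) (f := 2) (by norm_num) (by decide +kernel) hx (L.c59 x hx) χ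
  omega

/-- **The degrees prime to 59.** -/
theorem deg_ge (L : Loc) (χ : IrrCharacter MG) (hχ : (χ : MG → ℂ) ≠ 1) (h : ¬ 59 ∣ charDegree (χ : MG → ℂ)) :
    4962352590 ≤ charDegree (χ : MG → ℂ) := by
  rcases mod59 L χ with h0 | h1 | h2
  · exact absurd (Nat.dvd_of_mod_eq_zero h0) h
  · exact degN L χ hχ h1
  · exact le_trans (by norm_num) (degX L χ hχ h2)

/-- the bound -/
def KM : ℕ := 85479523475148372

/-- **The sieve.** -/
theorem sieve (L : Loc) : ∀ g : MG, Nat.card (centralizer ({g} : Set MG)) ≤ KM → Cfsg.Agent.H777.Ore.IsC g := by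
  intro g hg
  obtain ⟨x, hx⟩ := Cfsg.Agent.H455.OreM.Deg19.exists_order (r := 59) (by norm_num) (by norm_num)
  exact Cfsg.Agent.H65.Ore.comm_all not_comm_MG (p := 59) (by norm_num)
    (N := 808017424794512875886459904961710757005754368000000000) card_M hx (L.c59 x hx) 29 2 479 (by decide +kernel)
    (DN := 4962352590) (DX := 6527402253) (degN L) (degX L) (by unfold KM; norm_num) (by norm_num) hg

end Cfsg.Agent.H606.OreM
end

private theorem dce_a09f2cb119f6 : _root_.True := by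
  try have : _root_.True := by simp only [_root_.Cfsg.Agent.H606.OreM.Num.lst.eq_1]
  exact _root_.True.intro
end
end
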