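import Cfsg.Agent.H614.Degree
import Cfsg.Agent.H614.IndexTwo
import Cfsg.Agent.CharDeep.PowerDegrees
import Cfsg.Agent.CpAutHN.Second
import Cfsg.Agent.H710.Spor.HNMix
import Cfsg.Agent.HN.Distinct
import Cfsg.Agent.H845.HNNineteen
import Cfsg.Agent.H695.Third
import Cfsg.Agent.Lib.ListFast
import Cfsg.Agent.FastGrp
import Cfsg.Agent.Prune
set_option linter.all false
prune_inst 0x7f00000000000000000000000000000000000000000000000000000000000000000000000000000000000000000000000000000000000000000000000000000000000000000000000000000000000000003fffffffffffffffffffffffffffbeffbdffffffff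
open scoped Cfsg.Agent.FastGrp

-- part: H175/Ore/SymTab
section
/-!
# Evaluation of Frobenius' functions on lists; enumeration of the tuples (helper175)

* `ev ν k b` : the value of `F (ν ++ 1 ^ k)` at the tuple with list `b` (kernel friendly);
* `en_spec` : enumeration of the strictly increasing lists of given length and sum.
-/

set_option autoImplicit false

namespace Cfsg.Agent.H175.Ore.SymTab

open Finset Cfsg.Agent.H614

/-- evaluation of a number first -/
def fc {α : Type*} (n : ℕ) (f : ℕ → α) : α := Nat.rec (f 0) (fun k _ => f (k + 1)) n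

theorem fc_eq {α : Type*} (n : ℕ) (f : ℕ → α) : fc n f = f n := by cases n <;> rfl

/-- the product of the differences with `a` -/
def dl (a : ℕ) : List ℕ → ℤ
  | [] => 1
  | b :: l => ((b : ℤ) - a) * dl a l

/-- the product of the differences -/
def vdm : List ℕ → ℤ
  | [] => 1
  | a :: l => dl a l * vdm l

/-- the product of the factorials -/
def fac : List ℕ → ℕ
  | [] => 1
  | a :: l => a.factorial * fac l

theorem dl_ofFn (a : ℕ) : ∀ {m : ℕ} (β : Fin m → ℕ), dl a (List.ofFn β) = ∏ j, ((β j : ℤ) - a) := by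
  intro m
  induction m with
  | zero => intro β; simp [dl]
  | succ m ih => intro β; rw [List.ofFn_succ, dl, ih, Fin.prod_univ_succ]

theorem vdm_ofFn : ∀ {m : ℕ} (β : Fin m → ℕ),
    vdm (List.ofFn β) = ∏ i : Fin m, ∏ j ∈ Ioi i, ((β j : ℤ) - β i) := by
  intro m
  induction m with
  | zero => intro β; simp [vdm]
  | succ m ih =>
    intro β
    rw [List.ofFn_succ, vdm, ih, dl_ofFn, Fin.prod_univ_succ, Fin.prod_Ioi_zero]
    congr 1
    refine Finset.prod_congr rfl fun i _ => ?_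
    rw [Fin.prod_Ioi_succ]

theorem fac_ofFn : ∀ {m : ℕ} (β : Fin m → ℕ), (fac (List.ofFn β) : ℤ) = ∏ i, ((β i).factorial : ℤ) := by
  intro m
  induction m with
  | zero => intro β; simp [fac]
  | succ m ih => intro β; rw [List.ofFn_succ, fac, Nat.cast_mul, ih, Fin.prod_univ_succ]

/-- finite sums -/
def sumTo (f : ℕ → ℤ) : ℕ → ℤ
  | 0 => 0
  | n + 1 => sumTo f n + f n

theorem sumTo_eq (f : ℕ → ℤ) (n : ℕ) : sumTo f n = ∑ i ∈ range n, f i := by
  induction n with
  | zero => rfl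
  | succ n ih => rw [sumTo, ih, Finset.sum_range_succ]

/-- the value of `F (ν ++ 1 ^ k)` -/
def ev (m : ℕ) : List ℕ → ℕ → List ℕ → ℤ
  | [], k, b => (k.factorial * vdm b) / (fac b : ℤ)
  | r :: ν, k, b => sumTo (fun j => fc (b.getD j 0) fun y => bif Nat.ble r y then
      (fc (y - r) fun x => bif b.any (Nat.beq x) then 0 else ev m ν k (b.set j x)) else 0) m

theorem set_ofFn {m : ℕ} (β : Fin m → ℕ) (j : Fin m) (x : ℕ) :
    (List.ofFn β).set j x = List.ofFn (Function.update β j x) := by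
  refine List.ext_getElem (by simp) fun i h1 h2 => ?_
  rw [List.getElem_set, List.getElem_ofFn, List.getElem_ofFn]
  by_cases h : (j : ℕ) = i
  · subst h
    simp
  · rw [if_neg h, Function.update_of_ne]
    intro h'
    exact h (by rw [← h'])

theorem getD_ofFn {m : ℕ} (β : Fin m → ℕ) (j : Fin m) : (List.ofFn β).getD j 0 = β j := by
  rw [List.getD_eq_getElem _ _ (by simp), List.getElem_ofFn]

theorem F_eq_ev {m : ℕ} (ν : List ℕ) (hν : ∀ r ∈ ν, 0 < r) (k : ℕ) : ∀ (β : Fin m → ℕ),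
    ∑ i, β i = ν.sum + k + ∑ i : Fin m, (i : ℕ) → F (ν ++ List.replicate k 1) β = ev m ν k (List.ofFn β) := by
  induction ν with
  | nil =>
    intro β hs
    have h1 := FM_ones_formula k β (by simpa only [_root_.List.sum_nil, _root_.zero_add] using hs)
    have h2 : FM (Multiset.replicate k 1) β = F (List.replicate k 1) β := by
      rw [← Multiset.coe_replicate]; rfl
    rw [h2, ← vdm_ofFn, ← fac_ofFn] at h1
    have h3 : (fac (List.ofFn β) : ℤ) ≠ 0 := by
      rw [fac_ofFn]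
      exact Finset.prod_ne_zero_iff.2 fun i _ => by exact_mod_cast (Nat.factorial_pos _).ne'
    rw [ev, List.nil_append, ← h1, Int.mul_ediv_cancel _ h3]
  | cons r ν ih =>
    intro β hs
    rw [List.cons_append, F_cons, ev, sumTo_eq, Finset.sum_range]
    refine Finset.sum_congr rfl fun j _ => ?_
    rw [fc_eq, fc_eq, getD_ofFn]
    by_cases hr : r ≤ β j
    · rw [if_pos hr, Nat.ble_eq_true_of_le hr, cond_true]
      cases hb : (List.ofFn β).any (Nat.beq (β j - r)) with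
      | true =>
        rw [cond_true]
        obtain ⟨x, hx, hx2⟩ := List.any_eq_true.1 hb
        obtain ⟨i, rfl⟩ := List.mem_ofFn.1 hx
        have h1 := Nat.eq_of_beq_eq_true hx2
        have h0 := hν r List.mem_cons_self
        have hij : i ≠ j := by rintro rfl; omega
        refine (F_alt _).eq_zero_of_not_injective two_torsion_int fun hinj => hij ?_
        apply hinj
        rw [dn_ne _ _ hij, dn_self, h1]
      | false =>
        rw [cond_false, set_ofFn]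
        refine ih (fun s hs => hν s (List.mem_cons_of_mem _ hs)) (dn β j r) ?_
        have h1 := sum_dn β j hr
        rw [List.sum_cons] at hs
        omega
    · rw [if_neg hr]
      have h1 : Nat.ble r (β j) = false := by
        rw [Bool.eq_false_iff]; intro h; exact hr (Nat.le_of_ble_eq_true h)
      rw [h1, cond_false]

/-! ### The enumeration -/

/-- all `i < n` -/
def allTo (f : ℕ → Bool) : ℕ → Bool
  | 0 => true
  | n + 1 => bif f n then allTo f n else false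

theorem allTo_spec {f : ℕ → Bool} {n : ℕ} (h : allTo f n = true) : ∀ i < n, f i = true := by
  induction n with
  | zero => intro i hi; omega
  | succ n ih =>
    rw [allTo] at h
    cases hf : f n with
    | false => rw [hf] at h; exact absurd h (by simp)
    | true =>
      rw [hf, cond_true] at h
      intro i hi
      rcases Nat.lt_succ_iff_lt_or_eq.1 hi with h1 | rfl
      · exact ih h i h1
      · exact hf

/-- check all the lists `acc ++ l`, `l` strictly increasing of length `k` and sum `s`, with entries at least `lo` -/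
def en (P : List ℕ → Bool) : ℕ → ℕ → ℕ → List ℕ → Bool
  | 0, _, s, acc => bif Nat.beq s 0 then P acc else true
  | k + 1, lo, s, acc => allTo (fun i => fc (lo + i) fun x =>
      bif Nat.ble ((k + 1) * (k + 1) + 2 * (k + 1) * x) (2 * s + (k + 1)) then
        (fc (s - x) fun s' => en P k (x + 1) s' (acc ++ [x])) else true) (s + 1 - lo)

theorem low {l : List ℕ} : ∀ (lo : ℕ), l.Pairwise (· < ·) → (∀ x ∈ l, lo ≤ x) →
    l.length * l.length + 2 * l.length * lo ≤ 2 * l.sum + l.length := by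
  induction l with
  | nil => intro lo _ _; simp
  | cons x l ih =>
    intro lo hp hlo
    have h1 := ih (x + 1) hp.of_cons (fun y hy => List.rel_of_pairwise_cons hp hy)
    have h2 := hlo x List.mem_cons_self
    rw [List.length_cons, List.sum_cons]
    nlinarith

theorem en_spec {P : List ℕ → Bool} : ∀ (k lo s : ℕ) (acc : List ℕ), en P k lo s acc = true →
    ∀ l : List ℕ, l.length = k → l.Pairwise (· < ·) → (∀ x ∈ l, lo ≤ x) → l.sum = s → P (acc ++ l) = true := by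
  intro k
  induction k with
  | zero =>
    intro lo s acc h l hl _ _ hs
    rw [List.length_eq_zero_iff] at hl
    subst hl
    rw [List.sum_nil] at hs
    subst hs
    rw [en, show Nat.beq 0 0 = true from rfl, cond_true] at h
    rw [List.append_nil]
    exact h
  | succ k ih =>
    intro lo s acc h l hl hp hlo hs
    rw [en] at h
    have h1 := allTo_spec h
    match l, hl with
    | x :: l, hl =>
      have hx := hlo x List.mem_cons_self
      rw [List.sum_cons] at hs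
      have h2 := h1 (x - lo) (by omega)
      rw [fc_eq, Nat.add_sub_cancel' hx, fc_eq] at h2
      have hl' : l.length = k := by simpa using hl
      have h3 : Nat.ble ((k + 1) * (k + 1) + 2 * (k + 1) * x) (2 * s + (k + 1)) = true := by
        apply Nat.ble_eq_true_of_le
        have h4 := low (l := x :: l) x hp (by
          intro y hy
          rcases List.mem_cons.1 hy with rfl | hy
          · exact le_rfl
          · exact (List.rel_of_pairwise_cons hp hy).le)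
        rw [List.length_cons, hl', List.sum_cons, hs] at h4
        exact h4
      rw [h3, cond_true] at h2
      have h5 := ih (x + 1) (s - x) (acc ++ [x]) h2 l hl' hp.of_cons
        (fun y hy => List.rel_of_pairwise_cons hp hy) (by omega)
      rw [List.append_assoc, List.singleton_append] at h5
      exact h5

/-- the enumeration of the tuples -/
theorem of_en {P : List ℕ → Bool} {m s : ℕ} (h : en P m 0 s [] = true) {β : Fin m → ℕ} (hβ : StrictMono β)
    (hs : ∑ i, β i = s) : P (List.ofFn β) = true := by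
  have h1 := en_spec m 0 s [] h (List.ofFn β) (by simp) (List.pairwise_ofFn.2 fun i j hij => hβ hij)
    (fun _ _ => Nat.zero_le _) (by rw [List.sum_ofFn, hs])
  simpa using h1

end Cfsg.Agent.H175.Ore.SymTab
end

-- part: H175/Ore/SymRows
section
/-!
# The characters of small degree of the symmetric group of degree 12 (helper175)
-/

set_option autoImplicit false

namespace Cfsg.Agent.H175.Ore.SymTab

open Finset Cfsg.Agent.H614

/-- the rows `(χ(1), χ(3) - χ(3^4), χ(2^2) - χ(2^6), χ(11), χ(2^2), χ(2^4))` -/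
def rows : List (List ℤ) := [[1, 0, 0, 1, 1, 1], [11, 9, 8, 0, 7, 3], [54, 27, 16, -1, 22, 6], [55, 27, 24, 0, 19, -1],
  [132, 0, 0, 0, 20, 4], [154, 45, 48, 0, 42, 10], [165, 54, 16, 0, 21, -11], [275, 54, 40, 0, 55, 11],
  [297, 27, 64, 0, 49, 9], [320, 108, 64, 1, 64, 0], [330, 81, -16, 0, -6, -6], [462, -54, -16, 0, 14, -2],
  [462, 81, -32, 0, -42, 14], [616, 108, 32, 0, 56, 8]]

/-- the values of a character -/
def vec (b : List ℕ) : List ℤ :=
  [ev 12 [] 12 b, ev 12 [3] 9 b - ev 12 [3, 3, 3, 3] 0 b, ev 12 [2, 2] 8 b - ev 12 [2, 2, 2, 2, 2, 2] 0 b,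
    ev 12 [11] 1 b, ev 12 [2, 2] 8 b, ev 12 [2, 2, 2, 2] 4 b]

/-- the check -/
def chk (b : List ℕ) : Bool :=
  decide (1540 < ev 12 [] 12 b) || (decide (ev 12 [2] 10 b ≠ 0) &&
    (decide (770 < ev 12 [] 12 b) || decide (vec b ∈ rows)))

private noncomputable def _root_.Cfsg.Agent.LsF.f2d16fc_0 : {f // @Cfsg.Agent.H175.Ore.SymTab.allTo = f} := ⟨_, by first | (delta Cfsg.Agent.H175.Ore.SymTab.allTo Nat.brecOn.go Nat.brecOn Cfsg.Agent.H175.Ore.SymTab.allTo._f; rewrite [Cfsg.Agent.LsF.cond_eq]; (try delta Cfsg.Agent.H175.Ore.SymTab.sumTo.match_1); (try delta Nat.casesOn); first | dsimp -zeta only | exact rfl) | exact rfl⟩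
private noncomputable def _root_.Cfsg.Agent.LsF.f2d16fc_1 : {f // @Cfsg.Agent.H175.Ore.SymTab.en = f} := ⟨_, by first | (delta Cfsg.Agent.H175.Ore.SymTab.en Cfsg.Agent.H175.Ore.SymTab.fc Nat.brecOn.go Nat.brecOn Cfsg.Agent.H175.Ore.SymTab.en._f; rewrite [Cfsg.Agent.LsF.f2d16fc_0.2, Cfsg.Agent.LsF.nadd_pat, Cfsg.Agent.LsF.nmul_pat, Cfsg.Agent.LsF.nsub_pat, Cfsg.Agent.LsF.lappend_pat, Cfsg.Agent.LsF.cond_eq]; (try delta Cfsg.Agent.H175.Ore.SymTab.en.match_1); (try delta Nat.casesOn); first | dsimp -zeta only | exact rfl) | exact rfl⟩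
private noncomputable def _root_.Cfsg.Agent.LsF.f2d16fc_2 : {f // @Cfsg.Agent.H175.Ore.SymTab.dl = f} := ⟨_, by first | (delta Cfsg.Agent.H175.Ore.SymTab.dl List.brecOn List.brecOn.go Cfsg.Agent.H175.Ore.SymTab.dl._f; rewrite [Cfsg.Agent.LsF.imul_pat, Cfsg.Agent.LsF.isub_pat, Cfsg.Agent.LsF.icast_pat]; (try delta Cfsg.Agent.H175.Ore.SymTab.dl.match_1); (try delta List.casesOn); first | dsimp -zeta only | exact rfl) | exact rfl⟩
private noncomputable def _root_.Cfsg.Agent.LsF.f2d16fc_3 : {f // @Cfsg.Agent.H175.Ore.SymTab.vdm = f} := ⟨_, by first | (delta Cfsg.Agent.H175.Ore.SymTab.vdm List.brecOn List.brecOn.go Cfsg.Agent.H175.Ore.SymTab.vdm._f; rewrite [Cfsg.Agent.LsF.f2d16fc_2.2, Cfsg.Agent.LsF.imul_pat]; (try delta Cfsg.Agent.H175.Ore.SymTab.dl.match_1); (try delta List.casesOn); first | dsimp -zeta only | exact rfl) | exact rfl⟩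
private noncomputable def _root_.Cfsg.Agent.LsF.f2d16fc_4 : {f // @Cfsg.Agent.H175.Ore.SymTab.fac = f} := ⟨_, by first | (delta Cfsg.Agent.H175.Ore.SymTab.fac List.brecOn List.brecOn.go Cfsg.Agent.H175.Ore.SymTab.fac._f; rewrite [Cfsg.Agent.LsF.nmul_pat]; (try delta Cfsg.Agent.H175.Ore.SymTab.dl.match_1); (try delta List.casesOn); first | dsimp -zeta only | exact rfl) | exact rfl⟩
private noncomputable def _root_.Cfsg.Agent.LsF.f2d16fc_5 : {f // @Cfsg.Agent.H175.Ore.SymTab.sumTo = f} := ⟨_, by first | (delta Cfsg.Agent.H175.Ore.SymTab.sumTo Cfsg.Agent.H175.Ore.SymTab.sumTo._f Nat.brecOn.go Nat.brecOn; rewrite [Cfsg.Agent.LsF.iadd_pat]; (try delta Cfsg.Agent.H175.Ore.SymTab.sumTo.match_1); (try delta Nat.casesOn); first | dsimp -zeta only | exact rfl) | exact rfl⟩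
private noncomputable def _root_.Cfsg.Agent.LsF.f2d16fc_6 : {f // @Cfsg.Agent.H175.Ore.SymTab.ev = f} := ⟨_, by first | (delta Cfsg.Agent.H175.Ore.SymTab.ev List.brecOn List.brecOn.go Cfsg.Agent.H175.Ore.SymTab.fc Cfsg.Agent.H175.Ore.SymTab.ev._f; rewrite [Cfsg.Agent.LsF.f2d16fc_3.2, Cfsg.Agent.LsF.f2d16fc_4.2, Cfsg.Agent.LsF.f2d16fc_5.2, Cfsg.Agent.LsF.nadd_pat, Cfsg.Agent.LsF.nsub_pat, Cfsg.Agent.LsF.imul_pat, Cfsg.Agent.LsF.icast_pat, Cfsg.Agent.LsF.cond_eq, Cfsg.Agent.LsF.any_eq, Cfsg.Agent.LsF.getD_eq, Cfsg.Agent.LsF.set_eq]; (try delta Cfsg.Agent.H175.Ore.SymTab.ev.match_1); (try delta List.casesOn); first | dsimp -zeta only | exact rfl) | exact rfl⟩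
private noncomputable def _root_.Cfsg.Agent.LsF.f2d16fc_7 : {f // @Cfsg.Agent.H175.Ore.SymTab.vec = f} := ⟨_, by first | (delta Cfsg.Agent.H175.Ore.SymTab.vec; rewrite [Cfsg.Agent.LsF.f2d16fc_6.2, Cfsg.Agent.LsF.isub_pat]; exact rfl) | exact rfl⟩
private noncomputable def _root_.Cfsg.Agent.LsF.f2d16fc_8 : {f // @Cfsg.Agent.H175.Ore.SymTab.chk = f} := ⟨_, by first | (delta Cfsg.Agent.H175.Ore.SymTab.chk; rewrite [Cfsg.Agent.LsF.f2d16fc_6.2, Cfsg.Agent.LsF.f2d16fc_7.2, Cfsg.Agent.LsF.and_eq, Cfsg.Agent.LsF.or_eq, Cfsg.Agent.LsF.idecLt_eq, Cfsg.Agent.LsF.dNot_eq, Cfsg.Agent.LsF.dMem_eq, Cfsg.Agent.LsF.decide_eq]; exact rfl) | exact rfl⟩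
theorem en_chk : en chk 12 0 78 [] = true := by ((try (rewrite [Cfsg.Agent.LsF.f2d16fc_1.2, Cfsg.Agent.LsF.f2d16fc_8.2])); decide +kernel)

end Cfsg.Agent.H175.Ore.SymTab
end

-- part: H175/Ore/AltRows
section
/-!
# The characters of degree at most 770 of the alternating group of degree 12 (helper175)

* `exists_row` : values of an irreducible character of degree at most 770;
* `exists_comb` : decomposition of a character of degree at most 770.
-/

set_option autoImplicit false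

namespace Cfsg.Agent.H175.Ore.AltRows

open Finset Cfsg Cfsg.Agent.H614 Cfsg.Agent.H175.Ore.SymTab Cfsg.Agent.Characters.Core
open Cfsg.Agent.CpAutHN.Alt (A12 cy x1 x1_mem t2 t2_mem s1 s1_mem)
open Equiv.Perm (mem_alternatingGroup)

/-- cycle type `3 ^ 4` -/
def x4 : Equiv.Perm (Fin 12) := cy [0, 1, 2] * cy [3, 4, 5] * cy [6, 7, 8] * cy [9, 10, 11]
/-- cycle type `2 ^ 6` -/
def t6 : Equiv.Perm (Fin 12) := cy [0, 1] * cy [2, 3] * cy [4, 5] * cy [6, 7] * cy [8, 9] * cy [10, 11]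
/-- cycle type `11` -/
def x11 : Equiv.Perm (Fin 12) := cy [0, 1, 2, 3, 4, 5, 6, 7, 8, 9, 10]
/-- a transposition -/
def g2 : Equiv.Perm (Fin 12) := cy [0, 1]

theorem x4_mem : x4 ∈ alternatingGroup (Fin 12) := by rw [mem_alternatingGroup]; decide +kernel
theorem t6_mem : t6 ∈ alternatingGroup (Fin 12) := by rw [mem_alternatingGroup]; decide +kernel
theorem x11_mem : x11 ∈ alternatingGroup (Fin 12) := by rw [mem_alternatingGroup]; decide +kernel
theorem g2_not_mem : g2 ∉ alternatingGroup (Fin 12) := by rw [mem_alternatingGroup]; decide +kernel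

/-- the cycle lengths of a permutation of prime order -/
theorem ty_of_prime {p : ℕ} (hp : p.Prime) {g : Equiv.Perm (Fin 12)} (h : g ^ p = 1) {k : ℕ}
    (hk : g.support.card = p * k) :
    ty g = ((List.replicate k p ++ List.replicate (12 - p * k) 1 : List ℕ) : Multiset ℕ) := by
  have h1 : ∀ b ∈ g.cycleType, b = p := by
    intro b hb
    have h2 := (Equiv.Perm.dvd_of_mem_cycleType hb).trans (orderOf_dvd_of_pow_eq_one h)
    have h3 := Equiv.Perm.two_le_of_mem_cycleType hb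
    rcases (Nat.dvd_prime hp).1 h2 with h4 | h4 <;> omega
  have h2 := Multiset.eq_replicate_card.2 h1
  have h3 := g.sum_cycleType
  rw [h2, Multiset.sum_replicate, smul_eq_mul, hk, mul_comm] at h3
  have h4 : g.cycleType.card = k := Nat.eq_of_mul_eq_mul_left hp.pos h3
  rw [h4] at h2
  rw [ty_eq, h2, Multiset.sum_replicate, smul_eq_mul, mul_comm k p, Fintype.card_fin]
  rfl

theorem ty_g2 : ty g2 = (([2] ++ List.replicate 10 1 : List ℕ) : Multiset ℕ) :=
  ty_of_prime (p := 2) (k := 1) Nat.prime_two (by decide +kernel) (by decide +kernel)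
theorem ty_x1 : ty x1 = (([3] ++ List.replicate 9 1 : List ℕ) : Multiset ℕ) :=
  ty_of_prime (p := 3) (k := 1) Nat.prime_three (by decide +kernel) (by decide +kernel)
theorem ty_x4 : ty x4 = (([3, 3, 3, 3] ++ List.replicate 0 1 : List ℕ) : Multiset ℕ) :=
  ty_of_prime (p := 3) (k := 4) Nat.prime_three (by decide +kernel) (by decide +kernel)
theorem ty_t2 : ty t2 = (([2, 2] ++ List.replicate 8 1 : List ℕ) : Multiset ℕ) :=
  ty_of_prime (p := 2) (k := 2) Nat.prime_two (by decide +kernel) (by decide +kernel)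
theorem ty_t6 : ty t6 = (([2, 2, 2, 2, 2, 2] ++ List.replicate 0 1 : List ℕ) : Multiset ℕ) :=
  ty_of_prime (p := 2) (k := 6) Nat.prime_two (by decide +kernel) (by decide +kernel)
theorem ty_s1 : ty s1 = (([2, 2, 2, 2] ++ List.replicate 4 1 : List ℕ) : Multiset ℕ) :=
  ty_of_prime (p := 2) (k := 4) Nat.prime_two (by decide +kernel) (by decide +kernel)
theorem ty_x11 : ty x11 = (([11] ++ List.replicate 1 1 : List ℕ) : Multiset ℕ) :=
  ty_of_prime (p := 11) (k := 1) (by norm_num) (by decide +kernel) (by decide +kernel)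
theorem ty_one' : ty (1 : Equiv.Perm (Fin 12)) = (([] ++ List.replicate 12 1 : List ℕ) : Multiset ℕ) := by
  rw [ty_one, Fintype.card_fin]; rfl

theorem ch_val {β : Fin 12 → ℕ} {g : Equiv.Perm (Fin 12)} {ν : List ℕ} {k : ℕ} (hg : ty g = ((ν ++ List.replicate k 1 : List ℕ) : Multiset ℕ))
    (hν : ∀ r ∈ ν, 0 < r) (hs : ∑ i, β i = ν.sum + k + ∑ i : Fin 12, (i : ℕ)) :
    ch (Fin 12) β g = ((ev 12 ν k (List.ofFn β) : ℤ) : ℂ) := by
  rw [ch_apply, hg, FM_coe, F_eq_ev ν hν k β hs]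

theorem sum12 : ∑ i : Fin 12, (i : ℕ) = 66 := by decide

/-- the values -/
def vP {G : Type*} [One G] (x1 x4 t2 t6 x11 s1 : G) (f : G → ℂ) : List ℂ :=
  [f 1, f x1 - f x4, f t2 - f t6, f x11, f t2, f s1]

/-- **The characters of small degree of the symmetric group of degree 12.** -/
theorem sym_cases {ψ : Equiv.Perm (Fin 12) → ℂ} (hψ : IsIrrCharacter (Equiv.Perm (Fin 12)) ψ) :
    (∃ z : ℤ, 1540 < z ∧ ψ 1 = z) ∨ (ψ g2 ≠ 0 ∧ ((∃ z : ℤ, 770 < z ∧ ψ 1 = z) ∨
      ∃ v ∈ rows, vP x1 x4 t2 t6 x11 s1 ψ = v.map (Int.cast))) := by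
  obtain ⟨β, hβ, hs, rfl⟩ := irr_eq (m := 12) (by rw [Fintype.card_fin]) hψ
  rw [Fintype.card_fin, sum12] at hs
  have h := of_en en_chk hβ hs
  have e1 := ch_val (β := β) ty_one' (by decide) (by rw [hs, sum12]; rfl)
  have e2 := ch_val (β := β) ty_g2 (by decide) (by rw [hs, sum12]; rfl)
  have e3 := ch_val (β := β) ty_x1 (by decide) (by rw [hs, sum12]; rfl)
  have e4 := ch_val (β := β) ty_x4 (by decide) (by rw [hs, sum12]; rfl)
  have e5 := ch_val (β := β) ty_t2 (by decide) (by rw [hs, sum12]; rfl)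
  have e6 := ch_val (β := β) ty_t6 (by decide) (by rw [hs, sum12]; rfl)
  have e7 := ch_val (β := β) ty_x11 (by decide) (by rw [hs, sum12]; rfl)
  have e8 := ch_val (β := β) ty_s1 (by decide) (by rw [hs, sum12]; rfl)
  rw [chk, Bool.or_eq_true, Bool.and_eq_true, Bool.or_eq_true, decide_eq_true_eq, decide_eq_true_eq,
    decide_eq_true_eq, decide_eq_true_eq] at h
  rcases h with h | ⟨h, h' | h'⟩
  · exact Or.inl ⟨_, h, e1⟩
  · refine Or.inr ⟨?_, Or.inl ⟨_, h', e1⟩⟩
    rw [e2]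
    exact_mod_cast h
  · refine Or.inr ⟨?_, Or.inr ⟨_, h', ?_⟩⟩
    · rw [e2]
      exact_mod_cast h
    · rw [vP, e1, e3, e4, e5, e6, e7, e8, vec]
      simp

/-- the value functions on the alternating group -/
def vA (f : A12 → ℂ) : List ℂ :=
  vP ⟨x1, x1_mem⟩ ⟨x4, x4_mem⟩ ⟨t2, t2_mem⟩ ⟨t6, t6_mem⟩ ⟨x11, x11_mem⟩ ⟨s1, s1_mem⟩ f

/-- **The characters of degree at most 770 of the alternating group of degree 12.** -/
theorem exists_row {φ : A12 → ℂ} (hφ : IsIrrCharacter A12 φ) {e : ℕ} (he : φ 1 = e) (h770 : e ≤ 770) :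
    ∃ v ∈ rows, vA φ = v.map (Int.cast) := by
  classical
  have hnt : Nontrivial (Fin 12) := Fin.nontrivial_iff_two_le.2 (by norm_num)
  obtain ⟨ψ, hψ, hne⟩ := Cfsg.Agent.CharDeep.PowerDegrees.exists_irr_over (alternatingGroup (Fin 12)) hφ
  rcases restrict_two (alternatingGroup (Fin 12)) alternatingGroup.index_eq_two hψ hφ hne with h | ⟨h, hv⟩
  · have h1 : ψ 1 = e := by
      have := h 1
      rw [OneMemClass.coe_one] at this
      rw [this, he]
    rcases sym_cases hψ with ⟨z, hz, hz1⟩ | ⟨-, ⟨z, hz, hz1⟩ | ⟨v, hv, hv1⟩⟩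
    · exfalso
      rw [h1] at hz1
      have : (e : ℤ) = z := by exact_mod_cast hz1
      omega
    · exfalso
      rw [h1] at hz1
      have : (e : ℤ) = z := by exact_mod_cast hz1
      omega
    · refine ⟨v, hv, ?_⟩
      rw [← hv1, vA, vP, vP, ← h 1, ← h ⟨x1, x1_mem⟩, ← h ⟨x4, x4_mem⟩, ← h ⟨t2, t2_mem⟩, ← h ⟨t6, t6_mem⟩,
        ← h ⟨x11, x11_mem⟩, ← h ⟨s1, s1_mem⟩]
      rfl
  · exfalso
    rcases sym_cases hψ with ⟨z, hz, hz1⟩ | ⟨h2, -⟩
    · rw [h, he] at hz1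
      have : (2 * e : ℤ) = z := by exact_mod_cast hz1
      omega
    · exact h2 (hv g2 g2_not_mem)

/-- decomposition of a character with few types of constituents -/
theorem comb_of {G : Type*} [Group G] [Finite G] {θ : G → ℂ} (hθ : IsCharacter G θ) {d : ℕ} (hd : θ 1 = d)
    {ι J : Type*} [Fintype ι] [DecidableEq ι] [Inhabited ι] (L : J → (G → ℂ) →+ ℂ) (R : ι → J → ℂ)
    (h : ∀ φ : G → ℂ, IsIrrCharacter G φ → ∀ e : ℕ, φ 1 = e → e ≤ d → ∃ i, ∀ j, L j φ = R i j) :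
    ∃ n : ι → ℕ, ∀ j, L j θ = ∑ i, (n i : ℂ) * R i j := by
  classical
  have := finite_irr (G := G)
  have := Fintype.ofFinite (IrrCharacter G)
  obtain ⟨m, rfl⟩ := exists_nat_comb hθ
  have hdeg : ∀ φ : IrrCharacter G, ∃ e : ℕ, (φ : G → ℂ) 1 = e := fun φ => by
    obtain ⟨e, -, he⟩ := isIrr_apply_one φ.2
    exact ⟨e, he⟩
  choose e he using hdeg
  have hsum : ∑ φ : IrrCharacter G, m φ * e φ = d := by
    have h1 : ((∑ φ : IrrCharacter G, m φ * e φ : ℕ) : ℂ) = d := by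
      rw [← hd, Finset.sum_apply]
      push_cast
      refine Finset.sum_congr rfl fun φ _ => ?_
      rw [Pi.smul_apply, he, nsmul_eq_mul]
    exact_mod_cast h1
  have hr : ∀ φ : IrrCharacter G, ∃ i : ι, m φ ≠ 0 → ∀ j, L j (φ : G → ℂ) = R i j := by
    intro φ
    by_cases hm : m φ = 0
    · exact ⟨default, fun h => absurd hm h⟩
    · obtain ⟨i, hi⟩ := h φ φ.2 (e φ) (he φ) (by
        rw [← hsum]
        refine le_trans ?_ (Finset.single_le_sum (f := fun φ => m φ * e φ) (fun _ _ => Nat.zero_le _) (Finset.mem_univ φ))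
        exact Nat.le_mul_of_pos_left _ (Nat.pos_of_ne_zero hm))
      exact ⟨i, fun _ => hi⟩
  choose r hr using hr
  refine ⟨fun i => ∑ φ with r φ = i, m φ, fun j => ?_⟩
  rw [map_sum]
  have h1 : ∀ φ : IrrCharacter G, L j (m φ • (φ : G → ℂ)) = (m φ : ℂ) * R (r φ) j := by
    intro φ
    rw [map_nsmul, nsmul_eq_mul]
    by_cases hm : m φ = 0
    · rw [hm, Nat.cast_zero, zero_mul, zero_mul]
    · rw [hr φ hm]
  rw [Finset.sum_congr rfl fun φ _ => h1 φ, ← Finset.sum_fiberwise_of_maps_to (g := r) (t := Finset.univ) (fun _ _ => Finset.mem_univ _)]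
  refine Finset.sum_congr rfl fun i _ => ?_
  rw [Nat.cast_sum, Finset.sum_mul]
  refine Finset.sum_congr rfl fun φ hφ => ?_
  rw [(Finset.mem_filter.1 hφ).2]

/-- the linear forms -/
noncomputable def LA : Fin 6 → (A12 → ℂ) →+ ℂ := fun j =>
  { toFun := fun f => (vA f).getD j 0
    map_zero' := by (revert j; simp only [vA, vP, _root_.Fin.forall_fin_succ, _root_.Pi.zero_apply, _root_.sub_self, _root_.List.getD_eq_getElem?_getD, _root_.List.length_cons, _root_.List.length_nil, _root_.zero_add, Nat.reduceAdd, _root_.Fin.is_lt, _root_.getElem?_pos, _root_.Option.getD_some, Fin.isValue, _root_.Fin.coe_ofNat_eq_mod, _root_.Nat.zero_mod, _root_.List.getElem_cons_zero, _root_.Fin.val_succ, _root_.List.getElem_cons_succ, _root_.Fin.val_eq_zero, _root_.implies_true, _root_.and_self])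
    map_add' := fun f g => by (revert j; simp only [vA, vP, _root_.Fin.forall_fin_succ, _root_.Pi.add_apply, _root_.List.getD_eq_getElem?_getD, _root_.List.length_cons, _root_.List.length_nil, _root_.zero_add, Nat.reduceAdd, _root_.Fin.is_lt, _root_.getElem?_pos, _root_.Option.getD_some, Fin.isValue, _root_.Fin.coe_ofNat_eq_mod, _root_.Nat.zero_mod, _root_.List.getElem_cons_zero, _root_.Fin.val_succ, _root_.List.getElem_cons_succ, _root_.Fin.val_eq_zero, _root_.implies_true, _root_.and_self, _root_.and_true, _root_.true_and]) <;> (repeat' with_reducible apply And.intro) <;> ring }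

theorem LA_apply (j : Fin 6) (f : A12 → ℂ) : LA j f = (vA f).getD j 0 := rfl

/-- **Characters of degree at most 770 of the alternating group of degree 12.** -/
theorem exists_comb {θ : A12 → ℂ} (hθ : IsCharacter A12 θ) {d : ℕ} (hd : θ 1 = d) (h770 : d ≤ 770) :
    ∃ n : Fin 14 → ℕ, ∀ j : Fin 6, (vA θ).getD j 0 = (((∑ i, (n i : ℤ) * (rows.getD i []).getD j 0 : ℤ)) : ℂ) := by
  obtain ⟨n, hn⟩ := comb_of hθ hd LA (fun (i : Fin 14) (j : Fin 6) => (((rows.getD i []).getD j 0 : ℤ) : ℂ)) (by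
    intro φ hφ e he hed
    obtain ⟨v, hv, hv1⟩ := exists_row hφ he (hed.trans h770)
    obtain ⟨i, hi, rfl⟩ := List.getElem_of_mem hv
    refine ⟨⟨i, hi⟩, fun j => ?_⟩
    rw [LA_apply, hv1, List.getD_eq_getElem _ _ hi]
    generalize rows[i] = v
    cases h : v[(j : ℕ)]? with
    | none => simp [List.getD_eq_getElem?_getD, h]
    | some a => simp [List.getD_eq_getElem?_getD, h])
  refine ⟨n, fun j => ?_⟩
  rw [← LA_apply, hn j]
  push_cast
  rfl

end Cfsg.Agent.H175.Ore.AltRows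
end

-- part: H175/Ore/HNEl
section
/-!
# The centralizer of an element of order 11 of `HN` (helper175, after helper704)

A copy of the first part of `H704.Spor49.Harada`, with a small closure.
-/

set_option autoImplicit false
set_option maxRecDepth 100000

namespace Cfsg.Agent.H175.Ore.HNEl

open Cfsg Subgroup
open Cfsg.Agent.HN.Pres Cfsg.Agent.HN.H0Basic Cfsg.Agent.H710.Spor.HNMix
open Cfsg.Agent.HN.NormalH (H)
open Cfsg.Agent.HN.DCover (w9)
open Cfsg.Agent.HN.Index (balance kk)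
open Cfsg.Agent.HN.Count (sz pnt)

/-- The lengths of the suborbits are divisible by 11. -/
theorem dvd_sz (i : Fin 9) (hi : i ≠ 0) : 11 ∣ sz H (w9 i) := by
  have hdis := Cfsg.Agent.HN.Distinct.hdis
  have s0 : sz H (w9 0) = 1 := by rw [Cfsg.Agent.HN.Index.w9_zero]; exact Cfsg.Agent.HN.Count.sz_one H
  have s1 : sz H (w9 0) * 1408 = sz H (w9 1) * 1 := balance hdis 0 1
  have s2 : sz H (w9 1) * 50 = sz H (w9 2) * 32 := balance hdis 1 2
  have s3 : sz H (w9 1) * 450 = sz H (w9 3) * 18 := balance hdis 1 3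
  have s4 : sz H (w9 1) * 350 = sz H (w9 4) * 4 := balance hdis 1 4
  have s5 : sz H (w9 1) * 504 = sz H (w9 5) * 2 := balance hdis 1 5
  have s6 : sz H (w9 2) * 672 = sz H (w9 6) * 2 := balance hdis 2 6
  have s7 : sz H (w9 6) * 10 = sz H (w9 7) * 1280 := balance hdis 6 7
  have s8 : sz H (w9 6) * 240 = sz H (w9 8) * 640 := balance hdis 6 8
  fin_cases i
  · exact absurd rfl hi
  · show 11 ∣ sz H (w9 1)
    omega
  · show 11 ∣ sz H (w9 2)
    omega
  · show 11 ∣ sz H (w9 3)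
    omega
  · show 11 ∣ sz H (w9 4)
    omega
  · show 11 ∣ sz H (w9 5)
    omega
  · show 11 ∣ sz H (w9 6)
    omega
  · show 11 ∣ sz H (w9 7)
    omega
  · show 11 ∣ sz H (w9 8)
    omega

theorem card_H : Nat.card H = 177408000 := Cfsg.Agent.HN.Index.card_H

/-- An element of order 11 of `H` is in no other conjugate of `H`. -/
theorem mem_H_of_conj {x g : Cfsg.Spor.HN} (hx : orderOf x = 11) (hxH : x ∈ H) (hg : g⁻¹ * x * g ∈ H) : g ∈ H := by
  have hfinG := Cfsg.Agent.H710.Spor.HN.finite_hn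
  have hfin : Finite H := inferInstance
  obtain ⟨i, hi⟩ := Cfsg.Agent.HN.Index.covers g⁻¹
  have hor := (Cfsg.Agent.HN.Count.mem_orbit_iff' (H := H) g⁻¹ (w9 i)).2 hi
  by_cases h0 : i = 0
  · subst h0
    rw [Cfsg.Agent.HN.Index.w9_zero, DoubleCoset.mem_doubleCoset] at hi
    obtain ⟨a, ha, b, hb, hab⟩ := hi
    have h1 : g⁻¹ ∈ H := by
      rw [hab, mul_one]
      exact H.mul_mem ha hb
    exact inv_mem_iff.1 h1
  · exfalso
    -- the point is fixed by `x`
    have hd := dvd_sz i h0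
    set q : Cfsg.Spor.HN ⧸ H := pnt H g⁻¹ with hq
    have hqo : Nat.card (MulAction.orbit H q) = sz H (w9 i) := by
      rw [sz, MulAction.orbit_eq_iff.2 hor]
    have hst : Nat.card (MulAction.orbit H q) * Nat.card (MulAction.stabilizer H q) = Nat.card H := by
      rw [Nat.card_congr (MulAction.orbitEquivQuotientStabilizer H q)]
      exact (Subgroup.card_eq_card_quotient_mul_card_subgroup _).symm
    have hxs : (⟨x, hxH⟩ : H) ∈ MulAction.stabilizer H q := by
      rw [MulAction.mem_stabilizer_iff]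
      change ((x * (g⁻¹)⁻¹ : Cfsg.Spor.HN) : Cfsg.Spor.HN ⧸ H) = (((g⁻¹)⁻¹ : Cfsg.Spor.HN) : Cfsg.Spor.HN ⧸ H)
      rw [QuotientGroup.eq, inv_inv]
      have h1 : (x * g)⁻¹ * g = (g⁻¹ * x * g)⁻¹ := by group
      rw [h1]
      exact H.inv_mem hg
    have h11 : 11 ∣ Nat.card (MulAction.stabilizer H q) := by
      have h2 : orderOf (⟨⟨x, hxH⟩, hxs⟩ : MulAction.stabilizer H q) = 11 := by
        rw [Subgroup.orderOf_mk, Subgroup.orderOf_mk, hx]
      rw [← h2]
      exact _root_.orderOf_dvd_natCard _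
    rw [hqo, card_H] at hst
    obtain ⟨a, ha⟩ := hd
    obtain ⟨b, hb⟩ := h11
    rw [ha, hb] at hst
    have h3 : 121 ∣ 177408000 := ⟨a * b, by rw [← hst]; ring⟩
    revert h3
    norm_num

theorem mem_H_iff {x : Cfsg.Spor.HN} : x ∈ H ↔ ∃ u, ψ u = x := by
  rw [← Cfsg.Agent.HN.NormalH.range_ψ]
  exact Iff.rfl

/-- The centralizer of the element of order 11. -/
theorem card_cent : Nat.card (centralizer ({ψ xx} : Set Cfsg.Spor.HN)) = 2 * 11 := by
  have hfinG := Cfsg.Agent.H710.Spor.HN.finite_hn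
  refine le_antisymm ?_ ?_
  · have hf : ∀ g : centralizer ({ψ xx} : Set Cfsg.Spor.HN), ∃ i : Fin 11 × Bool,
        (g : Cfsg.Spor.HN) = ψ (xx ^ (i.1 : ℕ) * (if i.2 then τ else 1)) := by
      rintro ⟨g, hg⟩
      have hg1 : g * ψ xx = ψ xx * g := mem_centralizer_singleton_iff.1 hg
      have hxH : ψ xx ∈ H := mem_H_iff.2 ⟨_, rfl⟩
      have h2 : g⁻¹ * ψ xx * g = ψ xx := by rw [mul_assoc, ← hg1, inv_mul_cancel_left]
      have h3 := mem_H_of_conj orderOf_ψx hxH (by rw [h2]; exact hxH)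
      obtain ⟨u, rfl⟩ := mem_H_iff.1 h3
      have h4 : u * xx = xx * u := by
        apply ψ_inj
        rw [map_mul, map_mul]
        exact hg1
      obtain ⟨k, hk, h8 | h8⟩ := Cfsg.Agent.H710.Spor.HNCent.mem_of_comm h4
      · exact ⟨(⟨k, hk⟩, false), (congrArg ψ h8).trans (by simp)⟩
      · exact ⟨(⟨k, hk⟩, true), (congrArg ψ h8).trans (by simp only [_root_.map_mul, _root_.map_pow, ↓ _root_.reduceIte])⟩
    choose f hf using hf
    have hinj : Function.Injective f := fun a b hab => Subtype.ext (by rw [hf a, hf b, hab])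
    have h := Nat.card_le_card_of_injective f hinj
    simpa only [_root_.Nat.reduceMul, _root_.ge_iff_le, _root_.Nat.card_eq_fintype_card, _root_.Fintype.card_prod, _root_.Fintype.card_fin, _root_.Fintype.card_bool] using h
  · refine Nat.le_of_dvd Nat.card_pos ?_
    have ho : orderOf (ψ xx * ψ τ) = 2 * 11 :=
      Cfsg.Agent.H710.TwoP.orderOf_xt (p := 11) (by norm_num) orderOf_ψx orderOf_ψτ comm_xτ
    have hm : ψ xx * ψ τ ∈ centralizer ({ψ xx} : Set Cfsg.Spor.HN) := by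
      rw [mem_centralizer_singleton_iff, mul_assoc, comm_xτ.eq]
    rw [← ho, ← Subgroup.orderOf_mk _ hm]
    exact _root_.orderOf_dvd_natCard _

end Cfsg.Agent.H175.Ore.HNEl
end

-- part: H175/Ore/HNFus
section
/-!
# Fusion of `A12` in `HN` (helper175)

* `conj_three` : a 3-cycle and an element of cycle type `3 ^ 4` are conjugate;
* `conj_two` : elements of cycle types `2 ^ 2`, `2 ^ 6` are conjugate;
* `inv_cases` : every involution is conjugate to one of cycle type `2 ^ 2` or `2 ^ 4`;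
* `card_cent` : the centralizer of an element of order 11 has order 22.
-/

set_option autoImplicit false
set_option maxRecDepth 100000

namespace Cfsg.Agent.H175.Ore.HNFus

open Cfsg.Agent.Lib.PackMat Cfsg.Agent.Lib.PackMatGroup Cfsg.Agent.Lib.PackMatMul Cfsg.Agent.HN.RepData
open Cfsg.Agent.HN.A12Step (L20)
open Cfsg.Agent.HN.Trace
open Cfsg.Agent.CpAutHN.Tr Cfsg.Agent.CpAutHN.Alt Cfsg.Agent.CpAutHN.Pairs
open Cfsg.Agent.KFacts.HN.Classes (inv_class)
open Cfsg.Agent.HN.XWords (W0)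
open Cfsg.Agent.HN.H0Basic
open Cfsg.Agent.H175.Ore.AltRows (x4 x4_mem t6 t6_mem x11 x11_mem)
open Equiv.Perm (mem_alternatingGroup)
open Subgroup

/-- a word for the cycle type `2 ^ 6` -/
def l6 : List ℕ := [5, 2, 8, 1, 4, 3, 8, 1, 6, 0, 7, 2, 6, 9]

private noncomputable def _root_.Cfsg.Agent.LsF.f2d16fc_9 : {f // @Cfsg.Agent.Lib.PackMat.rep = f} := ⟨_, by first | (delta Cfsg.Agent.Lib.PackMat.rep; rewrite [Cfsg.Agent.LsF.nmul_pat, Cfsg.Agent.LsF.nsub_pat, Cfsg.Agent.LsF.ndiv_pat, Cfsg.Agent.LsF.npow_pat]; exact rfl) | exact rfl⟩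
private noncomputable def _root_.Cfsg.Agent.LsF.f2d16fc_10 : {f // @Cfsg.Agent.Lib.PackMat.gmask = f} := ⟨_, by first | (delta Cfsg.Agent.Lib.PackMat.gmask; rewrite [Cfsg.Agent.LsF.f2d16fc_9.2, Cfsg.Agent.LsF.nmul_pat, Cfsg.Agent.LsF.nsub_pat, Cfsg.Agent.LsF.npow_pat]; exact rfl) | exact rfl⟩
private noncomputable def _root_.Cfsg.Agent.LsF.f2d16fc_11 : {f // @Cfsg.Agent.Lib.PackMat.GMc = f} := ⟨_, by first | (delta Cfsg.Agent.Lib.PackMat.GMc; rewrite [Cfsg.Agent.LsF.f2d16fc_10.2]; exact rfl) | exact rfl⟩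
private noncomputable def _root_.Cfsg.Agent.LsF.f2d16fc_12 : {f // @Cfsg.Agent.Lib.PackMat.FMc = f} := ⟨_, by first | (delta Cfsg.Agent.Lib.PackMat.FMc; rewrite [Cfsg.Agent.LsF.nadd_pat, Cfsg.Agent.LsF.nmul_pat, Cfsg.Agent.LsF.nsub_pat, Cfsg.Agent.LsF.npow_pat]; exact rfl) | exact rfl⟩
private noncomputable def _root_.Cfsg.Agent.LsF.f2d16fc_13 : {f // @Cfsg.Agent.Lib.PackMat.LOc = f} := ⟨_, by first | (delta Cfsg.Agent.Lib.PackMat.LOc; rewrite [Cfsg.Agent.LsF.f2d16fc_9.2, Cfsg.Agent.LsF.nmul_pat, Cfsg.Agent.LsF.nsub_pat, Cfsg.Agent.LsF.npow_pat]; exact rfl) | exact rfl⟩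
private noncomputable def _root_.Cfsg.Agent.LsF.f2d16fc_14 : {f // @Cfsg.Agent.Lib.PackMat.HIc = f} := ⟨_, by first | (delta Cfsg.Agent.Lib.PackMat.HIc; rewrite [Cfsg.Agent.LsF.f2d16fc_9.2, Cfsg.Agent.LsF.nmul_pat, Cfsg.Agent.LsF.nsub_pat, Cfsg.Agent.LsF.npow_pat]; exact rfl) | exact rfl⟩
private noncomputable def _root_.Cfsg.Agent.LsF.f2d16fc_15 : {f // @Cfsg.Agent.Lib.PackMat.HTc = f} := ⟨_, by first | (delta Cfsg.Agent.Lib.PackMat.HTc; rewrite [Cfsg.Agent.LsF.f2d16fc_9.2, Cfsg.Agent.LsF.nmul_pat, Cfsg.Agent.LsF.nsub_pat, Cfsg.Agent.LsF.npow_pat]; exact rfl) | exact rfl⟩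
private noncomputable def _root_.Cfsg.Agent.LsF.f2d16fc_16 : {f // @Cfsg.Agent.Lib.PackMat.withC = f} := ⟨_, by first | (delta Cfsg.Agent.Lib.PackMat.withC; rewrite [Cfsg.Agent.LsF.f2d16fc_11.2, Cfsg.Agent.LsF.f2d16fc_12.2, Cfsg.Agent.LsF.f2d16fc_13.2, Cfsg.Agent.LsF.f2d16fc_14.2, Cfsg.Agent.LsF.f2d16fc_15.2]; exact rfl) | exact rfl⟩
private noncomputable def _root_.Cfsg.Agent.LsF.f2d16fc_17 : {f // @Cfsg.Agent.Lib.PackMat.unitRow = f} := ⟨_, by first | (delta Cfsg.Agent.Lib.PackMat.unitRow; rewrite [Cfsg.Agent.LsF.nmul_pat, Cfsg.Agent.LsF.nsub_pat, Cfsg.Agent.LsF.npow_pat]; exact rfl) | exact rfl⟩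
private noncomputable def _root_.Cfsg.Agent.LsF.f2d16fc_18 : {f // @Cfsg.Agent.Lib.PackMat.foldK = f} := ⟨_, by first | (delta Cfsg.Agent.Lib.PackMat.foldK Nat.brecOn.go Nat.brecOn Cfsg.Agent.Lib.PackMat.foldK._f; (try delta Cfsg.Agent.Lib.PackMat.foldBoundIter.match_1); (try delta Nat.casesOn); first | dsimp -zeta only | exact rfl) | exact rfl⟩
private noncomputable def _root_.Cfsg.Agent.LsF.f2d16fc_19 : {f // @Cfsg.Agent.Lib.PackMat.stepK = f} := ⟨_, by first | (delta Cfsg.Agent.Lib.PackMat.stepK; rewrite [Cfsg.Agent.LsF.f2d16fc_18.2]; exact rfl) | exact rfl⟩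
private noncomputable def _root_.Cfsg.Agent.LsF.f2d16fc_20 : {f // @Cfsg.Agent.Lib.PackMat.runK = f} := ⟨_, by first | (delta Cfsg.Agent.Lib.PackMat.runK List.brecOn List.brecOn.go Cfsg.Agent.Lib.PackMat.runK._f; rewrite [Cfsg.Agent.LsF.f2d16fc_19.2]; (try delta Cfsg.Agent.Lib.PackMat.runK.match_1); (try delta List.casesOn); first | dsimp -zeta only | exact rfl) | exact rfl⟩
private noncomputable def _root_.Cfsg.Agent.LsF.f2d16fc_21 : {f // @Cfsg.Agent.HN.Trace.trK = f} := ⟨_, by first | (delta Cfsg.Agent.HN.Trace.trK Nat.brecOn.go Nat.brecOn Cfsg.Agent.HN.Trace.trK._f; rewrite [Cfsg.Agent.LsF.f2d16fc_20.2]; (try delta Cfsg.Agent.HN.Trace.trK.match_1); (try delta Nat.casesOn); first | dsimp -zeta only | exact rfl) | exact rfl⟩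
private noncomputable def _root_.Cfsg.Agent.LsF.f2d16fc_22 : {f // @Cfsg.Agent.HN.Trace.checkTr = f} := ⟨_, by first | (delta Cfsg.Agent.HN.Trace.checkTr; rewrite [Cfsg.Agent.LsF.f2d16fc_16.2, Cfsg.Agent.LsF.f2d16fc_17.2, Cfsg.Agent.LsF.f2d16fc_21.2, Cfsg.Agent.LsF.nadd_pat, Cfsg.Agent.LsF.cond_eq]; exact rfl) | exact rfl⟩
private noncomputable def _root_.Cfsg.Agent.LsF.f2d16fc_23 : {f // @Cfsg.Agent.Lib.PackMatGroup.asm = f} := ⟨_, by first | (delta Cfsg.Agent.Lib.PackMatGroup.asm List.brecOn List.brecOn.go Cfsg.Agent.Lib.PackMatGroup.asm._f; (try delta Cfsg.Agent.Lib.PackMatGroup.asm.match_1); (try delta List.casesOn); first | dsimp -zeta only | exact rfl) | exact rfl⟩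
private noncomputable def _root_.Cfsg.Agent.LsF.f2d16fc_24 : {f // @Cfsg.Agent.HN.A12Data.D19 = f} := ⟨_, by first | (delta Cfsg.Agent.HN.A12Data.D19; rewrite [Cfsg.Agent.LsF.f2d16fc_23.2]; exact rfl) | exact rfl⟩
private noncomputable def _root_.Cfsg.Agent.LsF.f2d16fc_25 : {f // @Cfsg.Agent.HN.A12Data.D18 = f} := ⟨_, by first | (delta Cfsg.Agent.HN.A12Data.D18; rewrite [Cfsg.Agent.LsF.f2d16fc_23.2]; exact rfl) | exact rfl⟩
private noncomputable def _root_.Cfsg.Agent.LsF.f2d16fc_26 : {f // @Cfsg.Agent.HN.A12Data.D17 = f} := ⟨_, by first | (delta Cfsg.Agent.HN.A12Data.D17; rewrite [Cfsg.Agent.LsF.f2d16fc_23.2]; exact rfl) | exact rfl⟩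
private noncomputable def _root_.Cfsg.Agent.LsF.f2d16fc_27 : {f // @Cfsg.Agent.HN.A12Data.D16 = f} := ⟨_, by first | (delta Cfsg.Agent.HN.A12Data.D16; rewrite [Cfsg.Agent.LsF.f2d16fc_23.2]; exact rfl) | exact rfl⟩
private noncomputable def _root_.Cfsg.Agent.LsF.f2d16fc_28 : {f // @Cfsg.Agent.HN.A12Data.D15 = f} := ⟨_, by first | (delta Cfsg.Agent.HN.A12Data.D15; rewrite [Cfsg.Agent.LsF.f2d16fc_23.2]; exact rfl) | exact rfl⟩
private noncomputable def _root_.Cfsg.Agent.LsF.f2d16fc_29 : {f // @Cfsg.Agent.HN.A12Data.D14 = f} := ⟨_, by first | (delta Cfsg.Agent.HN.A12Data.D14; rewrite [Cfsg.Agent.LsF.f2d16fc_23.2]; exact rfl) | exact rfl⟩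
private noncomputable def _root_.Cfsg.Agent.LsF.f2d16fc_30 : {f // @Cfsg.Agent.HN.A12Data.D13 = f} := ⟨_, by first | (delta Cfsg.Agent.HN.A12Data.D13; rewrite [Cfsg.Agent.LsF.f2d16fc_23.2]; exact rfl) | exact rfl⟩
private noncomputable def _root_.Cfsg.Agent.LsF.f2d16fc_31 : {f // @Cfsg.Agent.HN.A12Data.D12 = f} := ⟨_, by first | (delta Cfsg.Agent.HN.A12Data.D12; rewrite [Cfsg.Agent.LsF.f2d16fc_23.2]; exact rfl) | exact rfl⟩
private noncomputable def _root_.Cfsg.Agent.LsF.f2d16fc_32 : {f // @Cfsg.Agent.HN.A12Data.D11 = f} := ⟨_, by first | (delta Cfsg.Agent.HN.A12Data.D11; rewrite [Cfsg.Agent.LsF.f2d16fc_23.2]; exact rfl) | exact rfl⟩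
private noncomputable def _root_.Cfsg.Agent.LsF.f2d16fc_33 : {f // @Cfsg.Agent.HN.A12Data.D10 = f} := ⟨_, by first | (delta Cfsg.Agent.HN.A12Data.D10; rewrite [Cfsg.Agent.LsF.f2d16fc_23.2]; exact rfl) | exact rfl⟩
private noncomputable def _root_.Cfsg.Agent.LsF.f2d16fc_34 : {f // @Cfsg.Agent.HN.A12Data.D9 = f} := ⟨_, by first | (delta Cfsg.Agent.HN.A12Data.D9; rewrite [Cfsg.Agent.LsF.f2d16fc_23.2]; exact rfl) | exact rfl⟩
private noncomputable def _root_.Cfsg.Agent.LsF.f2d16fc_35 : {f // @Cfsg.Agent.HN.A12Data.D8 = f} := ⟨_, by first | (delta Cfsg.Agent.HN.A12Data.D8; rewrite [Cfsg.Agent.LsF.f2d16fc_23.2]; exact rfl) | exact rfl⟩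
private noncomputable def _root_.Cfsg.Agent.LsF.f2d16fc_36 : {f // @Cfsg.Agent.HN.A12Data.D7 = f} := ⟨_, by first | (delta Cfsg.Agent.HN.A12Data.D7; rewrite [Cfsg.Agent.LsF.f2d16fc_23.2]; exact rfl) | exact rfl⟩
private noncomputable def _root_.Cfsg.Agent.LsF.f2d16fc_37 : {f // @Cfsg.Agent.HN.A12Data.D6 = f} := ⟨_, by first | (delta Cfsg.Agent.HN.A12Data.D6; rewrite [Cfsg.Agent.LsF.f2d16fc_23.2]; exact rfl) | exact rfl⟩
private noncomputable def _root_.Cfsg.Agent.LsF.f2d16fc_38 : {f // @Cfsg.Agent.HN.A12Data.D5 = f} := ⟨_, by first | (delta Cfsg.Agent.HN.A12Data.D5; rewrite [Cfsg.Agent.LsF.f2d16fc_23.2]; exact rfl) | exact rfl⟩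
private noncomputable def _root_.Cfsg.Agent.LsF.f2d16fc_39 : {f // @Cfsg.Agent.HN.A12Data.D4 = f} := ⟨_, by first | (delta Cfsg.Agent.HN.A12Data.D4; rewrite [Cfsg.Agent.LsF.f2d16fc_23.2]; exact rfl) | exact rfl⟩
private noncomputable def _root_.Cfsg.Agent.LsF.f2d16fc_40 : {f // @Cfsg.Agent.HN.A12Data.D3 = f} := ⟨_, by first | (delta Cfsg.Agent.HN.A12Data.D3; rewrite [Cfsg.Agent.LsF.f2d16fc_23.2]; exact rfl) | exact rfl⟩
private noncomputable def _root_.Cfsg.Agent.LsF.f2d16fc_41 : {f // @Cfsg.Agent.HN.A12Data.D2 = f} := ⟨_, by first | (delta Cfsg.Agent.HN.A12Data.D2; rewrite [Cfsg.Agent.LsF.f2d16fc_23.2]; exact rfl) | exact rfl⟩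
private noncomputable def _root_.Cfsg.Agent.LsF.f2d16fc_42 : {f // @Cfsg.Agent.HN.A12Data.D1 = f} := ⟨_, by first | (delta Cfsg.Agent.HN.A12Data.D1; rewrite [Cfsg.Agent.LsF.f2d16fc_23.2]; exact rfl) | exact rfl⟩
private noncomputable def _root_.Cfsg.Agent.LsF.f2d16fc_43 : {f // @Cfsg.Agent.HN.A12Data.D0 = f} := ⟨_, by first | (delta Cfsg.Agent.HN.A12Data.D0; rewrite [Cfsg.Agent.LsF.f2d16fc_23.2]; exact rfl) | exact rfl⟩
private noncomputable def _root_.Cfsg.Agent.LsF.f2d16fc_44 : {f // @Cfsg.Agent.HN.RepData.X = f} := ⟨_, by first | (delta Cfsg.Agent.HN.RepData.X; rewrite [Cfsg.Agent.LsF.f2d16fc_23.2]; exact rfl) | exact rfl⟩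
private noncomputable def _root_.Cfsg.Agent.LsF.f2d16fc_45 : {f // @Cfsg.Agent.HN.RepData.XI = f} := ⟨_, by first | (delta Cfsg.Agent.HN.RepData.XI; rewrite [Cfsg.Agent.LsF.f2d16fc_23.2]; exact rfl) | exact rfl⟩
private noncomputable def _root_.Cfsg.Agent.LsF.f2d16fc_46 : {f // @Cfsg.Agent.HN.RepData.Y = f} := ⟨_, by first | (delta Cfsg.Agent.HN.RepData.Y; rewrite [Cfsg.Agent.LsF.f2d16fc_23.2]; exact rfl) | exact rfl⟩
private noncomputable def _root_.Cfsg.Agent.LsF.f2d16fc_47 : {f // @Cfsg.Agent.HN.RepData.YI = f} := ⟨_, by first | (delta Cfsg.Agent.HN.RepData.YI; rewrite [Cfsg.Agent.LsF.f2d16fc_23.2]; exact rfl) | exact rfl⟩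
private noncomputable def _root_.Cfsg.Agent.LsF.f2d16fc_48 : {f // @Cfsg.Agent.HN.RepData.Z = f} := ⟨_, by first | (delta Cfsg.Agent.HN.RepData.Z; rewrite [Cfsg.Agent.LsF.f2d16fc_23.2]; exact rfl) | exact rfl⟩
private noncomputable def _root_.Cfsg.Agent.LsF.f2d16fc_49 : {f // @Cfsg.Agent.HN.RepData.T = f} := ⟨_, by first | (delta Cfsg.Agent.HN.RepData.T; rewrite [Cfsg.Agent.LsF.f2d16fc_23.2]; exact rfl) | exact rfl⟩
private noncomputable def _root_.Cfsg.Agent.LsF.f2d16fc_50 : {f // @Cfsg.Agent.HN.RepData.TI = f} := ⟨_, by first | (delta Cfsg.Agent.HN.RepData.TI; rewrite [Cfsg.Agent.LsF.f2d16fc_23.2]; exact rfl) | exact rfl⟩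
private noncomputable def _root_.Cfsg.Agent.LsF.f2d16fc_51 : {f // @Cfsg.Agent.HN.Rep.L = f} := ⟨_, by first | (delta Cfsg.Agent.HN.Rep.L; rewrite [Cfsg.Agent.LsF.f2d16fc_44.2, Cfsg.Agent.LsF.f2d16fc_45.2, Cfsg.Agent.LsF.f2d16fc_46.2, Cfsg.Agent.LsF.f2d16fc_47.2, Cfsg.Agent.LsF.f2d16fc_48.2, Cfsg.Agent.LsF.f2d16fc_49.2, Cfsg.Agent.LsF.f2d16fc_50.2]; exact rfl) | exact rfl⟩
private noncomputable def _root_.Cfsg.Agent.LsF.f2d16fc_52 : {f // @Cfsg.Agent.HN.A12Step.L0 = f} := ⟨_, by first | (delta Cfsg.Agent.HN.A12Step.L0; rewrite [Cfsg.Agent.LsF.f2d16fc_51.2]; exact rfl) | exact rfl⟩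
private noncomputable def _root_.Cfsg.Agent.LsF.f2d16fc_53 : {f // @Cfsg.Agent.HN.A12Step.L1 = f} := ⟨_, by first | (delta Cfsg.Agent.HN.A12Step.L1; rewrite [Cfsg.Agent.LsF.f2d16fc_43.2, Cfsg.Agent.LsF.f2d16fc_52.2]; exact rfl) | exact rfl⟩
private noncomputable def _root_.Cfsg.Agent.LsF.f2d16fc_54 : {f // @Cfsg.Agent.HN.A12Step.L2 = f} := ⟨_, by first | (delta Cfsg.Agent.HN.A12Step.L2; rewrite [Cfsg.Agent.LsF.f2d16fc_42.2, Cfsg.Agent.LsF.f2d16fc_53.2]; exact rfl) | exact rfl⟩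
private noncomputable def _root_.Cfsg.Agent.LsF.f2d16fc_55 : {f // @Cfsg.Agent.HN.A12Step.L3 = f} := ⟨_, by first | (delta Cfsg.Agent.HN.A12Step.L3; rewrite [Cfsg.Agent.LsF.f2d16fc_41.2, Cfsg.Agent.LsF.f2d16fc_54.2]; exact rfl) | exact rfl⟩
private noncomputable def _root_.Cfsg.Agent.LsF.f2d16fc_56 : {f // @Cfsg.Agent.HN.A12Step.L4 = f} := ⟨_, by first | (delta Cfsg.Agent.HN.A12Step.L4; rewrite [Cfsg.Agent.LsF.f2d16fc_40.2, Cfsg.Agent.LsF.f2d16fc_55.2]; exact rfl) | exact rfl⟩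
private noncomputable def _root_.Cfsg.Agent.LsF.f2d16fc_57 : {f // @Cfsg.Agent.HN.A12Step.L5 = f} := ⟨_, by first | (delta Cfsg.Agent.HN.A12Step.L5; rewrite [Cfsg.Agent.LsF.f2d16fc_39.2, Cfsg.Agent.LsF.f2d16fc_56.2]; exact rfl) | exact rfl⟩
private noncomputable def _root_.Cfsg.Agent.LsF.f2d16fc_58 : {f // @Cfsg.Agent.HN.A12Step.L6 = f} := ⟨_, by first | (delta Cfsg.Agent.HN.A12Step.L6; rewrite [Cfsg.Agent.LsF.f2d16fc_38.2, Cfsg.Agent.LsF.f2d16fc_57.2]; exact rfl) | exact rfl⟩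
private noncomputable def _root_.Cfsg.Agent.LsF.f2d16fc_59 : {f // @Cfsg.Agent.HN.A12Step.L7 = f} := ⟨_, by first | (delta Cfsg.Agent.HN.A12Step.L7; rewrite [Cfsg.Agent.LsF.f2d16fc_37.2, Cfsg.Agent.LsF.f2d16fc_58.2]; exact rfl) | exact rfl⟩
private noncomputable def _root_.Cfsg.Agent.LsF.f2d16fc_60 : {f // @Cfsg.Agent.HN.A12Step.L8 = f} := ⟨_, by first | (delta Cfsg.Agent.HN.A12Step.L8; rewrite [Cfsg.Agent.LsF.f2d16fc_36.2, Cfsg.Agent.LsF.f2d16fc_59.2]; exact rfl) | exact rfl⟩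
private noncomputable def _root_.Cfsg.Agent.LsF.f2d16fc_61 : {f // @Cfsg.Agent.HN.A12Step.L9 = f} := ⟨_, by first | (delta Cfsg.Agent.HN.A12Step.L9; rewrite [Cfsg.Agent.LsF.f2d16fc_35.2, Cfsg.Agent.LsF.f2d16fc_60.2]; exact rfl) | exact rfl⟩
private noncomputable def _root_.Cfsg.Agent.LsF.f2d16fc_62 : {f // @Cfsg.Agent.HN.A12Step.L10 = f} := ⟨_, by first | (delta Cfsg.Agent.HN.A12Step.L10; rewrite [Cfsg.Agent.LsF.f2d16fc_34.2, Cfsg.Agent.LsF.f2d16fc_61.2]; exact rfl) | exact rfl⟩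
private noncomputable def _root_.Cfsg.Agent.LsF.f2d16fc_63 : {f // @Cfsg.Agent.HN.A12Step.L11 = f} := ⟨_, by first | (delta Cfsg.Agent.HN.A12Step.L11; rewrite [Cfsg.Agent.LsF.f2d16fc_33.2, Cfsg.Agent.LsF.f2d16fc_62.2]; exact rfl) | exact rfl⟩
private noncomputable def _root_.Cfsg.Agent.LsF.f2d16fc_64 : {f // @Cfsg.Agent.HN.A12Step.L12 = f} := ⟨_, by first | (delta Cfsg.Agent.HN.A12Step.L12; rewrite [Cfsg.Agent.LsF.f2d16fc_32.2, Cfsg.Agent.LsF.f2d16fc_63.2]; exact rfl) | exact rfl⟩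
private noncomputable def _root_.Cfsg.Agent.LsF.f2d16fc_65 : {f // @Cfsg.Agent.HN.A12Step.L13 = f} := ⟨_, by first | (delta Cfsg.Agent.HN.A12Step.L13; rewrite [Cfsg.Agent.LsF.f2d16fc_31.2, Cfsg.Agent.LsF.f2d16fc_64.2]; exact rfl) | exact rfl⟩
private noncomputable def _root_.Cfsg.Agent.LsF.f2d16fc_66 : {f // @Cfsg.Agent.HN.A12Step.L14 = f} := ⟨_, by first | (delta Cfsg.Agent.HN.A12Step.L14; rewrite [Cfsg.Agent.LsF.f2d16fc_30.2, Cfsg.Agent.LsF.f2d16fc_65.2]; exact rfl) | exact rfl⟩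
private noncomputable def _root_.Cfsg.Agent.LsF.f2d16fc_67 : {f // @Cfsg.Agent.HN.A12Step.L15 = f} := ⟨_, by first | (delta Cfsg.Agent.HN.A12Step.L15; rewrite [Cfsg.Agent.LsF.f2d16fc_29.2, Cfsg.Agent.LsF.f2d16fc_66.2]; exact rfl) | exact rfl⟩
private noncomputable def _root_.Cfsg.Agent.LsF.f2d16fc_68 : {f // @Cfsg.Agent.HN.A12Step.L16 = f} := ⟨_, by first | (delta Cfsg.Agent.HN.A12Step.L16; rewrite [Cfsg.Agent.LsF.f2d16fc_28.2, Cfsg.Agent.LsF.f2d16fc_67.2]; exact rfl) | exact rfl⟩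
private noncomputable def _root_.Cfsg.Agent.LsF.f2d16fc_69 : {f // @Cfsg.Agent.HN.A12Step.L17 = f} := ⟨_, by first | (delta Cfsg.Agent.HN.A12Step.L17; rewrite [Cfsg.Agent.LsF.f2d16fc_27.2, Cfsg.Agent.LsF.f2d16fc_68.2]; exact rfl) | exact rfl⟩
private noncomputable def _root_.Cfsg.Agent.LsF.f2d16fc_70 : {f // @Cfsg.Agent.HN.A12Step.L18 = f} := ⟨_, by first | (delta Cfsg.Agent.HN.A12Step.L18; rewrite [Cfsg.Agent.LsF.f2d16fc_26.2, Cfsg.Agent.LsF.f2d16fc_69.2]; exact rfl) | exact rfl⟩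
private noncomputable def _root_.Cfsg.Agent.LsF.f2d16fc_71 : {f // @Cfsg.Agent.HN.A12Step.L19 = f} := ⟨_, by first | (delta Cfsg.Agent.HN.A12Step.L19; rewrite [Cfsg.Agent.LsF.f2d16fc_25.2, Cfsg.Agent.LsF.f2d16fc_70.2]; exact rfl) | exact rfl⟩
private noncomputable def _root_.Cfsg.Agent.LsF.f2d16fc_72 : {f // @Cfsg.Agent.HN.A12Step.L20 = f} := ⟨_, by first | (delta Cfsg.Agent.HN.A12Step.L20; rewrite [Cfsg.Agent.LsF.f2d16fc_24.2, Cfsg.Agent.LsF.f2d16fc_71.2]; exact rfl) | exact rfl⟩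
theorem ct6 : checkTr C (cw L20 [4, 7, 1, 8, 5, 6, 1, 8, 3, 9, 2, 7, 3, 0]) 0 133 1850 = true := by ((try (rewrite [Cfsg.Agent.LsF.f2d16fc_22.2, Cfsg.Agent.LsF.f2d16fc_72.2])); decide +kernel)

theorem tr_l6 : tr (ew l6) = 21 := by
  unfold tr
  rw [rho_ew, show (l6.map fun i => 9 - i) = [4, 7, 1, 8, 5, 6, 1, 8, 3, 9, 2, 7, 3, 0] from rfl,
    trace_of_chunks Cfsg.Agent.HN.Rep.good Cfsg.Agent.HN.Rep.one_lt codes (by decide) [(133, 1850)] (by decide)
      ⟨ct6, trivial⟩]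
  decide

theorem tr_t6 : tr (Φ ⟨t6, t6_mem⟩) = 21 := by
  rw [tr_of (l := l6) (by decide) (g := cy [1, 2] * cy [5, 6, 8] * cy [7, 9, 11, 10])
    t6_mem (by rw [mem_alternatingGroup]; decide +kernel) (by decide +kernel), tr_l6]

theorem tr_x4 : tr (Φ ⟨x4, x4_mem⟩) = 7 := by
  rw [tr_of (l := Cfsg.Agent.H845.HNTr.l4) (by decide) (g := cy [1, 3, 6, 11, 2, 9, 7, 5] * cy [8, 10])
    x4_mem (by rw [mem_alternatingGroup]; decide +kernel) (by decide +kernel), Cfsg.Agent.H845.HNTr.tr_l4]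

/-! ### Involutions -/

theorem conj_S1 : IsConj S1 W0 := isConj_W0_of_tr order_S1 tr_s1

/-- every involution is conjugate to the image of `t2` or `s1` -/
theorem inv_cases {u : Cfsg.Spor.HN} (hu : orderOf u = 2) : IsConj u (Φ ⟨t2, t2_mem⟩) ∨ IsConj u (Φ ⟨s1, s1_mem⟩) := by
  rcases inv_class hu with h | h
  · exact Or.inl (h.trans isConj_tt.symm)
  · exact Or.inr (h.trans conj_S1.symm)

/-- `2 ^ 2` and `2 ^ 6` -/
theorem conj_two : IsConj (Φ ⟨t2, t2_mem⟩) (Φ ⟨t6, t6_mem⟩) := by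
  rcases inv_cases (orderOf_two t6_mem (by decide +kernel) (by decide +kernel)) with h | h
  · exact h.symm
  · exfalso
    have h1 := tr_conj h
    have h2 : tr (Φ ⟨s1, s1_mem⟩) = 5 := tr_s1
    rw [tr_t6, h2] at h1
    exact absurd h1 (by decide)

/-! ### Elements of order 3 -/

/-- commutes with `x4` -/
def u4 : Equiv.Perm (Fin 12) := cy [0, 3] * cy [1, 4] * cy [2, 5] * cy [6, 9] * cy [7, 10] * cy [8, 11]

theorem u4_mem : u4 ∈ alternatingGroup (Fin 12) := by rw [mem_alternatingGroup]; decide +kernel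

/-- `3` and `3 ^ 4` -/
theorem conj_three : IsConj (Φ ⟨x1, x1_mem⟩) (Φ ⟨x4, x4_mem⟩) := by
  have h3 : orderOf (Φ ⟨x4, x4_mem⟩) = 3 := orderOf_three x4_mem (by decide +kernel) (by decide +kernel)
  have h2 : orderOf (Φ ⟨u4, u4_mem⟩) = 2 := orderOf_two u4_mem (by decide +kernel) (by decide +kernel)
  obtain ⟨s, hs, hc⟩ := exists_two h3 h2 (_root_.Cfsg.Agent.CpAutHN.Pairs.comm_of x4_mem u4_mem (by decide +kernel))
  rcases T1_or_T2 h3 hs hc with h | h
  · exfalso
    obtain ⟨c, hc, -⟩ := t1_x3.conj order_X3 h3 h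
    have h4 := tr_conj (isConj_iff.2 ⟨c, hc⟩)
    have h5 : tr X3 = 29 := tr_x3
    rw [tr_x4, h5] at h4
    exact absurd h4 (by decide)
  · obtain ⟨c, hc, -⟩ := t2_x1.conj order_X1 h3 h
    exact isConj_iff.2 ⟨c, hc⟩

/-! ### Elements of order 11 -/

theorem order_x11 : orderOf (Φ ⟨x11, x11_mem⟩) = 11 := by
  have : Fact (Nat.Prime 11) := ⟨by norm_num⟩
  rw [orderOf_injective Φ Φ_inj]
  apply orderOf_eq_prime
  · apply Subtype.ext
    change x11 ^ 11 = 1
    decide +kernel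
  · intro h
    exact absurd (congrArg Subtype.val h) (by decide +kernel : ¬ x11 = 1)

/-- the centralizer of a power -/
theorem centralizer_pow {G : Type*} [Group G] {x : G} {i : ℕ} (h : Nat.Coprime (orderOf x) i) :
    centralizer ({x ^ i} : Set G) = centralizer ({x} : Set G) := by
  ext g
  rw [mem_centralizer_singleton_iff, mem_centralizer_singleton_iff]
  constructor
  · intro hg
    obtain ⟨j, hj⟩ : ∃ j, (x ^ i) ^ j = x := exists_pow_eq_self_of_coprime h.symm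
    have h1 : Commute g ((x ^ i) ^ j) := (show Commute g (x ^ i) from hg).pow_right j
    rw [hj] at h1
    exact h1
  · intro hg
    exact (show Commute g x from hg).pow_right i

/-- **The centralizer of an element of order 11.** -/
theorem card_cent {y : Cfsg.Spor.HN} (hy : orderOf y = 11) :
    Nat.card (centralizer ({y} : Set Cfsg.Spor.HN)) = 22 := by
  have := Cfsg.Agent.H710.Spor.HN.finite_hn
  obtain ⟨c, i, hc, hi⟩ := Cfsg.Agent.H695.Third.exists_conj_pow Cfsg.Agent.H710.Spor.HNMix.fac11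
    Cfsg.Agent.H710.Spor.HNMix.orderOf_ψx hy
  have hco : Nat.Coprime 11 i := (Nat.Prime.coprime_iff_not_dvd (by norm_num)).2 hi
  rw [card_cent_conj (isConj_iff.2 ⟨c, hc⟩), centralizer_pow (by rw [Cfsg.Agent.H710.Spor.HNMix.orderOf_ψx]; exact hco)]
  exact Cfsg.Agent.H175.Ore.HNEl.card_cent

end Cfsg.Agent.H175.Ore.HNFus
end

private theorem dce_1792096a1334 : _root_.True := by
  try have : _root_.True := by simp only [_root_.Cfsg.Agent.H175.Ore.AltRows.vP.eq_1]
  try have : _root_.True := by simp only [_root_.Cfsg.Agent.H175.Ore.AltRows.vA.eq_1]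
  try have : _root_.True := by simp only [_root_.Cfsg.Agent.H175.Ore.SymTab.allTo.eq_def]
  try have : _root_.True := by simp only [_root_.Cfsg.Agent.H175.Ore.SymTab.vdm.eq_def]
  try have : _root_.True := by simp only [_root_.Cfsg.Agent.H175.Ore.SymTab.sumTo.eq_1]
  try have : _root_.True := by simp only [_root_.Cfsg.Agent.H175.Ore.SymTab.ev.eq_2]
  try have : _root_.True := by simp only [_root_.Cfsg.Agent.H175.Ore.SymTab.fac.eq_2]
  try have : _root_.True := by simp only [_root_.Cfsg.Agent.H175.Ore.SymTab.vdm.eq_2]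
  try have : _root_.True := by simp only [_root_.Cfsg.Agent.H175.Ore.SymTab.allTo.eq_2]
  try have : _root_.True := by simp only [_root_.Cfsg.Agent.H175.Ore.SymTab.chk.eq_1]
  try have : _root_.True := by simp only [_root_.Cfsg.Agent.H175.Ore.SymTab.vdm.eq_1]
  try have : _root_.True := by simp only [_root_.Cfsg.Agent.H175.Ore.SymTab.allTo.eq_1]
  try have : _root_.True := by simp only [_root_.Cfsg.Agent.H175.Ore.SymTab.dl.eq_1]
  try have : _root_.True := by simp only [_root_.Cfsg.Agent.H175.Ore.SymTab.en.eq_1]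
  try have : _root_.True := by simp only [_root_.Cfsg.Agent.H175.Ore.SymTab.en.eq_def]
  try have : _root_.True := by simp only [_root_.Cfsg.Agent.H175.Ore.SymTab.dl.eq_def]
  try have : _root_.True := by simp only [_root_.Cfsg.Agent.H175.Ore.SymTab.dl.eq_2]
  try have : _root_.True := by simp only [_root_.Cfsg.Agent.H175.Ore.SymTab.en.eq_2]
  try have : _root_.True := by simp only [_root_.Cfsg.Agent.H175.Ore.SymTab.sumTo.eq_2]
  try have : _root_.True := by simp only [_root_.Cfsg.Agent.H175.Ore.SymTab.ev.eq_1]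
  try have : _root_.True := by simp only [_root_.Cfsg.Agent.H175.Ore.SymTab.fac.eq_1]
  try have : _root_.True := by simp only [_root_.Cfsg.Agent.H175.Ore.SymTab.fac.eq_def]
  try have : _root_.True := by simp only [_root_.Cfsg.Agent.H175.Ore.SymTab.vec.eq_1]
  try have : _root_.True := by simp only [_root_.Cfsg.Agent.H175.Ore.SymTab.sumTo.eq_def]
  try have : _root_.True := by simp only [_root_.Cfsg.Agent.H175.Ore.SymTab.ev.eq_def]
  exact _root_.True.intro
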